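import Groth.Agent.AlgSpBasic.Glue
import Groth.Agent.AlgSpBasic.OpenSub
import Groth.Agent.AlgSp2.SigmaGlue

/-!
# Maps out of disjoint unions of schemes into sheaves

Representability and properties of such a map are checked on the summands.
-/

set_option autoImplicit false

universe u

open CategoryTheory CategoryTheory.Limits AlgebraicGeometry Opposite

noncomputable section

namespace Groth.HenselPoint

open AlgSp Groth.AlgSpBasic Groth.AlgSp2

variable {S : Scheme.{u}} {ι : Type u} {V : ι → Over S} {G : Sp S}

theorem repWith_sigmaIncl_openImm (i : ι) :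
    RepWith @IsOpenImmersion ((yon S).map (sigmaIncl V i)) :=
  (repWith_yon_map_iff _ _).2 (inferInstanceAs (IsOpenImmersion (Limits.Sigma.ι _ i)))

theorem exists_sigmaIncl_eq (w : (Groth.AlgSp2.sigmaObj V).left) :
    ∃ i, w ∈ Set.range (sigmaIncl V i).left.base := by
  obtain ⟨i, x, hx⟩ := (sigmaOpenCover fun i => (V i).left).exists_eq w
  exact ⟨i, x, hx⟩

/-- A map out of a disjoint union with all restrictions representable with `P` has `P`, for `P`
local on the source. -/
theorem repWith_sigma {P : MorphismProperty Scheme.{u}} [P.RespectsIso]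
    [IsZariskiLocalAtSource P] (p : (yon S).obj (Groth.AlgSp2.sigmaObj V) ⟶ G)
    (h : ∀ i, RepWith P ((yon S).map (sigmaIncl V i) ≫ p)) : RepWith P p := by
  refine repWith_of_exists fun T g => ?_
  let H : Sp S := pullback p g
  choose X sX fX sqX using fun i => (h i).rep g
  have hPX : ∀ i, P (sX i).left := fun i => (h i).property g _ _ (sqX i)
  let l : ∀ i, (yon S).obj (X i) ⟶ H := fun i =>
    pullback.lift (fX i ≫ (yon S).map (sigmaIncl V i)) ((yon S).map (sX i))
      (by rw [Category.assoc]; exact (sqX i).w)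
  have hl₁ : ∀ i, l i ≫ pullback.fst p g = fX i ≫ (yon S).map (sigmaIncl V i) :=
    fun i => pullback.lift_fst _ _ _
  have hl₂ : ∀ i, l i ≫ pullback.snd p g = (yon S).map (sX i) := fun i => pullback.lift_snd _ _ _
  have sql : ∀ i, IsPullback (fX i) (l i) ((yon S).map (sigmaIncl V i)) (pullback.fst p g) :=
    fun i => IsPullback.of_bot (by rw [hl₂]; exact sqX i) (hl₁ i).symm
      (IsPullback.of_hasPullback p g)
  have hli : ∀ i, RepWith @IsOpenImmersion (l i) := fun i =>
    repWith_of_isPullback (sql i) (repWith_sigmaIncl_openImm i)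
  obtain ⟨W, ⟨eW⟩⟩ := exists_iso_yon_of_openImmersions hli fun T' g' t => by
    obtain ⟨w, hw⟩ := (yon S).map_surjective (g' ≫ pullback.fst p g)
    obtain ⟨i, v, hv⟩ := exists_sigmaIncl_eq (w.left.base t)
    obtain ⟨Y, snd, fst, sq⟩ := (hli i).rep g'
    refine ⟨i, Y, fst, snd, sq, ?_⟩
    obtain ⟨fst', hfst'⟩ := (yon S).map_surjective (fst ≫ fX i)
    have sq' : IsPullback ((yon S).map fst') ((yon S).map snd) ((yon S).map (sigmaIncl V i))
        ((yon S).map w) := by
      rw [hfst', hw]
      exact sq.paste_horiz (sql i)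
    obtain ⟨y, -, hy⟩ := Scheme.exists_preimage_of_isPullback
      (isPullback_left (isPullback_of_yon sq')) v t hv
    exact ⟨y, hy⟩
  obtain ⟨s, hs⟩ := (yon S).map_surjective (eW.hom ≫ pullback.snd p g)
  refine ⟨W, eW.hom ≫ pullback.fst p g, s, ?_, ?_⟩
  · rw [hs]
    exact (IsPullback.of_hasPullback p g).of_iso eW.symm (Iso.refl _) (Iso.refl _) (Iso.refl _)
      (by simp) (by simp) (by simp) (by simp)
  · choose m hm using fun i => (yon S).map_surjective (l i ≫ eW.inv)
    have hms : ∀ i, m i ≫ s = sX i := fun i => (yon S).map_injective (by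
      rw [Functor.map_comp, hm, hs, Category.assoc, Iso.inv_hom_id_assoc, hl₂])
    have hmo : ∀ i, IsOpenImmersion (m i).left := fun i => by
      refine (repWith_yon_map_iff _ _).1 ?_
      rw [hm]
      have : MorphismProperty.IsStableUnderComposition @IsOpenImmersion.{u} := inferInstance
      exact repWith_comp (hli i) (repWith_isIso eW.inv)
    obtain ⟨w₀, hw₀⟩ := (yon S).map_surjective (eW.hom ≫ pullback.fst p g)
    have hcov : ∀ x : W.left, ∃ i, x ∈ Set.range (m i).left.base := fun x => by
      obtain ⟨i, v, hv⟩ := exists_sigmaIncl_eq (w₀.left.base x)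
      obtain ⟨f', hf'⟩ := (yon S).map_surjective (fX i)
      have sq' : IsPullback ((yon S).map f') ((yon S).map (m i)) ((yon S).map (sigmaIncl V i))
          ((yon S).map w₀) := by
        rw [hf', hm, hw₀]
        exact (sql i).of_iso (Iso.refl _) (Iso.refl _) eW.symm (Iso.refl _)
          (by simp) (by simp) (by simp) (by simp)
      obtain ⟨y, -, hy⟩ := Scheme.exists_preimage_of_isPullback
        (isPullback_left (isPullback_of_yon sq')) v x hv
      exact ⟨i, y, hy⟩
    choose i hi using hcov
    let 𝒰 : W.left.OpenCover :=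
      { I₀ := W.left
        X := fun x => (X (i x)).left
        f := fun x => (m (i x)).left
        mem₀ := by
          rw [Scheme.presieve₀_mem_precoverage_iff]
          exact ⟨fun x => ⟨x, hi x⟩, fun x => hmo (i x)⟩ }
    rw [IsZariskiLocalAtSource.iff_of_openCover (P := P) 𝒰]
    intro x
    show P ((m (i x)).left ≫ s.left)
    rw [← Over.comp_left, hms]
    exact hPX _

end Groth.HenselPoint
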