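import Groth.Agent.HenselPoint.Multisection
import Groth.Agent.AlgSpBasic.Glue
import Mathlib.FieldTheory.IsAlgClosed.AlgebraicClosure
import Mathlib.Logic.Small.Basic

/-!
# Étale charts through all points over quotients of a henselian local ring
-/

set_option autoImplicit false

universe u

open CategoryTheory CategoryTheory.Limits AlgebraicGeometry IsLocalRing Opposite

noncomputable section

namespace Groth.HenselPoint

open AlgSp Groth.AlgSpBasic

variable {S : Scheme.{u}}

/-- Maps into a sheaf out of an empty scheme are unique. -/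
theorem eq_of_isEmpty {T : Over S} [IsEmpty T.left] {F : Sp S} (x y : (yon S).obj T ⟶ F) :
    x = y := by
  have hs : Presieve.IsSheaf (J S) F.obj := (isSheaf_iff_isSheaf_of_type _ _).1 F.property
  have hmem : (⊥ : Sieve T) ∈ J S T := by
    rw [J_eq, GrothendieckTopology.mem_over_iff]
    exact GrothendieckTopology.superset_covering _ ((Sieve.generate_le_iff _ _).2 bot_le)
      (Precoverage.generate_mem_toGrothendieck (Scheme.zariskiPrecoverage_le_fppfPrecoverage _
        (Scheme.bot_mem_precoverage _ T.left)))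
  apply (J S).uliftYonedaEquiv.injective
  exact Presieve.IsSeparatedFor.ext (hs _ hmem).isSeparatedFor fun Z g hg => hg.elim

/-- A coproduct of affine schemes is separated. -/
theorem isSeparated_sigma {ι : Type u} (V : ι → Scheme.{u}) [∀ i, IsAffine (V i)] :
    (∐ V).IsSeparated := by
  let f : ∐ V ⟶ Spec (CommRingCat.of (∀ i, Γ(V i, ⊤))) :=
    Limits.Sigma.map (fun i => (V i).isoSpec.hom) ≫ sigmaSpec fun i => Γ(V i, ⊤)
  exact ⟨by rw [← terminal.comp_from f]; infer_instance⟩

variable {R : Type u} [CommRing R] [HenselianLocalRing R]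
  (str : Spec (CommRingCat.of R) ⟶ S) (X : AlgSp.Space S)

/-- The points over the residue field form a small type. -/
theorem small_residue_points :
    Small.{u} ((yon S).obj (Over.mk (Spec.map (CommRingCat.ofHom (residue R)) ≫ str)) ⟶ X.obj) := by
  obtain ⟨U, c, he, hs⟩ := X.property.atlas
  let k := ResidueField R
  let sk : Spec (CommRingCat.of k) ⟶ S := Spec.map (CommRingCat.ofHom (residue R)) ≫ str
  let Ω := AlgebraicClosure k
  let T (F : IntermediateField k Ω) : Over S :=
    Over.mk (Spec.map (CommRingCat.ofHom (algebraMap k F)) ≫ sk)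
  let cT (F : IntermediateField k Ω) : T F ⟶ Over.mk sk :=
    Over.homMk (Spec.map (CommRingCat.ofHom (algebraMap k F))) rfl
  have key : ∀ x : (yon S).obj (Over.mk sk) ⟶ X.obj,
      ∃ (F : IntermediateField k Ω) (w : T F ⟶ U), FiniteDimensional k F ∧
        (yon S).map (cT F) ≫ x = (yon S).map w ≫ c := by
    intro x
    obtain ⟨E, fst, snd, sq⟩ := exists_pullback_yon he.rep x
    have : Etale snd.left := repWith_fst_of_isPullback sq he
    have : Surjective snd.left := repWith_fst_of_isPullback sq hs
    obtain ⟨z, -⟩ := this.surj (closedPoint k)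
    obtain ⟨W, hW, hzW, -⟩ := exists_isAffineOpen_mem_and_subset
      (x := z) (U := (⊤ : E.left.Opens)) trivial
    let C := Γ(E.left, W)
    let g : CommRingCat.of k ⟶ C := Spec.preimage (hW.fromSpec ≫ snd.left)
    have hg : Spec.map g = hW.fromSpec ≫ snd.left := Spec.map_preimage _
    let algC : Algebra k C := g.hom.toAlgebra
    have : Algebra.Etale k C := RingHom.etale_algebraMap.1
      ((HasRingHomProperty.Spec_iff (P := @Etale)).1 (hg ▸ inferInstance : Etale (Spec.map g)))
    obtain ⟨z', -⟩ : z ∈ Set.range hW.fromSpec.base := by rw [hW.range_fromSpec]; exact hzW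
    have : Nontrivial C := (algebraMap C z'.asIdeal.ResidueField).domain_nontrivial
    obtain ⟨K, _, _, φ, hfin, -, -⟩ := exists_galois_point k C
    let ι : K →ₐ[k] Ω := IsAlgClosed.lift
    let ψ : C →ₐ[k] ι.fieldRange := ι.rangeRestrict.comp φ
    have hψ : Spec.map (CommRingCat.ofHom ψ.toRingHom) ≫ Spec.map g =
        Spec.map (CommRingCat.ofHom (algebraMap k ι.fieldRange)) := by
      rw [← Spec.map_comp]
      congr 1
      refine CommRingCat.hom_ext (RingHom.ext fun r => ?_)
      exact ψ.commutes r
    let w : T ι.fieldRange ⟶ E :=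
      Over.homMk (Spec.map (CommRingCat.ofHom ψ.toRingHom) ≫ hW.fromSpec) (by
        show (Spec.map _ ≫ hW.fromSpec) ≫ E.hom = Spec.map _ ≫ sk
        rw [← Over.w snd]
        simp only [Category.assoc]
        rw [← Category.assoc hW.fromSpec, ← hg, reassoc_of% hψ]
        rfl)
    refine ⟨ι.fieldRange, w ≫ fst, ι.toLinearMap.finiteDimensional_range, ?_⟩
    have hw : cT ι.fieldRange = w ≫ snd := by
      apply Over.OverMorphism.ext
      show Spec.map _ = (Spec.map _ ≫ hW.fromSpec) ≫ snd.left
      rw [Category.assoc, ← hg, hψ]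
    rw [hw, Functor.map_comp, Functor.map_comp, Category.assoc, Category.assoc, sq.w]
  choose F w hfin hw using key
  refine small_of_injective (β := Σ F : IntermediateField k Ω, (T F ⟶ U))
    (f := fun x => ⟨F x, w x⟩) fun x y hxy => ?_
  have hx := hw x
  have hy := hw y
  have := hfin x
  have key : ∀ (p q : Σ G : IntermediateField k Ω, (T G ⟶ U)), p = q →
      (yon S).map (cT p.1) ≫ x = (yon S).map p.2 ≫ c →
      (yon S).map (cT q.1) ≫ y = (yon S).map q.2 ≫ c →
        (yon S).map (cT p.1) ≫ x = (yon S).map (cT p.1) ≫ y := by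
    rintro p q rfl h h'
    exact h.trans h'.symm
  have heq := key ⟨F x, w x⟩ ⟨F y, w y⟩ hxy hx hy
  have : Surjective (cT (F x)).left := ⟨PrimeSpectrum.comap_surjective_of_faithfullyFlat⟩
  have : Flat (cT (F x)).left := Flat.SpecMap_iff.2 (RingHom.flat_algebraMap_iff.2 inferInstance)
  have : Module.FinitePresentation k (F x) := Module.finitePresentation_of_projective k (F x)
  have : LocallyOfFinitePresentation (cT (F x)).left :=
    (HasRingHomProperty.Spec_iff (P := @LocallyOfFinitePresentation)).2
      (RingHom.finitePresentation_algebraMap.2 (inferInstance : Algebra.FinitePresentation k (F x)))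
  exact eq_of_map_eq (cT (F x)) heq

/-- A family of affine étale charts through all points over quotients of `R`, indexed by the points
over the residue field. -/
theorem exists_chart_family :
    ∃ (Z : Over S) (p : (yon S).obj Z ⟶ X.obj), Z.left.IsSeparated ∧ RepWith @Etale p ∧
      (∀ (_ : Finite ((yon S).obj (Over.mk (Spec.map (CommRingCat.ofHom (residue R)) ≫ str)) ⟶
        X.obj)), IsAffine Z.left) ∧
      ∀ (a : Ideal R)
        (x : (yon S).obj (Over.mk (Spec.map (CommRingCat.ofHom (Ideal.Quotient.mk a)) ≫ str)) ⟶ X.obj),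
        ∃ g : Over.mk (Spec.map (CommRingCat.ofHom (Ideal.Quotient.mk a)) ≫ str) ⟶ Z,
          (yon S).map g ≫ p = x := by
  classical
  have := small_residue_points str X
  let ι := Shrink.{u} ((yon S).obj (Over.mk (Spec.map (CommRingCat.ofHom (residue R)) ≫ str)) ⟶ X.obj)
  let pt : ι → _ := fun i => (equivShrink _).symm i
  choose Zi pi hZi hpi hlift using fun i => exists_chart_of_residue_point str X (pt i)
  let Z : Over S := Over.mk (Limits.Sigma.desc fun i => (Zi i).hom)
  let 𝒰 : Z.left.OpenCover := sigmaOpenCover fun i => (Zi i).left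
  let inc (i : ι) : Zi i ⟶ Z := Over.homMk (Limits.Sigma.ι (fun i => (Zi i).left) i) (Limits.Sigma.ι_desc (fun i => (Zi i).hom) _)
  let eZ (i : ι) : (Over.mk (𝒰.f i ≫ Z.hom) : Over S) ⟶ Zi i :=
    Over.homMk (𝟙 _) (by
      show 𝟙 _ ≫ (Zi i).hom = Limits.Sigma.ι (fun i => (Zi i).left) i ≫ Z.hom
      rw [Category.id_comp]; exact (Limits.Sigma.ι_desc (fun i => (Zi i).hom) _).symm)
  obtain ⟨p, hp⟩ := exists_glue_of_openCover 𝒰 (fun i => (yon S).map (eZ i) ≫ pi i) (by
    intro i j T q r hqr
    by_cases hij : i = j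
    · subst hij
      have : q = r := Over.OverMorphism.ext ((cancel_mono (𝒰.f i)).1 hqr)
      rw [this]
    · have : IsEmpty T.left := ⟨fun t => by
        have h1 := congrArg (fun m : T.left ⟶ Z.left => m.base t) hqr
        have h2 : (Limits.Sigma.ι (fun i => (Zi i).left) i).base (q.left.base t) =
            (Limits.Sigma.ι (fun i => (Zi i).left) j).base (r.left.base t) := h1
        exact hij (congrArg Sigma.fst
          ((sigmaι_eq_iff (fun i => (Zi i).left) i j _ _).1 h2))⟩
      exact eq_of_isEmpty _ _)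
  have hpinc : ∀ i, (yon S).map (inc i) ≫ p = pi i := fun i => by
    let eZ' : Zi i ⟶ (Over.mk (𝒰.f i ≫ Z.hom) : Over S) := Over.homMk (𝟙 _) (by
      show 𝟙 _ ≫ Limits.Sigma.ι (fun i => (Zi i).left) i ≫ Z.hom = (Zi i).hom
      rw [Category.id_comp]; exact Limits.Sigma.ι_desc (fun i => (Zi i).hom) _)
    have h1 : inc i = eZ' ≫ Over.homMk (𝒰.f i) rfl := by
      apply Over.OverMorphism.ext; exact (Category.id_comp _).symm
    have h2 : eZ' ≫ eZ i = 𝟙 _ := by
      apply Over.OverMorphism.ext; exact Category.id_comp _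
    rw [h1, Functor.map_comp, Category.assoc, hp, ← Category.assoc, ← Functor.map_comp, h2]
    exact (congrArg (· ≫ pi i) ((yon S).map_id _)).trans (Category.id_comp _)
  have hpe : RepWith @Etale p := by
    refine repWith_of_locP X.property (IsAlgSpace.representable_from_yon X.property p) ?_
    intro U' V' a b h ha hb hcomm
    obtain ⟨a, rfl⟩ := (yon S).map_surjective a
    have hae : Etale a.left := (repWith_yon_map_iff _ _).1 ha
    rw [IsZariskiLocalAtSource.iff_of_openCover (P := @Etale) (𝒰.pullback₁ a.left)]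
    intro i
    let W : Over S := Over.mk (pullback.fst a.left (𝒰.f i) ≫ U'.hom)
    let w₁ : W ⟶ U' := Over.homMk (pullback.fst a.left (𝒰.f i)) rfl
    let w₂ : W ⟶ Zi i := Over.homMk (pullback.snd a.left (𝒰.f i)) (by
      show _ ≫ (Zi i).hom = pullback.fst a.left (𝒰.f i) ≫ U'.hom
      rw [← Over.w a, pullback.condition_assoc]
      congr 1
      exact (Limits.Sigma.ι_desc (fun i => (Zi i).hom) _).symm)
    have hww : w₁ ≫ a = w₂ ≫ inc i := by
      apply Over.OverMorphism.ext; exact pullback.condition
    have hw₂ : RepWith @Etale ((yon S).map w₂) :=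
      (repWith_yon_map_iff _ _).2 (inferInstanceAs (Etale (pullback.snd a.left (𝒰.f i))))
    have hpl : LocP @Etale (pi i) := locP_of_repWith (hpi i)
    exact hpl ((yon S).map w₂) b (w₁ ≫ h) hw₂ hb (by
      rw [← hpinc i, ← Functor.map_comp_assoc, ← hww, Functor.map_comp, Category.assoc, hcomm,
        ← Functor.map_comp_assoc])
  have hsep : Z.left.IsSeparated := isSeparated_sigma fun i => (Zi i).left
  refine ⟨Z, p, hsep, hpe, fun hfin => ?_, fun a x => ?_⟩
  · have : Finite ι := Finite.of_equiv _ (equivShrink _)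
    exact inferInstanceAs (IsAffine (∐ fun i => (Zi i).left))
  · by_cases ha : a = ⊤
    · have : Subsingleton (R ⧸ a) := Ideal.Quotient.subsingleton_iff.2 ha
      have he : IsEmpty (Over.mk (Spec.map (CommRingCat.ofHom (Ideal.Quotient.mk a)) ≫ str) :
          Over S).left := inferInstanceAs (IsEmpty (PrimeSpectrum (R ⧸ a)))
      exact ⟨Over.homMk (isInitialOfIsEmpty.to Z.left) (isInitialOfIsEmpty.hom_ext _ _),
        eq_of_isEmpty _ _⟩
    · let qa : Over.mk (Spec.map (CommRingCat.ofHom (residue R)) ≫ str) ⟶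
          Over.mk (Spec.map (CommRingCat.ofHom (Ideal.Quotient.mk a)) ≫ str) :=
        Over.homMk (Spec.map (CommRingCat.ofHom (toResidue ha))) (by
          show Spec.map _ ≫ Spec.map _ ≫ str = _
          rw [← Spec.map_comp_assoc]
          rfl)
      obtain ⟨g, hg⟩ := hlift (equivShrink _ ((yon S).map qa ≫ x)) a ha _ rfl qa rfl x
        ((equivShrink _).symm_apply_apply _).symm
      exact ⟨g ≫ inc _, by rw [Functor.map_comp, Category.assoc, hpinc, hg]⟩

end Groth.HenselPoint
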