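import Groth.Agent.HenselPoint.GaloisRing
import Groth.Agent.Hensel1.Finite
import Mathlib.FieldTheory.PrimitiveElement
import Mathlib.FieldTheory.Galois.Basic

/-!
# Lifting finite Galois residue extensions to henselian local rings
-/

set_option autoImplicit false

open Polynomial IsLocalRing

namespace Groth.HenselPoint

universe u

/-- A lift of a finite Galois extension `K` of the residue field of `R`. -/
structure GaloisLiftData (R K : Type u) [CommRing R] [IsLocalRing R] [Field K]
    [Algebra (ResidueField R) K] where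
  ring : Type u
  [commRing : CommRing ring]
  [algebra : Algebra R ring]
  Γ : Type u
  [group : Group Γ]
  [fintype : Fintype Γ]
  [decEq : DecidableEq Γ]
  [action : MulSemiringAction Γ ring]
  [smulComm : SMulCommClass Γ R ring]
  [henselian : HenselianLocalRing ring]
  [finite : Module.Finite R ring]
  [free : Module.Free R ring]
  isGalois : IsGaloisExt R ring Γ
  toField : ring →+* K
  surjective : Function.Surjective toField
  toField_algebraMap : ∀ r, toField (algebraMap R ring r) = algebraMap _ K (residue R r)
  toAut : Γ ≃ (K ≃ₐ[ResidueField R] K)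
  toAut_mul : ∀ γ δ, toAut (γ * δ) = toAut γ * toAut δ
  toField_smul : ∀ γ x, toField (γ • x) = toAut γ (toField x)

attribute [instance] GaloisLiftData.commRing GaloisLiftData.algebra GaloisLiftData.group
  GaloisLiftData.fintype GaloisLiftData.decEq GaloisLiftData.action GaloisLiftData.smulComm
  GaloisLiftData.henselian GaloisLiftData.finite GaloisLiftData.free

/-- A surjective family of translates gives a Galois extension. -/
theorem isGaloisExt_of_span {R R' Γ : Type u} [CommRing R] [CommRing R'] [Algebra R R']
    [Group Γ] [Fintype Γ] [DecidableEq Γ] [MulSemiringAction Γ R'] [SMulCommClass Γ R R']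
    [Nontrivial R'] {d : ℕ} (e : Module.Basis (Fin d) R R') (hd : Fintype.card Γ = d)
    (hspan : Submodule.span R' (Set.range fun i => fun γ : Γ => γ • e i) = ⊤) :
    IsGaloisExt R R' Γ := by
  have hv : ∀ x : Γ → R', ∃ w : Fin d → R', ∑ i, w i • (fun γ : Γ => γ • e i) = x := fun x =>
    (Submodule.mem_span_range_iff_exists_fun R').1 (hspan ▸ Submodule.mem_top)
  constructor
  · obtain ⟨w, hw⟩ := hv (fun γ => if γ = 1 then 1 else 0)
    refine ⟨d, w, fun i => e i, fun γ => ?_⟩
    have := congrFun hw γ
    simpa [Finset.sum_apply, Pi.smul_apply, smul_eq_mul] using this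
  · intro x hx
    have hli : LinearIndependent R' fun i => fun γ : Γ => γ • e i := by
      let L := Fintype.linearCombination R' fun i => fun γ : Γ => γ • e i
      let σ : (Γ → R') ≃ₗ[R'] (Fin d → R') :=
        LinearEquiv.funCongrLeft R' R' ((finCongr hd).symm.trans (Fintype.equivFin Γ).symm)
      have hL : Function.Surjective L := fun x => by
        obtain ⟨w, hw⟩ := hv x
        exact ⟨w, by simpa [L, Fintype.linearCombination_apply] using hw⟩
      have := OrzechProperty.injective_of_surjective_endomorphism (σ.toLinearMap ∘ₗ L)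
        (σ.surjective.comp hL)
      exact Fintype.linearIndependent_iffₛ.2 fun f g h => congrFun (this (by
        simp [L, Fintype.linearCombination_apply, h]))
    obtain ⟨i₁, hi₁⟩ : ∃ c : Fin d → R, ∑ i, c i • e i = 1 := ⟨_, e.sum_repr 1⟩
    -- compare two expansions of the constant family `x`
    have h1 : ∑ i, (x * algebraMap R R' (i₁ i)) • (fun γ : Γ => γ • e i) =
        ∑ i, algebraMap R R' (e.repr x i) • (fun γ : Γ => γ • e i) := by
      funext γ
      simp only [Finset.sum_apply, Pi.smul_apply, smul_eq_mul]
      have hl : ∑ i, x * algebraMap R R' (i₁ i) * γ • e i = x := by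
        calc _ = x * γ • (∑ i, i₁ i • e i) := by
              rw [Finset.smul_sum, Finset.mul_sum]
              exact Finset.sum_congr rfl fun i _ => by
                rw [Algebra.smul_def, smul_mul', smul_algebraMap, mul_assoc]
          _ = x := by simp [hi₁]
      have hr : ∑ i, algebraMap R R' (e.repr x i) * γ • e i = x := by
        calc _ = γ • (∑ i, e.repr x i • e i) := by
              rw [Finset.smul_sum]
              exact Finset.sum_congr rfl fun i _ => by
                rw [Algebra.smul_def, smul_mul', smul_algebraMap]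
          _ = x := by rw [e.sum_repr, hx]
      rw [hl, hr]
    have h2 : ∀ i, x * algebraMap R R' (i₁ i) = algebraMap R R' (e.repr x i) := fun i =>
      congrFun (funext (Fintype.linearIndependent_iffₛ.1 hli _ _ h1)) i
    -- the coordinates of `1` generate the unit ideal
    obtain ⟨φ, hφ⟩ : ∃ φ : Fin d → R', ∑ i, φ i * algebraMap R R' (i₁ i) = 1 :=
      ⟨fun i => e i, by simp_rw [mul_comm, ← Algebra.smul_def]; exact hi₁⟩
    have hJ : Ideal.span (Set.range i₁) = ⊤ := by
      by_contra hne
      obtain ⟨M, hM, hle⟩ := Ideal.exists_le_maximal _ hne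
      have hmem : (1 : R') ∈ M.map (algebraMap R R') := by
        rw [← hφ]
        exact Ideal.sum_mem _ fun i _ => Ideal.mul_mem_left _ _
          (Ideal.mem_map_of_mem _ (hle (Ideal.subset_span ⟨i, rfl⟩)))
      have : Module.Free R R' := Module.Free.of_basis e
      have : Module.FaithfullyFlat R R' := inferInstance
      have htop : M.map (algebraMap R R') = ⊤ := (Ideal.eq_top_iff_one _).2 hmem
      exact hM.ne_top (by
        rw [← Ideal.comap_map_eq_self_of_faithfullyFlat (B := R') M, htop, Ideal.comap_top])
    obtain ⟨a, ha⟩ := (Ideal.mem_span_range_iff_exists_fun).1 ((Ideal.eq_top_iff_one _).1 hJ)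
    refine ⟨∑ i, a i * e.repr x i, ?_⟩
    calc algebraMap R R' (∑ i, a i * e.repr x i)
        = x * algebraMap R R' (∑ i, a i * i₁ i) := by
          simp only [map_sum, map_mul, Finset.mul_sum, ← h2]
          exact Finset.sum_congr rfl fun i _ => by ring
      _ = x := by rw [ha, map_one, mul_one]

/-- Finite Galois extensions of the residue field lift to finite Galois extensions. -/
theorem exists_galoisLiftData (R : Type u) [CommRing R] [HenselianLocalRing R] (K : Type u)
    [Field K] [Algebra (ResidueField R) K] [FiniteDimensional (ResidueField R) K]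
    [IsGalois (ResidueField R) K] : Nonempty (GaloisLiftData R K) := by
  classical
  obtain ⟨θ, hθ⟩ := Field.exists_primitive_element (ResidueField R) K
  let k := ResidueField R
  have hint : IsIntegral k θ := IsIntegral.of_finite k θ
  obtain ⟨P, hP, hdeg, hmon⟩ : ∃ P : R[X], P.map (residue R) = minpoly k θ ∧
      P.degree = (minpoly k θ).degree ∧ P.Monic :=
    Polynomial.lifts_and_degree_eq_and_monic
      (Polynomial.map_surjective _ residue_surjective (minpoly k θ)) (minpoly.monic hint)
  let R' := AdjoinRoot P
  have hev : P.eval₂ ((algebraMap k K).comp (residue R)) θ = 0 := by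
    rw [← Polynomial.eval₂_map, hP, ← Polynomial.aeval_def, minpoly.aeval]
  let π : R' →+* K := AdjoinRoot.lift ((algebraMap k K).comp (residue R)) θ hev
  have hπC : ∀ r, π (algebraMap R R' r) = algebraMap k K (residue R r) := fun r =>
    AdjoinRoot.lift_of hev
  have hπθ : π (AdjoinRoot.root P) = θ := AdjoinRoot.lift_root hev
  have hadj : Algebra.adjoin k {θ} = ⊤ := by
    rw [← IntermediateField.adjoin_simple_toSubalgebra_of_isAlgebraic hint.isAlgebraic, hθ,
      IntermediateField.top_toSubalgebra]
  have hπsurj : Function.Surjective π := fun y => by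
    have hy : y ∈ Algebra.adjoin k ({θ} : Set K) := hadj ▸ Algebra.mem_top
    rw [Algebra.adjoin_singleton_eq_range_aeval] at hy
    obtain ⟨q, rfl⟩ := hy
    obtain ⟨Q, rfl⟩ := Polynomial.map_surjective _ residue_surjective q
    refine ⟨AdjoinRoot.mk P Q, ?_⟩
    show π (AdjoinRoot.mk P Q) = aeval θ _
    rw [AdjoinRoot.lift_mk, Polynomial.aeval_def, Polynomial.eval₂_map]
  have hker : RingHom.ker π = (maximalIdeal R).map (algebraMap R R') := by
    refine le_antisymm (fun x hx => ?_) (Ideal.map_le_iff_le_comap.2 fun r hr => ?_)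
    · obtain ⟨Q, rfl⟩ := AdjoinRoot.mk_surjective x
      rw [RingHom.mem_ker, AdjoinRoot.lift_mk, ← Polynomial.eval₂_map, ← Polynomial.aeval_def]
        at hx
      obtain ⟨q, hq⟩ := minpoly.dvd k θ hx
      obtain ⟨Q', rfl⟩ := Polynomial.map_surjective _ residue_surjective q
      rw [← hP, ← Polynomial.map_mul] at hq
      have hmem : Q - P * Q' ∈ (maximalIdeal R).map (C : R →+* R[X]) :=
        Ideal.mem_map_C_iff.2 fun n => by
          rw [← residue_eq_zero_iff, ← Polynomial.coeff_map, Polynomial.map_sub, hq, sub_self,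
            coeff_zero]
      have := Ideal.mem_map_of_mem (AdjoinRoot.mk P) hmem
      rw [Ideal.map_map, map_sub, map_mul, AdjoinRoot.mk_self, zero_mul, sub_zero] at this
      exact this
    · rw [Ideal.mem_comap, RingHom.mem_ker, hπC, (residue_eq_zero_iff r).2 hr, map_zero]
  have : Module.Finite R R' := hmon.finite_adjoinRoot
  have : Module.Free R R' := hmon.free_adjoinRoot
  have : Algebra.IsIntegral R R' := Algebra.IsIntegral.of_finite R R'
  have : Nontrivial R' := π.domain_nontrivial
  have hmax : ∀ M : Ideal R', M.IsMaximal → M = RingHom.ker π := fun M hM => by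
    refine ((RingHom.ker_isMaximal_of_surjective π hπsurj).eq_of_le hM.ne_top ?_).symm
    rw [hker, Ideal.map_le_iff_le_comap]
    exact (eq_maximalIdeal (Ideal.isMaximal_comap_of_isIntegral_of_isMaximal M)).ge
  have : IsLocalRing R' := IsLocalRing.of_unique_max_ideal
    ⟨RingHom.ker π, RingHom.ker_isMaximal_of_surjective π hπsurj, hmax⟩
  have : HenselianLocalRing R' := Groth.Hensel1.henselianLocalRing_of_finite R R'
  have hm : maximalIdeal R' = RingHom.ker π := hmax _ (maximalIdeal.isMaximal R')
  have hπzero : ∀ x : R', π x = 0 ↔ x ∈ maximalIdeal R' := fun x => by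
    rw [hm, RingHom.mem_ker]
  -- the roots of `P`
  have hπP : ∀ x : R', π ((P.map (algebraMap R R')).eval x) =
      aeval (π x) (minpoly k θ) := fun x => by
    rw [Polynomial.eval_map, Polynomial.hom_eval₂, ← hP, Polynomial.aeval_def,
      Polynomial.eval₂_map]
    congr 1
    exact RingHom.ext hπC
  have hsep : ∀ x : R', aeval (π x) (minpoly k θ) = 0 →
      IsUnit ((P.map (algebraMap R R')).derivative.eval x) := fun x hx => by
    by_contra hu
    have h0 := (hπzero _).2 ((IsLocalRing.mem_maximalIdeal _).2 hu)
    rw [Polynomial.derivative_map, Polynomial.eval_map, Polynomial.hom_eval₂] at h0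
    refine (Algebra.IsSeparable.isSeparable k θ).aeval_derivative_ne_zero hx ?_
    rw [← hP, Polynomial.derivative_map, Polynomial.aeval_def, Polynomial.eval₂_map, ← h0]
    congr 1
    exact (RingHom.ext hπC).symm
  have hroot : ∀ g : K ≃ₐ[k] K, ∃ r : R', (P.map (algebraMap R R')).IsRoot r ∧ π r = g θ := by
    intro g
    have hg : aeval (g θ) (minpoly k θ) = 0 := by rw [aeval_algHom_apply, minpoly.aeval, map_zero]
    obtain ⟨r₀, hr₀⟩ := hπsurj (g θ)
    obtain ⟨r, hr, hrr⟩ := HenselianLocalRing.is_henselian (P.map (algebraMap R R'))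
      (hmon.map _) r₀ ((hπzero _).1 (by rw [hπP, hr₀, hg])) (hsep r₀ (by rw [hr₀, hg]))
    exact ⟨r, hr, by rw [← sub_eq_zero, ← hr₀, ← map_sub, hπzero]; exact hrr⟩
  choose r hr hrθ using hroot
  have hlift : ∀ g : K ≃ₐ[k] K, P.eval₂ (algebraMap R R') (r g) = 0 := fun g => by
    rw [← Polynomial.eval_map]; exact hr g
  let φ (g : K ≃ₐ[k] K) : R' →ₐ[R] R' :=
    { AdjoinRoot.lift (algebraMap R R') (r g) (hlift g) with
      commutes' := fun x => AdjoinRoot.lift_of (hlift g) }
  have hφπ : ∀ g x, π (φ g x) = g (π x) := fun g x => by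
    have : π.comp (φ g).toRingHom = (g.toAlgHom.toRingHom).comp π := by
      refine AdjoinRoot.ringHom_ext (RingHom.ext fun a => ?_) ?_
      · show π (φ g (algebraMap R R' a)) = g (π (algebraMap R R' a))
        rw [AlgHom.commutes, hπC, g.commutes]
      · show π (φ g (AdjoinRoot.root P)) = g (π (AdjoinRoot.root P))
        rw [hπθ, show φ g (AdjoinRoot.root P) = r g from AdjoinRoot.lift_root (hlift g), hrθ]
    exact RingHom.congr_fun this x
  have hP0 : aeval (AdjoinRoot.root P) P = 0 := by
    rw [AdjoinRoot.aeval_eq, AdjoinRoot.mk_self]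
  have huniq : ∀ ψ₁ ψ₂ : R' →ₐ[R] R', π (ψ₁ (AdjoinRoot.root P)) = π (ψ₂ (AdjoinRoot.root P)) →
      ψ₁ = ψ₂ := fun ψ₁ ψ₂ h => by
    refine AdjoinRoot.algHom_ext ?_
    have hr1 : ∀ ψ : R' →ₐ[R] R',
        (P.map (algebraMap R R')).IsRoot (ψ (AdjoinRoot.root P)) := fun ψ => by
      rw [IsRoot, Polynomial.eval_map, ← Polynomial.aeval_def, aeval_algHom_apply, hP0, map_zero]
    refine Groth.Hensel1.root_eq_of_residue_eq (hr1 _) (hr1 _) ?_ ?_
    · exact Ideal.Quotient.eq.2 ((hπzero _).1 (by rw [map_sub, h, sub_self]))
    · exact hsep _ (by rw [← hπP, hr1 ψ₁, map_zero])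
  have hφ1 : φ 1 = AlgHom.id R R' := huniq _ _ (by rw [hφπ]; rfl)
  have hφmul : ∀ g g', φ (g * g') = (φ g).comp (φ g') := fun g g' => huniq _ _ (by
    rw [hφπ]; show _ = π (φ g (φ g' _)); rw [hφπ, hφπ]; rfl)
  let act : MulSemiringAction (K ≃ₐ[k] K) R' :=
    { smul := fun g x => φ g x
      one_smul := fun x => DFunLike.congr_fun hφ1 x
      mul_smul := fun g g' x => DFunLike.congr_fun (hφmul g g') x
      smul_zero := fun g => map_zero (φ g)
      smul_add := fun g x y => map_add (φ g) x y
      smul_one := fun g => map_one (φ g)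
      smul_mul := fun g x y => map_mul (φ g) x y }
  have hsc : SMulCommClass (K ≃ₐ[k] K) R R' := ⟨fun g a x => map_smul (φ g) a x⟩
  have : Fintype (K ≃ₐ[k] K) := Fintype.ofFinite _
  have hcard : Fintype.card (K ≃ₐ[k] K) = P.natDegree := by
    have h1 : (minpoly k θ).natDegree = Module.finrank k K := by
      rw [← IntermediateField.adjoin.finrank hint, hθ, IntermediateField.finrank_top']
    rw [Polynomial.natDegree_eq_of_degree_eq hdeg, h1, ← IsGalois.card_aut_eq_finrank,
      Nat.card_eq_fintype_card]
  refine ⟨{ ring := R', Γ := K ≃ₐ[k] K, action := act, smulComm := hsc, isGalois := ?_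
            toField := π, surjective := hπsurj, toField_algebraMap := hπC
            toAut := Equiv.refl _, toAut_mul := fun _ _ => rfl, toField_smul := hφπ }⟩
  let e : Module.Basis (Fin P.natDegree) R R' := (AdjoinRoot.powerBasis' hmon).basis
  refine isGaloisExt_of_span e hcard ?_
  -- Dedekind independence and Nakayama
  let V := Submodule.span R' (Set.range fun i => fun g : K ≃ₐ[k] K => g • e i)
  have hV : ∀ x : R', (fun g : K ≃ₐ[k] K => g • x) ∈ V := fun x => by
    rw [← e.sum_repr x]
    have : (fun g : K ≃ₐ[k] K => g • ∑ i, e.repr x i • e i) =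
        ∑ i, algebraMap R R' (e.repr x i) • (fun g : K ≃ₐ[k] K => g • e i) := by
      funext g
      simp only [Finset.smul_sum, Finset.sum_apply, Pi.smul_apply, smul_eq_mul]
      exact Finset.sum_congr rfl fun i _ => by rw [smul_comm g, Algebra.smul_def]
    rw [this]
    exact sum_mem fun i _ => V.smul_mem _ (Submodule.subset_span ⟨i, rfl⟩)
  have hK : Submodule.span K (Set.range fun y : K => fun g : K ≃ₐ[k] K => g y) = ⊤ := by
    by_contra hne
    obtain ⟨w, hw⟩ : ∃ w, w ∉ Submodule.span K
        (Set.range fun y : K => fun g : K ≃ₐ[k] K => g y) := by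
      by_contra hall
      push Not at hall
      exact hne (eq_top_iff.2 fun w _ => hall w)
    obtain ⟨f, hfw, hf⟩ := Submodule.exists_dual_map_eq_bot_of_notMem hw inferInstance
    have hind := (linearIndependent_monoidHom K K).comp
      (fun g : K ≃ₐ[k] K => (g : K →* K)) (fun g g' h =>
        AlgEquiv.ext fun x => DFunLike.congr_fun h x)
    have hzero := Fintype.linearIndependent_iff.1 hind (fun g => f (Pi.single g 1))
      (funext fun y => by
        have : f (fun g : K ≃ₐ[k] K => g y) = 0 := by
          have hmem := Submodule.mem_map_of_mem (f := f)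
            (Submodule.subset_span (R := K) (Set.mem_range_self (f := fun y : K =>
              fun g : K ≃ₐ[k] K => g y) y))
          rwa [hf, Submodule.mem_bot] at hmem
        rw [pi_eq_sum_univ' (fun g : K ≃ₐ[k] K => g y), map_sum] at this
        simp only [map_smul, smul_eq_mul] at this
        simp only [Finset.sum_apply, Pi.smul_apply, smul_eq_mul, Pi.zero_apply, Function.comp_apply,
          MonoidHom.coe_coe]
        rw [← this]
        exact Finset.sum_congr rfl fun g _ => mul_comm _ _)
    refine hfw ?_
    rw [pi_eq_sum_univ' w, map_sum]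
    simp only [map_smul, hzero, smul_zero, Finset.sum_const_zero]
  refine eq_top_iff.2 (Submodule.le_of_le_smul_of_le_jacobson_bot (I := maximalIdeal R')
    (Module.finite_def.1 inferInstance) ?_ fun w _ => ?_)
  · exact (IsLocalRing.maximalIdeal_le_jacobson ⊥)
  · have hw : (fun g => π (w g)) ∈
        Submodule.span K (Set.range fun y : K => fun g : K ≃ₐ[k] K => g y) := hK ▸ Submodule.mem_top
    obtain ⟨c, hc⟩ := Finsupp.mem_span_range_iff_exists_finsupp.1 hw
    choose lft hlft using hπsurj
    let v : (K ≃ₐ[k] K) → R' :=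
      ∑ y ∈ c.support, lft (c y) • fun g : K ≃ₐ[k] K => g • lft y
    have hv : v ∈ V := sum_mem fun y _ => V.smul_mem _ (hV _)
    rw [← add_sub_cancel v w]
    refine Submodule.add_mem_sup hv ?_
    rw [pi_eq_sum_univ' (w - v)]
    refine sum_mem fun g _ => Submodule.smul_mem_smul ((hπzero _).1 ?_) Submodule.mem_top
    have := congrFun hc g
    simp only [Finsupp.sum, Finset.sum_apply, Pi.smul_apply, smul_eq_mul] at this
    show π (w g - v g) = 0
    simp only [v, Finset.sum_apply, Pi.smul_apply, smul_eq_mul, map_sub, map_sum, map_mul]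
    have : ∀ y, π (g • lft y) = g y := fun y => by
      show π (φ g _) = _
      rw [hφπ, hlft]
    simp only [this, hlft]
    rw [sub_eq_zero]
    exact (‹∑ y ∈ c.support, c y * g y = π (w g)›).symm

end Groth.HenselPoint
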