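import Groth.Agent.HenselPoint.Scheme
import Groth.Agent.HenselPoint.GaloisLift
import Groth.Agent.Hensel1.Local
import Groth.Agent.Pi1Quot.Galois
import Mathlib.AlgebraicGeometry.Morphisms.Etale
import Mathlib.RingTheory.Localization.Away.Basic

/-!
# Free affine neighbourhoods of fixed points, base change of Galois extensions, lifting along étale maps
-/

set_option autoImplicit false

universe u

open CategoryTheory CategoryTheory.Limits AlgebraicGeometry IsLocalRing TensorProduct

noncomputable section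

namespace Groth.HenselPoint

/-- A point with trivial stabiliser of a separated scheme with a finite group action has an affine
neighbourhood on which the group acts freely. -/
theorem exists_free_affine_nbhd {W : Scheme.{u}} [W.IsSeparated] {Γ : Type u} [Group Γ]
    [Fintype Γ] [DecidableEq Γ] (a : Γ → (W ⟶ W)) (ha1 : a 1 = 𝟙 W)
    (ham : ∀ γ δ, a δ ≫ a γ = a (δ * γ)) {K : Type u} [Field K] (τ : Γ → (K →+* K))
    (x : Spec (CommRingCat.of K) ⟶ W)
    (hx : ∀ γ, Spec.map (CommRingCat.ofHom (τ γ)) ≫ x = x ≫ a γ)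
    (hfaith : ∀ γ, γ ≠ 1 → x ≫ a γ ≠ x) :
    ∃ (B : CommRingCat.{u}) (_ : MulSemiringAction Γ B) (j : Spec B ⟶ W) (φ : B →+* K),
      IsOpenImmersion j ∧ Groth.Pi1Quot.IsFreeAction Γ B ∧
        (∀ γ, Spec.map (CommRingCat.ofHom (MulSemiringAction.toRingHom Γ B γ)) ≫ j = j ≫ a γ) ∧
        Spec.map (CommRingCat.ofHom φ) ≫ j = x := by
  let pt : Spec (CommRingCat.of K) := closedPoint K
  let w := x.base pt
  have hpt : ∀ p : Spec (CommRingCat.of K), p = pt :=
    fun p => Subsingleton.elim (α := PrimeSpectrum K) p pt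
  obtain ⟨U, hU, hwU, -⟩ := exists_isAffineOpen_mem_and_subset
    (x := w) (U := (⊤ : W.Opens)) trivial
  have hiso : ∀ γ, IsIso (a γ) := fun γ =>
    ⟨a γ⁻¹, by rw [ham, mul_inv_cancel, ha1], by rw [ham, inv_mul_cancel, ha1]⟩
  let V : W.Opens := ⨅ γ : Γ, a γ ⁻¹ᵁ U
  have : Nonempty Γ := ⟨1⟩
  have hV : IsAffineOpen V := IsAffineOpen.iInf fun γ => hU.preimage_of_isIso (a γ)
  have hwV : w ∈ V := by
    show w ∈ ((⨅ γ : Γ, a γ ⁻¹ᵁ U : W.Opens) : Set W)
    simp only [TopologicalSpace.Opens.coe_iInf, Set.mem_iInter]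
    intro γ
    show (x ≫ a γ).base pt ∈ U
    rw [← hx γ]
    show x.base ((Spec.map (CommRingCat.ofHom (τ γ))).base pt) ∈ U
    rw [hpt ((Spec.map (CommRingCat.ofHom (τ γ))).base pt)]
    exact hwU
  let B₁ := Γ(W, V)
  let j₁ : Spec B₁ ⟶ W := hV.fromSpec
  have hj : Set.range j₁.base = (V : Set W) := hV.range_fromSpec
  have hstab : ∀ γ, Set.range (j₁ ≫ a γ).base ⊆ Set.range j₁.base := fun γ => by
    rintro _ ⟨p, rfl⟩
    rw [hj]
    have hp : j₁.base p ∈ (V : Set W) := hj ▸ ⟨p, rfl⟩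
    simp only [V, TopologicalSpace.Opens.coe_iInf, Set.mem_iInter] at hp ⊢
    intro δ
    show (a γ ≫ a δ).base (j₁.base p) ∈ U
    rw [ham]
    exact hp (γ * δ)
  let α : Γ → (Spec B₁ ⟶ Spec B₁) := fun γ => IsOpenImmersion.lift j₁ (j₁ ≫ a γ) (hstab γ)
  have hα : ∀ γ, α γ ≫ j₁ = j₁ ≫ a γ := fun γ => IsOpenImmersion.lift_fac _ _ _
  let φ₁ : Γ → (B₁ →+* B₁) := fun γ => (Spec.preimage (α γ)).hom
  have hφ₁ : ∀ γ, Spec.map (CommRingCat.ofHom (φ₁ γ)) = α γ := fun γ => Spec.map_preimage _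
  have hφ1 : ∀ b, φ₁ 1 b = b := fun b => by
    have : Spec.preimage (α 1) = 𝟙 B₁ := Spec.map_injective (by
      rw [Spec.map_preimage, Spec.map_id, ← cancel_mono j₁, hα, ha1, Category.comp_id,
        Category.id_comp])
    show (Spec.preimage (α 1)).hom b = b
    rw [this]; rfl
  have hφm : ∀ γ δ b, φ₁ (γ * δ) b = φ₁ γ (φ₁ δ b) := fun γ δ b => by
    have : Spec.preimage (α (γ * δ)) = Spec.preimage (α δ) ≫ Spec.preimage (α γ) :=
      Spec.map_injective (by
        rw [Spec.map_comp, Spec.map_preimage, Spec.map_preimage, Spec.map_preimage,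
          ← cancel_mono j₁, Category.assoc, hα, hα, reassoc_of% hα, ham])
    show (Spec.preimage (α (γ * δ))).hom b = _
    rw [this]; rfl
  let act₁ : MulSemiringAction Γ B₁ :=
    { smul := fun γ b => φ₁ γ b
      one_smul := hφ1
      mul_smul := hφm
      smul_zero := fun γ => map_zero (φ₁ γ)
      smul_add := fun γ => map_add (φ₁ γ)
      smul_one := fun γ => map_one (φ₁ γ)
      smul_mul := fun γ => map_mul (φ₁ γ) }
  have hxV : Set.range x.base ⊆ Set.range j₁.base := by
    rintro _ ⟨p, rfl⟩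
    rw [hpt p, hj]
    exact hwV
  let ψ : B₁ →+* K := (Spec.preimage (IsOpenImmersion.lift j₁ x hxV)).hom
  have hψ : Spec.map (CommRingCat.ofHom ψ) ≫ j₁ = x := by
    rw [show Spec.map (CommRingCat.ofHom ψ) = _ from Spec.map_preimage _,
      IsOpenImmersion.lift_fac]
  have hψγ : ∀ γ, Spec.map (CommRingCat.ofHom (ψ.comp (φ₁ γ))) ≫ j₁ = x ≫ a γ := fun γ => by
    rw [CommRingCat.ofHom_comp, Spec.map_comp, Category.assoc, hφ₁, hα, reassoc_of% hψ]
  have hψτ : ∀ (γ : Γ) (b : B₁), ψ (γ • b) = τ γ (ψ b) := fun γ b => by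
    have : CommRingCat.ofHom (ψ.comp (φ₁ γ)) = CommRingCat.ofHom ((τ γ).comp ψ) :=
      Spec.map_injective (by
        rw [← cancel_mono j₁, hψγ, ← hx, ← hψ, ← Category.assoc, ← Spec.map_comp]; rfl)
    exact ConcreteCategory.congr_hom this b
  -- an invariant function, invertible at the point, killing all fixed loci
  have hb : ∀ γ : {γ : Γ // γ ≠ 1}, ∃ b : B₁, ψ (γ.1 • b - b) ≠ 0 := fun γ => by
    by_contra hall
    push Not at hall
    refine hfaith γ.1 γ.2 ?_
    rw [← hψγ]
    conv_rhs => rw [← hψ]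
    congr 2
    ext b
    show ψ (γ.1 • b) = ψ b
    rw [← sub_eq_zero, ← map_sub]
    exact hall b
  choose b hb using hb
  obtain ⟨f₀, hf₀⟩ : ∃ y : B₁, y = ∏ γ : {γ : Γ // γ ≠ 1}, (γ.1 • b γ - b γ) := ⟨_, rfl⟩
  obtain ⟨f, hfdef⟩ : ∃ y : B₁, y = ∏ δ : Γ, δ • f₀ := ⟨_, rfl⟩
  have hf : ∀ γ : Γ, γ • f = f := fun γ => by
    rw [hfdef, Finset.smul_prod']
    simp only [← mul_smul]
    exact Equiv.prod_comp (Equiv.mulLeft γ) fun δ => δ • f₀
  have hf0 : ψ f ≠ 0 := by
    rw [hfdef, map_prod, Finset.prod_ne_zero_iff]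
    intro δ _
    rw [hψτ, map_ne_zero, hf₀, map_prod, Finset.prod_ne_zero_iff]
    exact fun γ _ => hb γ
  have hdvd : ∀ (γ : Γ) (hγ : γ ≠ 1), (γ • b ⟨γ, hγ⟩ - b ⟨γ, hγ⟩) ∣ f := fun γ hγ => by
    have hm : (⟨γ, hγ⟩ : {γ : Γ // γ ≠ 1}) ∈ Finset.univ := Finset.mem_univ _
    have h1 : (γ • b ⟨γ, hγ⟩ - b ⟨γ, hγ⟩) ∣ f₀ := by
      rw [hf₀, ← Finset.mul_prod_erase _ _ hm]
      exact dvd_mul_right _ _
    have hm1 : (1 : Γ) ∈ Finset.univ := Finset.mem_univ _
    have h2 : (1 : Γ) • f₀ ∣ f := by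
      rw [hfdef, ← Finset.mul_prod_erase _ _ hm1]
      exact dvd_mul_right _ _
    rw [one_smul] at h2
    exact h1.trans h2
  let B₂ : Type u := Localization.Away f
  let ι : B₁ →+* B₂ := algebraMap B₁ B₂
  let act₂ : Γ → (B₂ →+* B₂) := fun γ => IsLocalization.Away.lift f (g := ι.comp (φ₁ γ)) (by
    show IsUnit (ι (γ • f))
    rw [hf]
    exact IsLocalization.Away.algebraMap_isUnit f)
  have hact₂ : ∀ γ b, act₂ γ (ι b) = ι (γ • b) := fun γ b => IsLocalization.Away.lift_eq f _ b
  let act : MulSemiringAction Γ B₂ :=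
    { smul := fun γ y => act₂ γ y
      one_smul := fun y => by
        have : act₂ 1 = RingHom.id _ := IsLocalization.ringHom_ext (Submonoid.powers f)
          (RingHom.ext fun b => by
            show act₂ 1 (ι b) = ι b
            rw [hact₂, one_smul])
        show act₂ 1 y = y
        rw [this]; rfl
      mul_smul := fun γ δ y => by
        have : act₂ (γ * δ) = (act₂ γ).comp (act₂ δ) :=
          IsLocalization.ringHom_ext (Submonoid.powers f) (RingHom.ext fun b => by
            show act₂ (γ * δ) (ι b) = act₂ γ (act₂ δ (ι b))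
            rw [hact₂, hact₂, hact₂, mul_smul])
        show act₂ (γ * δ) y = _
        rw [this]; rfl
      smul_zero := fun γ => map_zero (act₂ γ)
      smul_add := fun γ => map_add (act₂ γ)
      smul_one := fun γ => map_one (act₂ γ)
      smul_mul := fun γ => map_mul (act₂ γ) }
  have hfu : IsUnit (ψ f) := isUnit_iff_ne_zero.2 hf0
  let φ : B₂ →+* K := IsLocalization.Away.lift f hfu
  have hoi : IsOpenImmersion (Spec.map (CommRingCat.ofHom ι)) :=
    IsOpenImmersion.of_isLocalization f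
  refine ⟨CommRingCat.of B₂, act, Spec.map (CommRingCat.ofHom ι) ≫ j₁, φ, inferInstance, ?_, ?_, ?_⟩
  · intro γ hγ
    have hd := hdvd γ hγ
    refine Ideal.eq_top_of_isUnit_mem _ ?_
      (isUnit_of_dvd_unit (map_dvd ι hd) (IsLocalization.Away.algebraMap_isUnit f))
    rw [map_sub, ← hact₂]
    exact Ideal.subset_span ⟨ι (b ⟨γ, hγ⟩), rfl⟩
  · intro γ
    rw [Category.assoc, ← hα, ← hφ₁, ← Category.assoc, ← Category.assoc, ← Spec.map_comp,
      ← Spec.map_comp]
    congr 2
    ext y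
    exact hact₂ γ y
  · rw [← Category.assoc, ← Spec.map_comp, ← hψ]
    congr 2
    ext y
    exact IsLocalization.Away.lift_eq f hfu y

variable {R R' Γ A : Type u} [CommRing R] [CommRing R'] [Algebra R R'] [CommRing A] [Algebra R A]
  [Group Γ] [MulSemiringAction Γ R'] [SMulCommClass Γ R R']

variable (A R') in
/-- The action on a base change. -/
def bcHom (γ : Γ) : A ⊗[R] R' →ₐ[A] A ⊗[R] R' :=
  Algebra.TensorProduct.map (AlgHom.id A A) (MulSemiringAction.toAlgHom R R' γ)

theorem bcHom_tmul (γ : Γ) (s : A) (r : R') : bcHom R' A γ (s ⊗ₜ[R] r) = s ⊗ₜ (γ • r) := by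
  simp [bcHom]

/-- The action of `Γ` on a base change. -/
@[reducible] def bcAction : MulSemiringAction Γ (A ⊗[R] R') where
  smul γ x := bcHom R' A γ x
  one_smul x := by
    show bcHom R' A (1 : Γ) x = x
    induction x using TensorProduct.induction_on with
    | zero => simp
    | tmul s r => rw [bcHom_tmul, one_smul]
    | add y z hy hz => rw [map_add, hy, hz]
  mul_smul γ δ x := by
    show bcHom R' A (γ * δ) x = bcHom R' A γ (bcHom R' A δ x)
    induction x using TensorProduct.induction_on with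
    | zero => simp
    | tmul s r => rw [bcHom_tmul, bcHom_tmul, bcHom_tmul, mul_smul]
    | add y z hy hz => simp only [map_add, hy, hz]
  smul_zero γ := map_zero (bcHom R' A γ)
  smul_add γ := map_add (bcHom R' A γ)
  smul_one γ := map_one (bcHom R' A γ)
  smul_mul γ := map_mul (bcHom R' A γ)

theorem bcAction_smulComm : letI := bcAction (R := R) (R' := R') (Γ := Γ) (A := A); SMulCommClass Γ A (A ⊗[R] R') :=
  letI := bcAction (R := R) (R' := R') (Γ := Γ) (A := A)
  ⟨fun γ s x => map_smul (bcHom R' A γ) s x⟩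

/-- Galois extensions of rings are stable under base change. -/
theorem IsGaloisExt.baseChange [Fintype Γ] [DecidableEq Γ] [Module.FaithfullyFlat R R']
    (h : IsGaloisExt R R' Γ) :
    letI := bcAction (R := R) (R' := R') (Γ := Γ) (A := A); IsGaloisExt A (A ⊗[R] R') Γ := by
  letI := bcAction (R := R) (R' := R') (Γ := Γ) (A := A)
  have hsm : ∀ (γ : Γ) (s : A) (r : R'), γ • (s ⊗ₜ[R] r) = s ⊗ₜ (γ • r) := bcHom_tmul
  obtain ⟨n, a, b, hab⟩ := h.exists_sum
  obtain ⟨c, hc⟩ := exists_trace_eq_one h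
  refine ⟨⟨n, fun i => (1 : A) ⊗ₜ a i, fun i => (1 : A) ⊗ₜ b i, fun γ => ?_⟩, fun x hx => ?_⟩
  · simp only [hsm, Algebra.TensorProduct.tmul_mul_tmul, one_mul, ← tmul_sum, hab]
    split_ifs <;> simp [Algebra.TensorProduct.one_def]
  · have key : ∀ y : A ⊗[R] R', ∃ s : A, ∑ γ : Γ, γ • y = algebraMap A _ s := fun y => by
      induction y using TensorProduct.induction_on with
      | zero => exact ⟨0, by simp⟩
      | tmul s r =>
        obtain ⟨t, ht⟩ := h.fixed (∑ γ : Γ, γ • r) fun γ => smul_sum_smul γ _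
        refine ⟨t • s, ?_⟩
        simp only [hsm, ← tmul_sum, ← ht]
        rw [← mul_one (algebraMap R R' t), ← Algebra.smul_def, tmul_smul, smul_tmul']
        simp
      | add y z hy hz =>
        obtain ⟨s, hs⟩ := hy
        obtain ⟨t, ht⟩ := hz
        exact ⟨s + t, by simp [smul_add, Finset.sum_add_distrib, hs, ht, add_tmul]⟩
    obtain ⟨s, hs⟩ := key ((1 : A) ⊗ₜ c * x)
    refine ⟨s, hs.symm.trans ?_⟩
    have : ∑ γ : Γ, γ • ((1 : A) ⊗ₜ[R] c) = 1 := by
      simp only [hsm, ← tmul_sum, hc, Algebra.TensorProduct.one_def]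
    simp only [smul_mul', hx, ← Finset.sum_mul, this, one_mul]

/-- Points in the residue field of étale schemes lift to henselian local rings. -/
theorem exists_lift_of_etale {A T K : Type u} [CommRing A] [CommRing T] [HenselianLocalRing T]
    [Field K] (π : T →+* K) (hπ : Function.Surjective π) {E : Scheme.{u}}
    (h : E ⟶ Spec (CommRingCat.of A)) [Etale h]
    (t : Spec (CommRingCat.of T) ⟶ Spec (CommRingCat.of A))
    (e : Spec (CommRingCat.of K) ⟶ E) (he : e ≫ h = Spec.map (CommRingCat.ofHom π) ≫ t) :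
    ∃ l : Spec (CommRingCat.of T) ⟶ E,
      l ≫ h = t ∧ Spec.map (CommRingCat.ofHom π) ≫ l = e := by
  obtain ⟨W, hW, hzW, -⟩ := exists_isAffineOpen_mem_and_subset
    (x := e.base (closedPoint K)) (U := (⊤ : E.Opens)) trivial
  have heW : Set.range e.base ⊆ Set.range hW.fromSpec.base := by
    rw [hW.range_fromSpec]
    exact range_subset_of_closedPoint_mem (A := CommRingCat.of K) e W hzW
  let C := Γ(E, W)
  let g : CommRingCat.of A ⟶ C := Spec.preimage (hW.fromSpec ≫ h)
  let ψ : C ⟶ CommRingCat.of K := Spec.preimage (IsOpenImmersion.lift hW.fromSpec e heW)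
  let ta : CommRingCat.of A ⟶ CommRingCat.of T := Spec.preimage t
  have hψ : Spec.map ψ ≫ hW.fromSpec = e := by
    rw [Spec.map_preimage, IsOpenImmersion.lift_fac]
  have hge : g.hom.Etale := (HasRingHomProperty.Spec_iff (P := @Etale)).1 (by
    rw [Spec.map_preimage]; infer_instance)
  have hcomm : g ≫ ψ = ta ≫ CommRingCat.ofHom π := Spec.map_injective (by
    rw [Spec.map_comp, Spec.map_comp, Spec.map_preimage t, ← he]
    conv_rhs => rw [← hψ, Category.assoc]
    congr 1
    exact Spec.map_preimage _)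
  let algC : Algebra A C := g.hom.toAlgebra
  let algT : Algebra A T := ta.hom.toAlgebra
  have : Algebra.Etale A C := RingHom.etale_algebraMap.1 hge
  have hker : RingHom.ker π = maximalIdeal T :=
    eq_maximalIdeal (RingHom.ker_isMaximal_of_surjective π hπ)
  let θ : ResidueField T ≃+* K := (Ideal.quotEquivOfEq hker.symm).trans
    (RingHom.quotientKerEquivOfSurjective hπ)
  let σ : C →ₐ[A] ResidueField T :=
    { θ.symm.toRingHom.comp ψ.hom with
      commutes' := fun r => by
        show θ.symm (ψ.hom (g.hom r)) = residue T (ta.hom r)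
        rw [θ.symm_apply_eq]
        exact ConcreteCategory.congr_hom hcomm r }
  obtain ⟨f, hf, -⟩ := Groth.Hensel1.existsUnique_algHom_lift_residue σ
  refine ⟨Spec.map (CommRingCat.ofHom f.toRingHom) ≫ hW.fromSpec, ?_, ?_⟩
  · rw [Category.assoc, ← Spec.map_preimage (hW.fromSpec ≫ h), ← Spec.map_comp,
      ← Spec.map_preimage t]
    congr 1
    ext r
    exact f.commutes r
  · rw [← Category.assoc, ← Spec.map_comp, ← hψ]
    congr 2
    ext c
    show π (f c) = ψ.hom c
    have := congrArg θ (hf c)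
    exact this.trans (θ.apply_symm_apply _)

end Groth.HenselPoint
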