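import Groth.Agent.HenselPoint.GaloisLift
import Groth.Agent.AlgSp2.FlatMono
import Groth.Agent.AlgSp2.SelfPullbackField
import Mathlib.FieldTheory.SeparableClosure
import Mathlib.FieldTheory.IsSepClosed
import Mathlib.FieldTheory.PrimitiveElement
import Mathlib.FieldTheory.Galois.Basic
import Mathlib.RingTheory.Unramified.Field
import Mathlib.RingTheory.Etale.Field
import Mathlib.AlgebraicGeometry.Pullbacks
import Mathlib.AlgebraicGeometry.Limits
import Mathlib.RingTheory.Finiteness.ModuleFinitePresentation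

/-!
# Descent of points of sheaves along Galois extensions of rings
-/

set_option autoImplicit false

universe u

open CategoryTheory CategoryTheory.Limits AlgebraicGeometry TensorProduct

noncomputable section

namespace Groth.HenselPoint

/-- A nonzero étale algebra over a field has a point in a finite Galois extension, generating it
as a Galois extension: no nontrivial automorphism fixes all conjugates of the point. -/
theorem exists_galois_point (k D : Type u) [Field k] [CommRing D] [Algebra k D]
    [Algebra.Etale k D] [Nontrivial D] :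
    ∃ (K : Type u) (_ : Field K) (_ : Algebra k K) (φ : D →ₐ[k] K),
      FiniteDimensional k K ∧ IsGalois k K ∧
        ∀ γ : K ≃ₐ[k] K, γ ≠ 1 → ∃ (σ : K ≃ₐ[k] K) (d : D), γ (σ (φ d)) ≠ σ (φ d) := by
  obtain ⟨M, hM⟩ := Ideal.exists_maximal D
  let L := D ⧸ M
  let : Field L := Ideal.Quotient.field M
  have : Algebra.FormallyUnramified k L :=
    Algebra.FormallyUnramified.of_surjective (Ideal.Quotient.mkₐ k M) Ideal.Quotient.mk_surjective
  have : Algebra.FiniteType k L :=
    Algebra.FiniteType.of_surjective (Ideal.Quotient.mkₐ k M) Ideal.Quotient.mk_surjective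
  have : Algebra.IsSeparable k L := Algebra.FormallyUnramified.isSeparable k L
  have : Module.Finite k L := Algebra.FormallyUnramified.finite_of_free k L
  obtain ⟨α, hα⟩ := Field.exists_primitive_element k L
  have hint : IsIntegral k α := IsIntegral.of_finite k α
  have hsep : (minpoly k α).Separable := Algebra.IsSeparable.isSeparable k α
  let K := (minpoly k α).SplittingField
  have hspl : ((minpoly k α).map (algebraMap k K)).Splits := Polynomial.SplittingField.splits _
  have hgal : IsGalois k K := IsGalois.of_separable_splitting_field hsep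
  let pb : PowerBasis k L :=
    (IntermediateField.adjoin.powerBasis hint).map
      ((IntermediateField.equivOfEq hα).trans IntermediateField.topEquiv)
  have hgen : pb.gen = α := rfl
  have hdeg : ((minpoly k α).map (algebraMap k K)).degree ≠ 0 := by
    rw [Polynomial.degree_map]; exact (minpoly.degree_pos hint).ne'
  obtain ⟨r, hr⟩ := hspl.exists_eval_eq_zero hdeg
  rw [Polynomial.eval_map, ← Polynomial.aeval_def] at hr
  let ι : L →ₐ[k] K := pb.lift r (by rw [hgen]; exact hr)
  have hι : ι α = r := Eq.trans (congrArg ι hgen.symm) (pb.lift_gen r (by rw [hgen]; exact hr))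
  obtain ⟨d, hd⟩ := Ideal.Quotient.mk_surjective α
  refine ⟨K, inferInstance, inferInstance, ι.comp (Ideal.Quotient.mkₐ k M), inferInstance, hgal,
    fun γ hγ => ?_⟩
  by_contra hall
  push Not at hall
  refine hγ ?_
  have hroot : ∀ x ∈ (minpoly k α).rootSet K, γ x = x := fun x hx => by
    rw [Polynomial.mem_rootSet] at hx
    have hmr : minpoly k r = minpoly k α := (minpoly.eq_of_irreducible_of_monic
      (minpoly.irreducible hint) hr (minpoly.monic hint)).symm
    have hmx : minpoly k x = minpoly k α := (minpoly.eq_of_irreducible_of_monic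
      (minpoly.irreducible hint) hx.2 (minpoly.monic hint)).symm
    obtain ⟨σ, rfl⟩ := (Normal.minpoly_eq_iff_mem_orbit (F := k) (E := K) (x := x) (y := r)).1
      (hmx.trans hmr.symm)
    have := hall σ d
    rw [AlgHom.comp_apply, show Ideal.Quotient.mkₐ k M d = α from hd, hι] at this
    exact this
  have htop : Algebra.adjoin k ((minpoly k α).rootSet K) = ⊤ :=
    Polynomial.SplittingField.adjoin_rootSet _
  refine AlgEquiv.ext fun x => ?_
  have hx : x ∈ Algebra.adjoin k ((minpoly k α).rootSet K) := htop ▸ Algebra.mem_top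
  exact AlgHom.congr_fun (φ₁ := γ.toAlgHom) (φ₂ := AlgHom.id k K)
    (AlgHom.ext_of_adjoin_eq_top htop fun y hy => hroot y hy) x

variable {R R' Γ : Type u} [CommRing R] [CommRing R'] [Algebra R R']
  [Group Γ] [Fintype Γ] [DecidableEq Γ] [MulSemiringAction Γ R'] [SMulCommClass Γ R R']

/-- The graph map of a group element. -/
def graphHom (γ : Γ) : R' ⊗[R] R' →ₐ[R] R' :=
  Algebra.TensorProduct.lift (AlgHom.id R R') (MulSemiringAction.toAlgHom R R' γ)
    fun _ _ => Commute.all _ _

omit [Fintype Γ] [DecidableEq Γ] in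
theorem graphHom_tmul (γ : Γ) (x y : R') : graphHom (R := R) γ (x ⊗ₜ y) = x * γ • y := by
  simp [graphHom]

/-- `R' ⊗ R'` is a finite product of copies of `R'` through the graphs. -/
theorem graph_bijective (h : IsGaloisExt R R' Γ) :
    Function.Bijective (Pi.ringHom fun γ : Γ => (graphHom (R := R) (R' := R') γ).toRingHom) := by
  obtain ⟨n, a, b, hab⟩ := h.exists_sum
  let inv (w : Γ → R') : R' ⊗[R] R' := ∑ γ, ∑ i, (w γ * a i) ⊗ₜ (γ⁻¹ • b i)
  refine ⟨Function.LeftInverse.injective (g := inv) fun z => ?_, fun w => ⟨inv w, ?_⟩⟩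
  · induction z using TensorProduct.induction_on with
    | zero => simp [inv]
    | add z z' hz hz' =>
      conv_rhs => rw [← hz, ← hz']
      simp [inv, map_add, Pi.add_apply, add_mul, add_tmul, Finset.sum_add_distrib]
    | tmul r s =>
      choose t ht using fun j => h.fixed (∑ γ : Γ, γ • (b j * s)) fun γ => smul_sum_smul γ _
      choose c hc using fun (γ : Γ) (i j : Fin n) =>
        h.fixed (∑ δ : Γ, δ • (b j * γ⁻¹ • b i)) fun δ => smul_sum_smul δ _
      have e1 : ∀ γ i, γ⁻¹ • b i = ∑ j, c γ i j • a j := fun γ i => by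
        conv_lhs => rw [← sum_trace (B := R') hab (fun _ _ => rfl) (γ⁻¹ • b i)]
        refine Finset.sum_congr rfl fun j _ => ?_
        rw [Algebra.smul_def, hc]
        simp [mul_comm]
      have e2 : ∀ j, ∑ γ, ∑ i, (r * γ • s * a i) * algebraMap R R' (c γ i j) =
          r * algebraMap R R' (t j) := fun j => by
        rw [ht, Finset.mul_sum]
        refine Finset.sum_congr rfl fun γ _ => ?_
        simp only [hc, Finset.mul_sum]
        rw [Finset.sum_comm]
        have : ∀ δ : Γ, ∑ i, r * γ • s * a i * δ • (b j * γ⁻¹ • b i) =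
            r * γ • s * δ • b j * ∑ i, a i * (δ * γ⁻¹) • b i := fun δ => by
          rw [Finset.mul_sum]
          exact Finset.sum_congr rfl fun i _ => by rw [smul_mul', ← mul_smul]; ring
        simp only [this, hab, mul_inv_eq_one, mul_ite, mul_one, mul_zero]
        rw [Finset.sum_ite_eq' Finset.univ γ, if_pos (Finset.mem_univ _), smul_mul']
        ring
      have e3 : inv (fun γ => graphHom (R := R) γ (r ⊗ₜ s)) =
          ∑ j, (r * algebraMap R R' (t j)) ⊗ₜ[R] a j := by
        simp only [inv, graphHom_tmul, e1, tmul_sum, ← e2, sum_tmul]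
        rw [Finset.sum_comm (γ := Fin n) (α := Γ)]
        refine Finset.sum_congr rfl fun γ _ => ?_
        rw [Finset.sum_comm]
        refine Finset.sum_congr rfl fun j _ => Finset.sum_congr rfl fun i _ => ?_
        rw [tmul_smul, smul_tmul', Algebra.smul_def, mul_comm]
      refine e3.trans ?_
      conv_rhs => rw [← sum_trace (B := R') hab (fun _ _ => rfl) s, tmul_sum]
      refine Finset.sum_congr rfl fun j _ => ?_
      simp only [Algebra.algebraMap_self, RingHom.id_apply, ← ht]
      rw [mul_comm r, ← Algebra.smul_def, ← smul_tmul', ← tmul_smul, Algebra.smul_def, mul_comm]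
  · funext δ
    show graphHom δ (inv w) = w δ
    simp only [inv, map_sum, graphHom_tmul, mul_assoc, ← Finset.mul_sum, ← mul_smul, hab,
      mul_inv_eq_one]
    simp

variable {S : Scheme.{u}}

open AlgSp in
/-- An invariant point of a sheaf descends along a Galois extension. -/
theorem exists_desc_of_invariant (h : IsGaloisExt R R' Γ) [Module.FaithfullyFlat R R']
    [Algebra.FinitePresentation R R'] (str : Spec (CommRingCat.of R) ⟶ S) {F : Sp S}
    (c : (Over.mk (Spec.map (CommRingCat.ofHom (algebraMap R R')) ≫ str) : Over S) ⟶ Over.mk str)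
    (hc : c.left = Spec.map (CommRingCat.ofHom (algebraMap R R')))
    (y : (yon S).obj (Over.mk (Spec.map (CommRingCat.ofHom (algebraMap R R')) ≫ str)) ⟶ F)
    (hy : ∀ (γ : Γ) (e : (Over.mk (Spec.map (CommRingCat.ofHom (algebraMap R R')) ≫ str) : Over S) ⟶
      Over.mk (Spec.map (CommRingCat.ofHom (algebraMap R R')) ≫ str)),
      e.left = Spec.map (CommRingCat.ofHom (MulSemiringAction.toRingHom Γ R' γ)) →
        (yon S).map e ≫ y = y) :
    ∃ s : (yon S).obj (Over.mk str) ⟶ F, (yon S).map c ≫ s = y := by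
  have hf : Flat c.left := by
    rw [hc]; exact Flat.SpecMap_iff.2 (RingHom.flat_algebraMap_iff.2 inferInstance)
  have hs : Surjective c.left := by
    rw [hc]; exact ⟨PrimeSpectrum.comap_surjective_of_faithfullyFlat⟩
  have hp : LocallyOfFinitePresentation c.left := by
    rw [hc]
    exact (HasRingHomProperty.Spec_iff (P := @LocallyOfFinitePresentation)).2
      (RingHom.finitePresentation_algebraMap.2 (inferInstance : Algebra.FinitePresentation R R'))
  refine Groth.AlgSp2.exists_desc_of_cover c y fun Z g₁ g₂ hg => ?_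
  let f := Spec.map (CommRingCat.ofHom (algebraMap R R'))
  let i := pullbackSpecIso R R' R'
  have hw : g₁.left ≫ f = g₂.left ≫ f := by
    have := congrArg CommaMorphism.left hg
    simp only [Over.comp_left, hc] at this
    exact this
  let l : Z.left ⟶ Spec (CommRingCat.of (R' ⊗[R] R')) := pullback.lift g₁.left g₂.left hw ≫ i.hom
  let P : Over S := Over.mk (i.inv ≫ pullback.fst f f ≫ f ≫ str)
  let l' : Z ⟶ P := Over.homMk l (by
    show l ≫ i.inv ≫ pullback.fst f f ≫ f ≫ str = Z.hom
    simp only [l, Category.assoc, Iso.hom_inv_id_assoc, pullback.lift_fst_assoc]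
    exact Over.w g₁)
  let q₁ : P ⟶ Over.mk (f ≫ str) := Over.homMk (i.inv ≫ pullback.fst f f) (by
    show (i.inv ≫ pullback.fst f f) ≫ f ≫ str = _
    simp [P])
  let q₂ : P ⟶ Over.mk (f ≫ str) := Over.homMk (i.inv ≫ pullback.snd f f) (by
    show (i.inv ≫ pullback.snd f f) ≫ f ≫ str = _
    simp [P, pullback.condition_assoc])
  have h1 : g₁ = l' ≫ q₁ := by
    apply Over.OverMorphism.ext
    show g₁.left = (pullback.lift g₁.left g₂.left hw ≫ i.hom) ≫ i.inv ≫ pullback.fst f f
    rw [Category.assoc, Iso.hom_inv_id_assoc, pullback.lift_fst]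
  have h2 : g₂ = l' ≫ q₂ := by
    apply Over.OverMorphism.ext
    show g₂.left = (pullback.lift g₁.left g₂.left hw ≫ i.hom) ≫ i.inv ≫ pullback.snd f f
    rw [Category.assoc, Iso.hom_inv_id_assoc, pullback.lift_snd]
  rw [h1, h2, Functor.map_comp, Functor.map_comp, Category.assoc, Category.assoc]
  congr 1
  let Φ : R' ⊗[R] R' ≃+* (Γ → R') := RingEquiv.ofBijective _ (graph_bijective h)
  have : IsIso (CommRingCat.ofHom Φ.toRingHom) := Φ.toCommRingCatIso.isIso_hom
  let 𝒰 : P.left.OpenCover :=
    ((sigmaOpenCover fun _ : Γ => Spec (CommRingCat.of R')).pushforwardIso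
      (sigmaSpec (fun _ : Γ => CommRingCat.of R') ≫
        Spec.map (CommRingCat.ofHom Φ.toRingHom)))
  let e (γ : Γ) : (Over.mk (f ≫ str) : Over S) ⟶ Over.mk (f ≫ str) :=
    Over.homMk (Spec.map (CommRingCat.ofHom (MulSemiringAction.toRingHom Γ R' γ))) (by
      show Spec.map _ ≫ Spec.map _ ≫ str = Spec.map _ ≫ str
      rw [← Spec.map_comp_assoc]
      congr 2
      ext r
      exact smul_algebraMap γ r)
  let m (γ : Γ) : Spec (CommRingCat.of R') ⟶ P.left :=
    Spec.map (CommRingCat.ofHom (graphHom (R := R) γ).toRingHom)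
  have key : ∀ (γ : Γ) (k : Spec (CommRingCat.of R') ⟶ P.left), k = m γ →
      (yon S).map (Over.homMk k rfl : Over.mk (k ≫ P.hom) ⟶ P) ≫ (yon S).map q₁ ≫ y =
        (yon S).map (Over.homMk k rfl : Over.mk (k ≫ P.hom) ⟶ P) ≫ (yon S).map q₂ ≫ y := by
    rintro γ k rfl
    have hl : m γ ≫ i.inv ≫ pullback.fst f f = 𝟙 _ := by
      rw [pullbackSpecIso_inv_fst, ← Spec.map_comp, ← Spec.map_id]
      congr 1
      ext x
      show graphHom γ (x ⊗ₜ[R] (1 : R')) = x
      simp [graphHom_tmul]
    have hr : m γ ≫ i.inv ≫ pullback.snd f f =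
        Spec.map (CommRingCat.ofHom (MulSemiringAction.toRingHom Γ R' γ)) := by
      rw [pullbackSpecIso_inv_snd, ← Spec.map_comp]
      congr 1
      ext x
      show graphHom γ ((1 : R') ⊗ₜ[R] x) = γ • x
      simp [graphHom_tmul]
    let b : (Over.mk (m γ ≫ P.hom) : Over S) ⟶ Over.mk (f ≫ str) := Over.homMk (𝟙 _) (by
      show 𝟙 _ ≫ f ≫ str = m γ ≫ i.inv ≫ pullback.fst f f ≫ f ≫ str
      rw [Category.id_comp, reassoc_of% hl])
    have k1 : (Over.homMk (m γ) rfl : Over.mk (m γ ≫ P.hom) ⟶ P) ≫ q₁ = b := by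
      apply Over.OverMorphism.ext; exact hl
    have k2 : (Over.homMk (m γ) rfl : Over.mk (m γ ≫ P.hom) ⟶ P) ≫ q₂ = b ≫ e γ := by
      apply Over.OverMorphism.ext
      show m γ ≫ i.inv ≫ pullback.snd f f = 𝟙 _ ≫ Spec.map _
      rw [Category.id_comp, hr]
    rw [← Category.assoc, ← Category.assoc, ← Functor.map_comp, ← Functor.map_comp, k1, k2,
      Functor.map_comp, Category.assoc, hy γ (e γ) rfl]
  refine Groth.AlgSp2.yon_hom_ext_of_openCover 𝒰 _ _ fun γ => key γ (𝒰.f γ) ?_
  show Sigma.ι _ γ ≫ sigmaSpec _ ≫ _ = _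
  rw [ι_sigmaSpec_assoc]
  exact (Spec.map_comp _ _).symm

end Groth.HenselPoint
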