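import Groth.Agent.HenselPoint.GaloisDescent
import Groth.Agent.Pi1Quot.Galois
import Mathlib.AlgebraicGeometry.Morphisms.Etale

/-!
# Quotients of affine schemes by free finite group actions, as schemes over a base
-/

set_option autoImplicit false

universe u

open CategoryTheory CategoryTheory.Limits AlgebraicGeometry

noncomputable section

namespace Groth.HenselPoint

open AlgSp

variable {S : Scheme.{u}}

/-- A quotient of `V` by a free action of `Γ`, étale and universal for maps into sheaves. -/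
structure IsGaloisQuot {Γ : Type u} {V Z : Over S} (a : Γ → (V ⟶ V)) (q : V ⟶ Z) : Prop where
  etale : Etale q.left
  surjective : Surjective q.left
  comp : ∀ γ, a γ ≫ q = q
  desc : ∀ (F : Sp S) (y : (yon S).obj V ⟶ F), (∀ γ, (yon S).map (a γ) ≫ y = y) →
    ∃ s : (yon S).obj Z ⟶ F, (yon S).map q ≫ s = y

theorem exists_galoisQuot {Γ : Type u} [Group Γ] [Fintype Γ] {B : CommRingCat.{u}}
    [MulSemiringAction Γ B] (hfree : Groth.Pi1Quot.IsFreeAction Γ B) (v : Spec B ⟶ S)
    (a : Γ → ((Over.mk v : Over S) ⟶ Over.mk v))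
    (ha : ∀ γ, (a γ).left = Spec.map (CommRingCat.ofHom (MulSemiringAction.toRingHom Γ B γ))) :
    ∃ (Z : Over S) (_ : IsAffine Z.left) (q : Over.mk v ⟶ Z), IsGaloisQuot a q := by
  classical
  let B₀ : Subring B :=
    { carrier := {b | ∀ γ : Γ, γ • b = b}
      mul_mem' := fun {x y} hx hy γ => by rw [smul_mul', hx, hy]
      one_mem' := fun γ => smul_one γ
      add_mem' := fun {x y} hx hy γ => by rw [smul_add, hx, hy]
      zero_mem' := fun γ => smul_zero γ
      neg_mem' := fun {x} hx γ => by rw [smul_neg, hx] }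
  have : SMulCommClass Γ B₀ B := ⟨fun γ r b => by
    show γ • ((r : B) * b) = (r : B) * γ • b
    rw [smul_mul', r.2 γ]⟩
  have : Algebra.IsInvariant B₀ B Γ := ⟨fun b hb => ⟨⟨b, hb⟩, rfl⟩⟩
  have : FaithfulSMul B₀ B := (faithfulSMul_iff_algebraMap_injective B₀ B).2 Subtype.val_injective
  have := Groth.Pi1Quot.faithfullyFlat_of_free B₀ hfree
  have := Groth.Pi1Quot.etale_of_free B₀ hfree
  have hgal : IsGaloisExt B₀ B Γ := by
    refine ⟨?_, fun x hx => ⟨⟨x, hx⟩, rfl⟩⟩
    obtain ⟨ι, _, x, y, hxy⟩ := Groth.Pi1Quot.exists_galois_coords hfree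
    refine ⟨Fintype.card ι, x ∘ (Fintype.equivFin ι).symm, y ∘ (Fintype.equivFin ι).symm,
      fun γ => ?_⟩
    rw [← hxy γ, ← (Fintype.equivFin ι).symm.sum_comp (fun i => x i * γ • y i)]
    rfl
  have hinv : ∀ γ, Spec.map (CommRingCat.ofHom (MulSemiringAction.toRingHom Γ B γ)) ≫ v = v :=
    fun γ => by rw [← ha]; exact Over.w (a γ)
  -- descend the structure morphism, working over the terminal scheme
  let B0 : CommRingCat.{u} := CommRingCat.of B₀
  let i : Spec B ⟶ Spec B0 := Spec.map (CommRingCat.ofHom (algebraMap B₀ B))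
  let str : Spec B0 ⟶ (⊤_ Scheme.{u}) := terminal.from _
  let tS : Over (⊤_ Scheme.{u}) := Over.mk (terminal.from S)
  let c : (Over.mk (i ≫ str) : Over (⊤_ Scheme.{u})) ⟶ Over.mk str := Over.homMk i rfl
  let v' : (Over.mk (i ≫ str) : Over (⊤_ Scheme.{u})) ⟶ tS := Over.homMk v (terminal.hom_ext _ _)
  obtain ⟨w, hw⟩ := exists_desc_of_invariant (R' := B) hgal str c rfl ((yon _).map v')
    (fun γ e he => by
      rw [← Functor.map_comp]
      congr 1
      apply Over.OverMorphism.ext
      show e.left ≫ v = v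
      rw [he]
      exact hinv γ)
  obtain ⟨w, rfl⟩ := (yon _).map_surjective w
  have hw' : i ≫ w.left = v := by
    rw [← Functor.map_comp] at hw
    exact congrArg CommaMorphism.left ((yon _).map_injective hw)
  let Z : Over S := Over.mk w.left
  let q : Over.mk v ⟶ Z := Over.homMk i hw'
  have hiet : Etale i :=
    (HasRingHomProperty.Spec_iff (P := @Etale)).2 (RingHom.etale_algebraMap.2 inferInstance)
  have his : Surjective i := ⟨PrimeSpectrum.comap_surjective_of_faithfullyFlat⟩
  refine ⟨Z, inferInstanceAs (IsAffine (Spec B0)), q, hiet, his, fun γ => ?_, fun F y hy => ?_⟩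
  · apply Over.OverMorphism.ext
    show (a γ).left ≫ i = i
    rw [ha, ← Spec.map_comp]
    congr 1
    ext r
    exact r.2 γ
  · -- descend the map into the sheaf
    let v'' : Spec B ⟶ S := i ≫ w.left
    let e : (Over.mk v'' : Over S) ⟶ Over.mk v := Over.homMk (𝟙 _) (by
      show 𝟙 _ ≫ v = i ≫ w.left
      rw [hw', Category.id_comp])
    obtain ⟨s, hs⟩ := exists_desc_of_invariant (R' := B) hgal w.left
      (Over.homMk i rfl : (Over.mk v'' : Over S) ⟶ Z) rfl ((yon S).map e ≫ y) (fun γ d hd => by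
        show (yon S).map d ≫ (yon S).map e ≫ y = (yon S).map e ≫ y
        conv_rhs => rw [← hy γ]
        rw [← Functor.map_comp_assoc, ← Functor.map_comp_assoc]
        congr 2
        apply Over.OverMorphism.ext
        show d.left ≫ 𝟙 _ = 𝟙 _ ≫ (a γ).left
        rw [hd, ha]
        exact (Category.comp_id _).trans (Category.id_comp _).symm)
    refine ⟨s, ?_⟩
    let e' : (Over.mk v : Over S) ⟶ Over.mk v'' := Over.homMk (𝟙 _) (by
      show 𝟙 _ ≫ i ≫ w.left = v
      rw [hw', Category.id_comp])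
    have h1 : q = e' ≫ (Over.homMk i rfl : (Over.mk v'' : Over S) ⟶ Z) := by
      apply Over.OverMorphism.ext; exact (Category.id_comp _).symm
    have h2 : e' ≫ e = 𝟙 _ := by
      apply Over.OverMorphism.ext; exact Category.id_comp _
    replace hs : (yon S).map (Over.homMk i rfl : (Over.mk v'' : Over S) ⟶ Z) ≫ s =
        (yon S).map e ≫ y := hs
    rw [h1, Functor.map_comp, Category.assoc, hs, ← Category.assoc, ← Functor.map_comp, h2]
    exact ((congrArg (· ≫ y) ((yon S).map_id _))).trans (Category.id_comp y)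

end Groth.HenselPoint
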