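import Groth.Agent.Hensel1.SmoothLift
import Mathlib.RingTheory.Etale.Descent
import Mathlib.RingTheory.Flat.FaithfullyFlat.Basic
import Mathlib.RingTheory.Invariant.Basic

/-!
# Finite Galois extensions of rings

Descent of algebras with a semilinear group action along a finite Galois extension of rings and
equivariant lifting of points of smooth algebras.
-/

set_option autoImplicit false

open TensorProduct

namespace Groth.HenselPoint

universe u

variable (R R' : Type u) [CommRing R] [CommRing R'] [Algebra R R']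
  (Γ : Type u) [Group Γ] [Fintype Γ] [DecidableEq Γ] [MulSemiringAction Γ R']

/-- `R'/R` is a finite Galois extension of rings with group `Γ`. -/
structure IsGaloisExt : Prop where
  exists_sum : ∃ (n : ℕ) (a b : Fin n → R'),
    ∀ γ : Γ, ∑ i, a i * γ • b i = if γ = 1 then 1 else 0
  fixed : ∀ x : R', (∀ γ : Γ, γ • x = x) → x ∈ Set.range (algebraMap R R')

variable {R R' Γ}
variable {B : Type u} [CommRing B] [Algebra R' B] [MulSemiringAction Γ B]

omit [DecidableEq Γ] in
theorem smul_sum_smul (γ : Γ) (b : B) : γ • ∑ δ : Γ, δ • b = ∑ δ : Γ, δ • b := by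
  rw [Finset.smul_sum]
  simp only [← mul_smul]
  exact Equiv.sum_comp (Equiv.mulLeft γ) fun δ => δ • b

theorem sum_trace {n : ℕ} {a b : Fin n → R'}
    (hab : ∀ γ : Γ, ∑ i, a i * γ • b i = if γ = 1 then 1 else 0)
    (hsemi : ∀ (γ : Γ) (r : R'), γ • algebraMap R' B r = algebraMap R' B (γ • r)) (x : B) :
    ∑ i, algebraMap R' B (a i) * ∑ γ : Γ, γ • (algebraMap R' B (b i) * x) = x := by
  simp only [Finset.mul_sum, smul_mul', hsemi, ← mul_assoc, ← map_mul]
  rw [Finset.sum_comm]
  simp only [← Finset.sum_mul, ← map_sum, hab]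
  simp

variable [SMulCommClass Γ R R'] [Algebra R B] [IsScalarTower R R' B] [SMulCommClass Γ R B]

variable (R R' Γ B) in
/-- The comparison map from the extension of the fixed subalgebra. -/
noncomputable def fixedMap : R' ⊗[R] FixedPoints.subalgebra R B Γ →ₐ[R'] B :=
  Algebra.TensorProduct.lift (Algebra.ofId R' B) (FixedPoints.subalgebra R B Γ).val
    fun _ _ => Commute.all _ _

omit [Fintype Γ] [DecidableEq Γ] [SMulCommClass Γ R R'] in
theorem fixedMap_tmul (r : R') (x : FixedPoints.subalgebra R B Γ) :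
    fixedMap R R' Γ B (r ⊗ₜ[R] x) = algebraMap R' B r * x := by
  simp [fixedMap]

/-- Galois descent: an algebra with semilinear action is the extension of its fixed subalgebra. -/
theorem fixedMap_bijective (h : IsGaloisExt R R' Γ)
    (hsemi : ∀ (γ : Γ) (r : R'), γ • algebraMap R' B r = algebraMap R' B (γ • r)) :
    Function.Bijective (fixedMap R R' Γ B) := by
  obtain ⟨n, a, b, hab⟩ := h.exists_sum
  let t (x : B) : FixedPoints.subalgebra R B Γ :=
    ⟨∑ γ : Γ, γ • x, fun γ => smul_sum_smul γ x⟩
  let inv (x : B) : R' ⊗[R] FixedPoints.subalgebra R B Γ :=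
    ∑ i, a i ⊗ₜ[R] t (algebraMap R' B (b i) * x)
  refine ⟨Function.LeftInverse.injective (g := inv) fun z => ?_, fun x => ⟨inv x, ?_⟩⟩
  · induction z using TensorProduct.induction_on with
    | zero =>
      have : t 0 = 0 := Subtype.ext (by simp [t])
      simp [inv, this]
    | tmul r x =>
      choose c hc using fun i => h.fixed (∑ γ : Γ, γ • (b i * r)) fun γ => smul_sum_smul γ _
      have ht : ∀ i, t (algebraMap R' B (b i) * fixedMap R R' Γ B (r ⊗ₜ[R] x)) = c i • x := fun i => by
        refine Subtype.ext ?_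
        show ∑ γ : Γ, γ • _ = c i • (x : B)
        rw [Algebra.smul_def, IsScalarTower.algebraMap_apply R R' B, hc, map_sum, Finset.sum_mul]
        refine Finset.sum_congr rfl fun γ _ => ?_
        rw [fixedMap_tmul, ← mul_assoc, ← map_mul, smul_mul', hsemi, x.2 γ]
      simp only [inv, ht, tmul_smul, smul_tmul', ← TensorProduct.sum_tmul]
      congr 1
      simp only [Algebra.smul_def, hc]
      conv_rhs => rw [← sum_trace (B := R') hab (fun _ _ => rfl) r]
      exact Finset.sum_congr rfl fun i _ => mul_comm _ _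
    | add z z' hz hz' =>
      conv_rhs => rw [← hz, ← hz']
      have htadd : ∀ x y, t (x + y) = t x + t y := fun x y =>
        Subtype.ext (by simp [t, smul_add, Finset.sum_add_distrib])
      simp [inv, mul_add, htadd, tmul_add, Finset.sum_add_distrib]
  · simp only [inv, map_sum, fixedMap_tmul]
    exact sum_trace hab hsemi x

omit [Algebra R' B] [MulSemiringAction Γ B] [Algebra R B] [IsScalarTower R R' B]
  [SMulCommClass Γ R B] in
/-- The trace of a Galois extension hits `1`. -/
theorem exists_trace_eq_one [Module.FaithfullyFlat R R'] (h : IsGaloisExt R R' Γ) :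
    ∃ c : R', ∑ γ : Γ, γ • c = 1 := by
  obtain ⟨n, a, b, hab⟩ := h.exists_sum
  let J : Ideal R :=
    { carrier := {r | ∃ c : R', ∑ γ : Γ, γ • c = algebraMap R R' r}
      zero_mem' := ⟨0, by simp⟩
      add_mem' := by
        rintro r s ⟨c, hc⟩ ⟨d, hd⟩
        exact ⟨c + d, by simp [smul_add, Finset.sum_add_distrib, hc, hd]⟩
      smul_mem' := by
        rintro r s ⟨c, hc⟩
        refine ⟨r • c, ?_⟩
        simp only [Algebra.smul_def, smul_mul', smul_algebraMap, ← Finset.mul_sum, hc, map_mul,
          Algebra.algebraMap_self, RingHom.id_apply] }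
  have hJ : J.map (algebraMap R R') = ⊤ := by
    rw [Ideal.eq_top_iff_one, ← sum_trace (B := R') hab (fun _ _ => rfl) 1]
    refine Ideal.sum_mem _ fun i _ => Ideal.mul_mem_left _ _ ?_
    obtain ⟨r, hr⟩ := h.fixed (∑ γ : Γ, γ • (b i * 1)) fun γ => smul_sum_smul γ _
    simp only [Algebra.algebraMap_self, RingHom.id_apply]
    exact hr ▸ Ideal.mem_map_of_mem _ ⟨b i * 1, hr.symm⟩
  have h1 : J = ⊤ := by
    rw [← Ideal.comap_map_eq_self_of_faithfullyFlat (B := R') J, hJ, Ideal.comap_top]
  obtain ⟨c, hc⟩ := (Ideal.eq_top_iff_one J).1 h1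
  exact ⟨c, by simpa using hc⟩

/-- Equivariant points of smooth algebras lift along henselian pairs. -/
theorem exists_equivariant_lift [Module.FaithfullyFlat R R'] (h : IsGaloisExt R R' Γ)
    (hsemi : ∀ (γ : Γ) (r : R'), γ • algebraMap R' B r = algebraMap R' B (γ • r))
    [Algebra.Smooth R' B] {I : Ideal R} (hI : Groth.Hensel1.Gabber I)
    (σ : B →ₐ[R'] R' ⧸ I.map (algebraMap R R'))
    (hσ : ∀ (γ : Γ) (b : B) (r : R'), σ b = Ideal.Quotient.mk _ r →
      σ (γ • b) = Ideal.Quotient.mk _ (γ • r)) :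
    ∃ s : B →ₐ[R'] R', (∀ b, Ideal.Quotient.mk _ (s b) = σ b) ∧
      ∀ (γ : Γ) (b : B), s (γ • b) = γ • s b := by
  let B₀ := FixedPoints.subalgebra R B Γ
  let e : R' ⊗[R] B₀ ≃ₐ[R'] B := AlgEquiv.ofBijective (fixedMap R R' Γ B) (fixedMap_bijective h hsemi)
  have : Algebra.Smooth R' (R' ⊗[R] B₀) := Algebra.Smooth.of_equiv e.symm
  have : Algebra.Smooth R B₀ := Algebra.Smooth.of_smooth_tensorProduct_of_faithfullyFlat R'
  obtain ⟨c, hc⟩ := exists_trace_eq_one h
  -- fixed elements modulo `I` come from `R`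
  have key : ∀ x : B₀, ∃ r : R, σ x.1 = Ideal.Quotient.mk _ (algebraMap R R' r) := by
    intro x
    obtain ⟨y, hy⟩ := Ideal.Quotient.mk_surjective (σ x.1)
    obtain ⟨r, hr⟩ := h.fixed (∑ γ : Γ, γ • (c * y)) fun γ => smul_sum_smul γ _
    refine ⟨r, ?_⟩
    have hfix : ∀ γ : Γ, Ideal.Quotient.mk (I.map (algebraMap R R')) (γ • y) =
        Ideal.Quotient.mk _ y := fun γ => by rw [← hσ γ x.1 y hy.symm, x.2 γ, hy]
    rw [hr, map_sum]
    simp only [smul_mul', map_mul, hfix, ← Finset.sum_mul, ← map_sum, hc, map_one, one_mul]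
    exact hy.symm
  choose f hf using key
  have hqi : ∀ r r' : R, Ideal.Quotient.mk (I.map (algebraMap R R')) (algebraMap R R' r) =
      Ideal.Quotient.mk _ (algebraMap R R' r') →
        Ideal.Quotient.mk I r = Ideal.Quotient.mk I r' := fun r r' e => by
    rw [Ideal.Quotient.eq, ← map_sub, ← Ideal.mem_comap,
      Ideal.comap_map_eq_self_of_faithfullyFlat] at e
    exact Ideal.Quotient.eq.2 e
  let σ₀ : B₀ →ₐ[R] R ⧸ I :=
    { toFun := fun x => Ideal.Quotient.mk I (f x)
      map_one' := hqi _ 1 (by rw [← hf, map_one (algebraMap R R'), map_one]; exact map_one σ)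
      map_mul' := fun x y => by
        rw [← map_mul]; exact hqi _ _ (by rw [← hf, map_mul, map_mul, ← hf, ← hf]; exact map_mul σ _ _)
      map_zero' := hqi _ 0 (by rw [← hf, map_zero (algebraMap R R'), map_zero]; exact map_zero σ)
      map_add' := fun x y => by
        rw [← map_add]; exact hqi _ _ (by rw [← hf, map_add, map_add, ← hf, ← hf]; exact map_add σ _ _)
      commutes' := fun r => by
        refine hqi _ r ?_
        rw [← hf]
        show σ (algebraMap R B r) = _
        rw [IsScalarTower.algebraMap_apply R R' B, σ.commutes]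
        rfl }
  obtain ⟨s₀, hs₀⟩ := Groth.Hensel1.exists_smooth_lift hI σ₀
  let s' : R' ⊗[R] B₀ →ₐ[R'] R' := Algebra.TensorProduct.lift (AlgHom.id R' R')
    ((Algebra.ofId R R').comp s₀) fun _ _ => Commute.all _ _
  let s : B →ₐ[R'] R' := s'.comp e.symm.toAlgHom
  have hs : ∀ (r : R') (x : B₀),
      s (algebraMap R' B r * x) = r * algebraMap R R' (s₀ x) := fun r x => by
    have : e.symm (algebraMap R' B r * x) = r ⊗ₜ[R] x := by
      rw [AlgEquiv.symm_apply_eq]
      exact (fixedMap_tmul r x).symm
    show s' (e.symm _) = _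
    rw [this]
    simp [s']
  refine ⟨s, fun b => ?_, fun γ b => ?_⟩
  · obtain ⟨z, rfl⟩ := e.surjective b
    induction z using TensorProduct.induction_on with
    | zero => simp
    | add z z' hz hz' => simp only [map_add, hz, hz']
    | tmul r x =>
      have he : e (r ⊗ₜ[R] x) = algebraMap R' B r * x := fixedMap_tmul r x
      rw [he, hs, map_mul σ, σ.commutes, hf, map_mul]
      congr 1
      have := DFunLike.congr_fun hs₀ x
      exact Ideal.Quotient.eq.2 (by
        rw [← map_sub]; exact Ideal.mem_map_of_mem _ (Ideal.Quotient.eq.1 this))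
  · obtain ⟨z, rfl⟩ := e.surjective b
    induction z using TensorProduct.induction_on with
    | zero => simp
    | add z z' hz hz' => simp only [map_add, smul_add, hz, hz']
    | tmul r x =>
      have he : e (r ⊗ₜ[R] x) = algebraMap R' B r * x := fixedMap_tmul r x
      rw [he, smul_mul', hsemi, x.2 γ, hs, hs, smul_mul', smul_algebraMap]

end Groth.HenselPoint
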