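import Groth.Agent.AlgStBasic.RepStack
import Groth.Agent.AlgSpBoot.EtaleTop

/-!
# A category representable by algebraic spaces over an etale stack is an etale stack
-/

set_option autoImplicit false
set_option backward.isDefEq.respectTransparency false
set_option backward.isDefEq.respectTransparency.types false

universe u

open CategoryTheory CategoryTheory.Limits AlgebraicGeometry Opposite
open Groth.StkBase Groth.AlgStBasic

namespace Groth.HenselPoint

variable {S : Scheme.{u}} {𝒳 𝒴 : AlgSt.Cat S}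

theorem isStackJet_of_repByAlgSp (h : AlgSt.RepByAlgSp 𝒳) : Stk.IsStack (Groth.AlgSpBoot.Jet S) 𝒳 := by
  obtain ⟨X, e, he⟩ := h
  exact (isStack_iff_of_isEquivOver (Groth.AlgSpBoot.Jet S) he).1 ((isStack_ofPsh_iff _ _).2
    ((isSheaf_iff_isSheaf_of_type _ _).1 (Groth.AlgSpBoot.isSheaf_Jet X.obj.property)))

theorem isStackJet_of_repByAlgSp1 (hX : FibCat.IsFibGrpd 𝒳.p) (hY : Stk.IsStack (Groth.AlgSpBoot.Jet S) 𝒴)
    (j : 𝒳 ⥤ᵇ 𝒴) (hj : AlgSt.RepByAlgSp1 j) : Stk.IsStack (Groth.AlgSpBoot.Jet S) 𝒳 := by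
  have := faithful_of_repByAlgSp1 hX hY.1 j hj
  refine ⟨hX, fun U R hR => ?_⟩
  have hYR : (Stk.resSieve R 𝒴).IsEquivalence := hY.2 R hR
  have hQ : ∀ y : FibCat.overCat U ⥤ᵇ 𝒴, (Stk.resSieve R (FibCat.fp y j)).IsEquivalence :=
    fun y => (isStackJet_of_repByAlgSp (hj U y)).2 R hR
  have h1 : (Stk.resSieve R 𝒳).Faithful := ⟨fun {G G'} α α' h => by
    have e : (postF _ j).map α = (postF _ j).map α' := (Stk.resSieve R 𝒴).map_injective
      (natTrans_ext fun a => congrArg j.map (congrArg (fun t => t.toNatTrans.app a) h))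
    exact natTrans_ext fun a => j.toFunctor.map_injective (congrArg (fun t => t.toNatTrans.app a) e)⟩
  have h2 : (Stk.resSieve R 𝒳).Full := ⟨fun {G G'} α => by
    obtain ⟨β, hβ⟩ := (Stk.resSieve R 𝒴).map_surjective (X := BasedFunctor.comp G j)
      (Y := BasedFunctor.comp G' j) (BasedCategory.whiskerRight α j)
    have := natTrans_isIso hY.1 β
    let y := BasedFunctor.comp G' j
    let A : FibCat.overCat U ⥤ᵇ FibCat.fp y j :=
      FibCat.fpLift (BasedFunctor.id _) G (asIso β).symm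
    let B : FibCat.overCat U ⥤ᵇ FibCat.fp y j :=
      FibCat.fpLift (BasedFunctor.id _) G' (Iso.refl _)
    have := natTrans_isIso hX α
    let γ : (Stk.resSieve R (FibCat.fp y j)).obj A ≅ (Stk.resSieve R (FibCat.fp y j)).obj B :=
      fpIsoMk (Iso.refl _) (asIso α) fun a => by
        have e : β.toNatTrans.app ((Stk.sieveIncl R).obj a) = j.map (α.toNatTrans.app a) :=
          congrArg (fun t => t.toNatTrans.app a) hβ
        show y.map (𝟙 _) ≫ 𝟙 _ = (isoApp (asIso β) ((Stk.sieveIncl R).obj a)).inv ≫ j.map (α.toNatTrans.app a)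
        rw [← e, y.toFunctor.map_id, Category.id_comp]
        exact (isoApp (asIso β) ((Stk.sieveIncl R).obj a)).inv_hom_id.symm
    have := hQ y
    obtain ⟨δ, hδ⟩ := (Stk.resSieve R (FibCat.fp y j)).map_surjective γ.hom
    exact ⟨BasedCategory.whiskerRight δ (FibCat.fpSnd y j),
      natTrans_ext fun a => congrArg (fun t => (t.toNatTrans.app a).hom.snd) hδ⟩⟩
  have h3 : (Stk.resSieve R 𝒳).EssSurj := ⟨fun H => by
    let y := (Stk.resSieve R 𝒴).objPreimage (BasedFunctor.comp H j)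
    let H' : Stk.sieveCat R ⥤ᵇ FibCat.fp y j :=
      FibCat.fpLift (Stk.sieveIncl R) H ((Stk.resSieve R 𝒴).objObjPreimageIso (BasedFunctor.comp H j))
    have := hQ y
    exact ⟨BasedFunctor.comp ((Stk.resSieve R (FibCat.fp y j)).objPreimage H') (FibCat.fpSnd y j),
      ⟨whiskerRightIso ((Stk.resSieve R (FibCat.fp y j)).objObjPreimageIso H') (FibCat.fpSnd y j)⟩⟩⟩
  exact Functor.IsEquivalence.mk

/-- An algebraic stack for a topology finer than the etale one is an etale stack. -/
theorem isStackJet_of_isStack {K : Precoverage Scheme.{u}} (hK : Scheme.etalePrecoverage ≤ K)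
    {𝒳 : AlgSt.Cat S} (h : Stk.IsStack (QuotSh.J K S) 𝒳) :
    Stk.IsStack (Groth.AlgSpBoot.Jet S) 𝒳 := by
  refine ⟨h.1, fun U R hR => h.2 R ?_⟩
  rw [GrothendieckTopology.mem_over_iff] at hR ⊢
  exact Precoverage.toGrothendieck_mono hK _ hR

end Groth.HenselPoint
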