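import Groth.Agent.HenselPoint.Section
import Groth.Agent.HenselPoint.FreeNbhd
import Groth.Agent.HenselPoint.GaloisQuotient

/-!
# Affine étale charts of algebraic spaces through points over henselian local rings

For an algebraic space `X` and a point over the residue field of a henselian local ring `R`, the
quotient of a free Galois-stable affine open of a fibre power of an affine étale chart is an affine
scheme, étale over `X`, through which all points over quotients of `R` extending the given point
factor.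
-/

set_option autoImplicit false

universe u

open CategoryTheory CategoryTheory.Limits AlgebraicGeometry IsLocalRing TensorProduct

noncomputable section

namespace Groth.HenselPoint

open AlgSp Groth.AlgSpBasic

variable {S : Scheme.{u}}

/-- The map from a quotient by a proper ideal of a local ring to the residue field. -/
def toResidue {R : Type u} [CommRing R] [IsLocalRing R] {a : Ideal R} (ha : a ≠ ⊤) :
    R ⧸ a →+* ResidueField R :=
  Ideal.Quotient.lift a (residue R) fun r hr => (residue_eq_zero_iff r).2 (le_maximalIdeal ha hr)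

/-- An affine étale chart through all points over quotients of a henselian local ring with given
residue point. -/
theorem exists_chart_of_residue_point {R : Type u} [CommRing R] [HenselianLocalRing R]
    (str : Spec (CommRingCat.of R) ⟶ S) (X : AlgSp.Space S)
    (x₀ : (yon S).obj (Over.mk (Spec.map (CommRingCat.ofHom (residue R)) ≫ str)) ⟶ X.obj) :
    ∃ (Z : Over S) (p : (yon S).obj Z ⟶ X.obj), IsAffine Z.left ∧ RepWith @Etale p ∧
      ∀ (a : Ideal R) (ha : a ≠ ⊤) (t : Spec (CommRingCat.of (R ⧸ a)) ⟶ S)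
        (_ : t = Spec.map (CommRingCat.ofHom (Ideal.Quotient.mk a)) ≫ str)
        (qa : Over.mk (Spec.map (CommRingCat.ofHom (residue R)) ≫ str) ⟶ Over.mk t)
        (_ : qa.left = Spec.map (CommRingCat.ofHom (toResidue ha)))
        (x : (yon S).obj (Over.mk t) ⟶ X.obj),
        (yon S).map qa ≫ x = x₀ → ∃ g : Over.mk t ⟶ Z, (yon S).map g ≫ p = x := by
  classical
  let k := ResidueField R
  let sk : Spec (CommRingCat.of k) ⟶ S := Spec.map (CommRingCat.ofHom (residue R)) ≫ str
  obtain ⟨U, c, C, g, u, K, _, _, ψ, hc, hU, hge, hu, hfin, hgal, hψ, hfaith⟩ :=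
    exists_chart_galois_point (RingHom.id k) Function.surjective_id X.property sk x₀
  obtain ⟨D⟩ := exists_galoisLiftData R K
  let R' := D.ring
  let Γ := D.Γ
  -- the point over `K`
  let sK : Spec (CommRingCat.of K) ⟶ Spec (CommRingCat.of k) :=
    Spec.map (CommRingCat.ofHom (algebraMap k K))
  let TK : Over S := Over.mk (sK ≫ sk)
  let qK : TK ⟶ Over.mk sk := Over.homMk sK rfl
  have hψg : Spec.map (CommRingCat.ofHom ψ) ≫ Spec.map g = sK := by
    rw [← Spec.map_comp]
    congr 1
    ext r
    exact RingHom.congr_fun hψ r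
  let w₀ : TK ⟶ U := (Over.homMk (Spec.map (CommRingCat.ofHom ψ)) (by
    show Spec.map _ ≫ Spec.map g ≫ sk = sK ≫ sk
    rw [reassoc_of% hψg]) : TK ⟶ Over.mk (Spec.map g ≫ sk)) ≫ u
  have hw₀ : (yon S).map w₀ ≫ c = (yon S).map qK ≫ x₀ := by
    rw [Functor.map_comp, Category.assoc, hu, ← Category.assoc, ← Functor.map_comp]
    congr 2
    apply Over.OverMorphism.ext
    exact hψg
  let τ (γ : Γ) : K →+* K := (D.toAut γ).toRingEquiv.toRingHom
  have hτk : ∀ γ, Spec.map (CommRingCat.ofHom (τ γ)) ≫ sK = sK := fun γ => by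
    rw [← Spec.map_comp]
    congr 1
    ext r
    exact (D.toAut γ).commutes r
  let eK (γ : Γ) : TK ⟶ TK := Over.homMk (Spec.map (CommRingCat.ofHom (τ γ))) (by
    show Spec.map _ ≫ sK ≫ sk = sK ≫ sk
    rw [reassoc_of% (hτk γ)])
  have heK : ∀ γ, eK γ ≫ qK = qK := fun γ => by
    apply Over.OverMorphism.ext
    exact hτk γ
  have heKm : ∀ γ δ, eK δ ≫ eK γ = eK (δ * γ) := fun γ δ => by
    apply Over.OverMorphism.ext
    show Spec.map _ ≫ Spec.map _ = Spec.map _
    rw [← Spec.map_comp]
    congr 1
    ext y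
    show D.toAut δ (D.toAut γ y) = D.toAut (δ * γ) y
    rw [D.toAut_mul]
    rfl
  -- the fibre power
  have : U.left.IsSeparated := inferInstance
  obtain ⟨W, π₀, hW₀, hπ₀, hWs⟩ := exists_isPow_fin c hc (Fintype.card Γ - 1)
  have : Nonempty Γ := ⟨1⟩
  have hcard : Fintype.card Γ - 1 + 1 = Fintype.card Γ := Nat.succ_pred_eq_of_pos Fintype.card_pos
  let e₀ : Γ ≃ ULift.{u} (Fin (Fintype.card Γ - 1 + 1)) :=
    ((Fintype.equivFin Γ).trans (finCongr hcard.symm)).trans Equiv.ulift.symm
  let π : Γ → (W ⟶ U) := fun γ => π₀ (e₀ γ)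
  have hW : IsPow c W π := hW₀.reindex e₀
  let γ₁ : Γ := e₀.symm ⟨0⟩
  have hπ₁ : Etale (π γ₁).left := by
    show Etale (π₀ (e₀ (e₀.symm ⟨0⟩))).left
    rw [e₀.apply_symm_apply]
    exact hπ₀
  choose perm hperm using fun γ : Γ => hW.lift (fun σ => π (γ * σ)) fun i j => hW.compat _ _
  have hperm1 : perm 1 = 𝟙 W := hW.hom_ext _ _ fun σ => by rw [hperm, one_mul, Category.id_comp]
  have hpermm : ∀ γ δ, perm δ ≫ perm γ = perm (δ * γ) := fun γ δ => hW.hom_ext _ _ fun σ => by
    rw [Category.assoc, hperm, hperm, hperm, mul_assoc]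
  obtain ⟨xK, hxK⟩ := hW.lift (fun σ => eK σ ≫ w₀) fun i j => by
    simp only [Functor.map_comp, Category.assoc, hw₀, ← Functor.map_comp_assoc, heK]
  have hxKe : ∀ γ, eK γ ≫ xK = xK ≫ perm γ := fun γ => hW.hom_ext _ _ fun σ => by
    rw [Category.assoc, Category.assoc, hperm, hxK, hxK, ← Category.assoc, heKm]
  have hxfaith : ∀ γ : Γ, γ ≠ 1 → xK.left ≫ (perm γ).left ≠ xK.left := by
    intro γ hγ heq
    have hγ' : D.toAut γ ≠ 1 := fun h => hγ (D.toAut.injective (h.trans (by
      have := D.toAut_mul 1 1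
      rw [mul_one] at this
      exact (mul_eq_left.1 this.symm).symm)))
    obtain ⟨σ, hσ⟩ := hfaith _ hγ'
    refine hσ ?_
    have h1 : xK ≫ perm γ = xK := Over.OverMorphism.ext heq
    have h2 := congrArg (fun m => m ≫ π (D.toAut.symm σ)) h1
    simp only [Category.assoc, hperm, hxK] at h2
    have h3 : (eK (γ * D.toAut.symm σ) ≫ w₀).left = (eK (D.toAut.symm σ) ≫ w₀).left :=
      congrArg CommaMorphism.left h2
    have key : ∀ δ : Γ, (eK δ ≫ w₀).left =
        Spec.map (CommRingCat.ofHom ((D.toAut δ).toRingEquiv.toRingHom.comp ψ)) ≫ u.left :=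
      fun δ => by
        show Spec.map _ ≫ Spec.map _ ≫ u.left = _
        rw [← Spec.map_comp_assoc]
        rfl
    rw [key, key, D.toAut_mul, Equiv.apply_symm_apply] at h3
    exact h3
  obtain ⟨B, _, j, φ, hj, hfree, hja, hjx⟩ := exists_free_affine_nbhd (W := W.left)
    (fun γ => (perm γ).left) (by rw [hperm1]; rfl) (fun γ δ => by rw [← Over.comp_left, hpermm])
    τ xK.left (fun γ => congrArg CommaMorphism.left (hxKe γ)) hxfaith
  -- the quotient
  let aV (γ : Γ) : (Over.mk (j ≫ W.hom) : Over S) ⟶ Over.mk (j ≫ W.hom) :=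
    Over.homMk (Spec.map (CommRingCat.ofHom (MulSemiringAction.toRingHom Γ B γ))) (by
      show Spec.map _ ≫ j ≫ W.hom = j ≫ W.hom
      rw [reassoc_of% (hja γ), Over.w])
  obtain ⟨Z, hZ, q, hq⟩ := exists_galoisQuot hfree (j ≫ W.hom) aV fun _ => rfl
  let jV : (Over.mk (j ≫ W.hom) : Over S) ⟶ W := Over.homMk j rfl
  have haV : ∀ γ, aV γ ≫ jV = jV ≫ perm γ := fun γ => by
    apply Over.OverMorphism.ext
    exact hja γ
  obtain ⟨p, hp⟩ := hq.desc X.obj ((yon S).map (jV ≫ π γ₁) ≫ c) fun γ => by
    rw [← Functor.map_comp_assoc, ← Category.assoc, haV, Category.assoc, hperm, Functor.map_comp,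
      Functor.map_comp, Category.assoc, Category.assoc, hW.compat (γ * γ₁) γ₁]
  have hpe : RepWith @Etale p := by
    have : MorphismProperty.IsStableUnderComposition @Etale.{u} :=
      ⟨fun _ _ _ _ => inferInstance⟩
    refine repWith_of_locP X.property (IsAlgSpace.representable_from_yon X.property p) ?_
    refine locP_of_source_cover (IsAlgSpace.yon_obj Z) X.property
      ((repWith_yon_map_iff _ q).2 hq.etale) ((repWith_yon_map_iff _ q).2 hq.surjective) ?_
    rw [hp]
    refine locP_of_repWith (repWith_comp ((repWith_yon_map_iff _ _).2 ?_) hc)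
    exact (inferInstanceAs (Etale (j ≫ (π γ₁).left)))
  refine ⟨Z, p, hZ, hpe, fun a ha t ht qa hqa x hx => ?_⟩
  -- lift to the quotient `A`
  let A := R ⧸ a
  have : Nontrivial A := Ideal.Quotient.nontrivial_iff.2 ha
  have : IsLocalRing A := IsLocalRing.of_surjective' (Ideal.Quotient.mk a) Ideal.Quotient.mk_surjective
  have : HenselianRing A (maximalIdeal A) := by
    have hs := Ideal.Quotient.mk_surjective (I := a)
    have hcm := eq_maximalIdeal (Ideal.comap_isMaximal_of_surjective _ hs (K := maximalIdeal A))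
    rw [← Ideal.map_comap_of_surjective _ hs (maximalIdeal A), hcm]
    exact Groth.Hensel1.henselianRing_quotient a
  have : HenselianLocalRing A := Groth.Hensel1.henselianLocalRing_of_henselianRing
  let algRK : Algebra R K := ((algebraMap k K).comp (residue R)).toAlgebra
  let ρA : A →ₐ[R] K :=
    { (algebraMap k K).comp (toResidue ha) with commutes' := fun _ => rfl }
  let πR : R' →ₐ[R] K := { D.toField with commutes' := D.toField_algebraMap }
  let A' := A ⊗[R] R'
  let πA : A' →ₐ[R] K := Algebra.TensorProduct.lift ρA πR fun _ _ => Commute.all _ _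
  have hπA : Function.Surjective πA := fun y => by
    obtain ⟨r, rfl⟩ := D.surjective y
    refine ⟨(1 : A) ⊗ₜ r, (Algebra.TensorProduct.lift_tmul _ _ _ _ _).trans ?_⟩
    rw [map_one, one_mul]
    rfl
  have : Nontrivial A' := πA.toRingHom.domain_nontrivial
  have : IsLocalRing A' := IsLocalRing.of_surjective'
    (Algebra.TensorProduct.includeRight (R := R) (A := A) (B := R')).toRingHom (by
      intro z
      induction z using TensorProduct.induction_on with
      | zero => exact ⟨0, map_zero _⟩
      | tmul s r =>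
        obtain ⟨s, rfl⟩ := Ideal.Quotient.mk_surjective s
        refine ⟨s • r, ?_⟩
        show (1 : A) ⊗ₜ[R] (s • r) = Ideal.Quotient.mk a s ⊗ₜ r
        rw [tmul_smul, smul_tmul', Algebra.smul_def, mul_one]
        rfl
      | add y z hy hz =>
        obtain ⟨y', rfl⟩ := hy
        obtain ⟨z', rfl⟩ := hz
        exact ⟨y' + z', map_add _ _ _⟩)
  have : HenselianLocalRing A' := Groth.Hensel1.henselianLocalRing_of_finite A A'
  letI := bcAction (R := R) (R' := R') (Γ := Γ) (A := A)
  have : SMulCommClass Γ A A' := bcAction_smulComm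
  have : Module.FaithfullyFlat R R' := inferInstance
  have hGA : IsGaloisExt A A' Γ := D.isGalois.baseChange
  let iA : Spec (CommRingCat.of A') ⟶ Spec (CommRingCat.of A) :=
    Spec.map (CommRingCat.ofHom (algebraMap A A'))
  let TA : Over S := Over.mk (iA ≫ t)
  let qA : TA ⟶ Over.mk t := Over.homMk iA rfl
  let πA' : A' →+* K := πA.toRingHom
  have hres : Spec.map (CommRingCat.ofHom (toResidue ha)) ≫
      Spec.map (CommRingCat.ofHom (Ideal.Quotient.mk a)) =
        Spec.map (CommRingCat.ofHom (residue R)) := by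
    rw [← Spec.map_comp]; rfl
  have hπi : Spec.map (CommRingCat.ofHom πA') ≫ iA =
      sK ≫ Spec.map (CommRingCat.ofHom (toResidue ha)) := by
    rw [← Spec.map_comp, ← Spec.map_comp]
    congr 1
    refine CommRingCat.hom_ext (RingHom.ext fun s => ?_)
    show πA (algebraMap A A' s) = algebraMap k K (toResidue ha s)
    refine Eq.trans (Algebra.TensorProduct.lift_tmul ρA πR _ s (1 : R')) ?_
    rw [map_one, mul_one]
    rfl
  let kA : TK ⟶ TA := Over.homMk (Spec.map (CommRingCat.ofHom πA')) (by
    show Spec.map _ ≫ iA ≫ t = sK ≫ Spec.map _ ≫ str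
    rw [reassoc_of% hπi, ht, reassoc_of% hres])
  let eA (γ : Γ) : TA ⟶ TA :=
    Over.homMk (Spec.map (CommRingCat.ofHom (MulSemiringAction.toRingHom Γ A' γ))) (by
      show Spec.map _ ≫ iA ≫ t = iA ≫ t
      rw [← Spec.map_comp_assoc]
      congr 2
      refine CommRingCat.hom_ext (RingHom.ext fun s => ?_)
      show γ • algebraMap A A' (s : A) = algebraMap A A' (s : A)
      exact smul_algebraMap γ (s : A))
  have heA : ∀ γ, eA γ ≫ qA = qA := fun γ => by
    apply Over.OverMorphism.ext
    show Spec.map _ ≫ iA = iA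
    rw [← Spec.map_comp]
    congr 1
    refine CommRingCat.hom_ext (RingHom.ext fun s => ?_)
    show γ • algebraMap A A' (s : A) = algebraMap A A' (s : A)
    exact smul_algebraMap γ (s : A)
  have heAm : ∀ γ δ, eA δ ≫ eA γ = eA (δ * γ) := fun γ δ => by
    apply Over.OverMorphism.ext
    show Spec.map _ ≫ Spec.map _ = Spec.map _
    rw [← Spec.map_comp]
    congr 1
    refine CommRingCat.hom_ext (RingHom.ext fun s => ?_)
    exact (mul_smul δ γ s).symm
  have hπγ : ∀ (γ : Γ) (z : A'), πA (γ • z) = τ γ (πA z) := fun γ z => by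
    show πA (bcHom R' A γ z) = _
    induction z using TensorProduct.induction_on with
    | zero => simp
    | add y z hy hz => simp only [map_add, hy, hz]
    | tmul s r =>
      have hs : D.toAut γ (algebraMap k K (toResidue ha s)) = algebraMap k K (toResidue ha s) :=
        (D.toAut γ).commutes _
      rw [bcHom_tmul]
      refine (Algebra.TensorProduct.lift_tmul ρA πR _ s (γ • r)).trans ?_
      refine Eq.trans ?_ (congrArg (τ γ) (Algebra.TensorProduct.lift_tmul ρA πR _ s r)).symm
      show algebraMap k K (toResidue ha s) * D.toField (γ • r) =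
        D.toAut γ (algebraMap k K (toResidue ha s) * D.toField r)
      rw [map_mul, hs, D.toField_smul]
  have hkeA : ∀ γ, kA ≫ eA γ = eK γ ≫ kA := fun γ => by
    apply Over.OverMorphism.ext
    show Spec.map _ ≫ Spec.map _ = Spec.map _ ≫ Spec.map _
    rw [← Spec.map_comp, ← Spec.map_comp]
    congr 1
    refine CommRingCat.hom_ext (RingHom.ext fun z => ?_)
    exact hπγ γ z
  -- lift the point of the chart
  obtain ⟨E, fst, snd, sq⟩ := exists_pullback_yon hc.rep x
  have hsnd : Etale snd.left := repWith_fst_of_isPullback sq hc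
  obtain ⟨e, he⟩ := (yon S).map_surjective
    (sq.lift ((yon S).map w₀) ((yon S).map (qK ≫ qa))
      (by rw [hw₀, Functor.map_comp, Category.assoc, hx]))
  have hef : e ≫ fst = w₀ := (yon S).map_injective (by rw [Functor.map_comp, he, sq.lift_fst])
  have hes : e ≫ snd = qK ≫ qa := (yon S).map_injective (by
    rw [Functor.map_comp, he, sq.lift_snd])
  obtain ⟨l, hl, hle⟩ := exists_lift_of_etale πA' hπA snd.left iA e.left (by
    rw [← Over.comp_left, hes]
    show sK ≫ qa.left = _
    rw [hqa, hπi])
  let lA : TA ⟶ E := Over.homMk l (by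
    show l ≫ E.hom = iA ≫ t
    rw [← Over.w snd, reassoc_of% hl]
    rfl)
  let uA : TA ⟶ U := lA ≫ fst
  have huA : (yon S).map uA ≫ c = (yon S).map qA ≫ x := by
    rw [Functor.map_comp, Category.assoc, sq.w, ← Category.assoc, ← Functor.map_comp]
    congr 2
    apply Over.OverMorphism.ext
    exact hl
  have hkuA : kA ≫ uA = w₀ := by
    rw [← hef, ← Category.assoc]
    congr 1
    apply Over.OverMorphism.ext
    exact hle
  obtain ⟨xA, hxA⟩ := hW.lift (fun σ => eA σ ≫ uA) fun i j => by
    simp only [Functor.map_comp, Category.assoc, huA, ← Functor.map_comp_assoc, heA]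
  have hxAe : ∀ γ, eA γ ≫ xA = xA ≫ perm γ := fun γ => hW.hom_ext _ _ fun σ => by
    rw [Category.assoc, Category.assoc, hperm, hxA, hxA, ← Category.assoc, heAm]
  have hkxA : kA ≫ xA = xK := hW.hom_ext _ _ fun σ => by
    rw [Category.assoc, hxA, hxK, reassoc_of% (hkeA σ), hkuA]
  have hclosed : ∀ pt, (Spec.map (CommRingCat.ofHom πA')).base pt = closedPoint A' := fun pt => by
    refine PrimeSpectrum.ext ?_
    show Ideal.comap πA' pt.asIdeal = maximalIdeal A'
    rw [show pt.asIdeal = ⊥ from (Ideal.eq_bot_or_top pt.asIdeal).resolve_right pt.isPrime.ne_top]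
    exact eq_maximalIdeal (RingHom.ker_isMaximal_of_surjective πA' hπA)
  have hxAV : Set.range xA.left.base ⊆ Set.range j.base := by
    refine range_subset_of_closedPoint_mem (A := CommRingCat.of A') xA.left j.opensRange ?_
    rw [← hclosed (closedPoint K)]
    show ((kA ≫ xA).left).base (closedPoint K) ∈ _
    rw [hkxA, ← hjx]
    exact ⟨_, rfl⟩
  let xV : TA ⟶ Over.mk (j ≫ W.hom) := Over.homMk (IsOpenImmersion.lift j xA.left hxAV) (by
    show IsOpenImmersion.lift j xA.left hxAV ≫ j ≫ W.hom = TA.hom
    rw [← Category.assoc, IsOpenImmersion.lift_fac, Over.w])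
  have hxV : xV ≫ jV = xA := by
    apply Over.OverMorphism.ext
    exact IsOpenImmersion.lift_fac _ _ _
  have hxVe : ∀ γ, eA γ ≫ xV = xV ≫ aV γ := fun γ => by
    apply Over.OverMorphism.ext
    rw [← cancel_mono j]
    show (eA γ ≫ xV ≫ jV).left = ((xV ≫ aV γ) ≫ jV).left
    rw [Category.assoc, haV, hxV, ← Category.assoc, hxV, hxAe]
  have : Module.FinitePresentation A A' := Module.finitePresentation_of_projective A A'
  obtain ⟨s, hs⟩ := exists_desc_of_invariant hGA t qA rfl ((yon S).map (xV ≫ q)) fun γ e he' => by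
    rw [← Functor.map_comp, ← Category.assoc]
    have : e = eA γ := Over.OverMorphism.ext he'
    rw [this, hxVe, Category.assoc, hq.comp]
  obtain ⟨s, rfl⟩ := (yon S).map_surjective s
  refine ⟨s, ?_⟩
  have : Flat qA.left := Flat.SpecMap_iff.2 (RingHom.flat_algebraMap_iff.2 inferInstance)
  have : Module.FaithfullyFlat A A' := inferInstance
  have : Surjective qA.left := ⟨PrimeSpectrum.comap_surjective_of_faithfullyFlat⟩
  have : LocallyOfFinitePresentation qA.left :=
    (HasRingHomProperty.Spec_iff (P := @LocallyOfFinitePresentation)).2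
      (RingHom.finitePresentation_algebraMap.2 (inferInstance : Algebra.FinitePresentation A A'))
  refine eq_of_map_eq qA ?_
  rw [← Category.assoc, hs, Functor.map_comp, Category.assoc, hp, ← Functor.map_comp_assoc,
    ← Category.assoc, hxV, hxA, Functor.map_comp, Category.assoc, huA, ← Functor.map_comp_assoc,
    heA]

end Groth.HenselPoint
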