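import Groth.Agent.AlgSpBasic.RepWith
import Mathlib.AlgebraicGeometry.Morphisms.Separated
import Mathlib.AlgebraicGeometry.Morphisms.Etale

/-!
# Fibre powers of a scheme over a sheaf
-/

set_option autoImplicit false

universe u

open CategoryTheory CategoryTheory.Limits AlgebraicGeometry

noncomputable section

namespace Groth.HenselPoint

open AlgSp Groth.AlgSpBasic

variable {S : Scheme.{u}} {F : Sp S} {U : Over S}

/-- `W` with `π` is the `ι`-fold fibre power of `U` over `F`. -/
structure IsPow (c : (yon S).obj U ⟶ F) {ι : Type u} (W : Over S) (π : ι → (W ⟶ U)) : Prop where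
  compat : ∀ i j, (yon S).map (π i) ≫ c = (yon S).map (π j) ≫ c
  hom_ext : ∀ ⦃T : Over S⦄ (g g' : T ⟶ W), (∀ i, g ≫ π i = g' ≫ π i) → g = g'
  lift : ∀ ⦃T : Over S⦄ (v : ι → (T ⟶ U)),
    (∀ i j, (yon S).map (v i) ≫ c = (yon S).map (v j) ≫ c) → ∃ g : T ⟶ W, ∀ i, g ≫ π i = v i

theorem IsPow.reindex {c : (yon S).obj U ⟶ F} {ι ι' : Type u} {W : Over S} {π : ι → (W ⟶ U)}
    (h : IsPow c W π) (e : ι' ≃ ι) : IsPow c W (π ∘ e) := by
  refine ⟨fun i j => h.compat _ _, fun T g g' hg => h.hom_ext g g' fun i => ?_, fun T v hv => ?_⟩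
  · simpa using hg (e.symm i)
  · obtain ⟨g, hg⟩ := h.lift (v ∘ e.symm) fun i j => hv _ _
    exact ⟨g, fun i => by simpa using hg (e i)⟩

theorem exists_isPow_fin (c : (yon S).obj U ⟶ F) (hc : RepWith @Etale c) [U.left.IsSeparated]
    (n : ℕ) : ∃ (W : Over S) (π : ULift.{u} (Fin (n + 1)) → (W ⟶ U)),
      IsPow c W π ∧ Etale (π ⟨0⟩).left ∧ W.left.IsSeparated := by
  induction n with
  | zero =>
    refine ⟨U, fun _ => 𝟙 U, ⟨fun _ _ => rfl, fun T g g' hg => ?_, fun T v _ => ⟨v ⟨0⟩, fun i => ?_⟩⟩,
      ?_, inferInstance⟩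
    · simpa using hg ⟨0⟩
    · obtain ⟨i⟩ := i
      simp [Fin.eq_zero i]
    · show Etale (𝟙 U.left)
      infer_instance
  | succ n ih =>
    obtain ⟨W, π, hW, hπ, hsep⟩ := ih
    obtain ⟨W', snd, fst, sq⟩ := exists_pullback_yon hc.rep
      ((yon S).map (π ⟨0⟩) ≫ c)
    have hfst : Etale fst.left := repWith_fst_of_isPullback sq hc
    let π' : ULift.{u} (Fin (n + 2)) → (W' ⟶ U) := fun i =>
      Fin.lastCases snd (fun j => fst ≫ π ⟨j⟩) i.down
    have hlast : π' ⟨Fin.last _⟩ = snd := by simp [π']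
    have hcast : ∀ j, π' ⟨Fin.castSucc j⟩ = fst ≫ π ⟨j⟩ := fun j => by simp [π']
    refine ⟨W', π', ⟨?_, ?_, ?_⟩, ?_, ?_⟩
    · suffices h : ∀ i, (yon S).map (π' i) ≫ c = (yon S).map fst ≫ (yon S).map (π ⟨0⟩) ≫ c from
        fun i j => (h i).trans (h j).symm
      rintro ⟨i⟩
      induction i using Fin.lastCases with
      | last => rw [hlast]; exact sq.w
      | cast j => rw [hcast, Functor.map_comp, Category.assoc, hW.compat _ ⟨0⟩]
    · intro T g g' hg
      apply (yon S).map_injective
      refine sq.hom_ext ?_ ?_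
      · simpa [← Functor.map_comp, hlast] using congrArg (yon S).map (hg ⟨Fin.last _⟩)
      · rw [← Functor.map_comp, ← Functor.map_comp]
        congr 1
        refine hW.hom_ext _ _ fun i => ?_
        simpa [hcast] using hg ⟨Fin.castSucc i.down⟩
    · intro T v hv
      obtain ⟨g₀, hg₀⟩ := hW.lift (fun i => v ⟨Fin.castSucc i.down⟩) fun i j => hv _ _
      obtain ⟨g, hg⟩ := (yon S).map_surjective (sq.lift ((yon S).map (v ⟨Fin.last _⟩))
        ((yon S).map g₀) (by rw [← Category.assoc, ← Functor.map_comp, hg₀]; exact hv _ _))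
      refine ⟨g, ?_⟩
      rintro ⟨i⟩
      apply (yon S).map_injective
      induction i using Fin.lastCases with
      | last => rw [hlast, Functor.map_comp, hg, sq.lift_fst]
      | cast j =>
        rw [hcast, ← Category.assoc, Functor.map_comp, Functor.map_comp, hg, sq.lift_snd,
          ← Functor.map_comp, hg₀]
    · have : π' ⟨0⟩ = fst ≫ π ⟨0⟩ := hcast 0
      rw [this]
      exact (inferInstanceAs (Etale (fst.left ≫ (π ⟨0⟩).left)))
    · let m : W'.left ⟶ W.left ⨯ U.left := prod.lift fst.left snd.left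
      have : Mono m := ⟨fun {T} g g' hg => by
        have h1 : g ≫ fst.left = g' ≫ fst.left := by
          rw [show fst.left = m ≫ prod.fst from (prod.lift_fst _ _).symm, reassoc_of% hg]
        have h2 : g ≫ snd.left = g' ≫ snd.left := by
          rw [show snd.left = m ≫ prod.snd from (prod.lift_snd _ _).symm, reassoc_of% hg]
        have h3 : g' ≫ W'.hom = g ≫ W'.hom := by
          rw [← Over.w fst, reassoc_of% h1]
        have hh : (Over.homMk g rfl : Over.mk (g ≫ W'.hom) ⟶ W') = Over.homMk g' h3 := by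
          apply (yon S).map_injective
          refine sq.hom_ext ?_ ?_ <;> rw [← Functor.map_comp, ← Functor.map_comp] <;> congr 1 <;>
            ext
          · exact h2
          · exact h1
        exact congrArg CommaMorphism.left hh⟩
      have : IsSeparated (prod.fst : W.left ⨯ U.left ⟶ W.left) :=
        MorphismProperty.of_isPullback (P := @IsSeparated)
          (IsPullback.of_is_product' (prodIsProd W.left U.left) terminalIsTerminal).flip
          inferInstance
      exact ⟨by
        rw [← terminal.comp_from (m ≫ prod.fst)]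
        infer_instance⟩

end Groth.HenselPoint
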