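import Groth.Agent.HenselPoint.ResSpace
import Groth.Agent.AlgStBasic.StCompact

/-!
# Restriction of scalars of a smooth algebraic space is a smooth algebraic space
-/

set_option autoImplicit false

universe u

open CategoryTheory CategoryTheory.Limits AlgebraicGeometry Opposite

noncomputable section

namespace Groth.HenselPoint

open AlgSp Groth.AlgSpBasic

variable {S : Scheme.{u}}

/-! ### Fibre powers -/

/-- A fibre power of `F ⟶ h_T` pulled back to `T₁`. -/
structure SpPow {T T₁ : Over S} {F : Sp S} (f : F ⟶ (yon S).obj T) (pT : T₁ ⟶ T) (ι : Type u) where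
  P : Sp S
  isAlgSpace : IsAlgSpace P
  p : P ⟶ (yon S).obj T₁
  smooth : LocP @Smooth p
  π : ι → (P ⟶ F)
  w : ∀ i, π i ≫ f = p ≫ (yon S).map pT
  lift : ∀ ⦃U : Over S⦄ (v : U ⟶ T₁) (x : ι → ((yon S).obj U ⟶ F)),
    (∀ i, x i ≫ f = (yon S).map (v ≫ pT)) →
      ∃ g : (yon S).obj U ⟶ P, g ≫ p = (yon S).map v ∧ ∀ i, g ≫ π i = x i
  hom_ext : ∀ ⦃U : Over S⦄ (g g' : (yon S).obj U ⟶ P), g ≫ p = g' ≫ p →
    (∀ i, g ≫ π i = g' ≫ π i) → g = g'

theorem nonempty_spPow {T T₁ : Over S} {F : Sp S} (hF : IsAlgSpace F) (f : F ⟶ (yon S).obj T)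
    (hf : LocP @Smooth f) (pT : T₁ ⟶ T) (ι : Type u) [Fintype ι] : Nonempty (SpPow f pT ι) := by
  refine Fintype.induction_empty_option (P := fun α _ => Nonempty (SpPow f pT α))
    (fun α β _ e h => ?_) ?_ (fun α _ h => ?_) ι
  · obtain ⟨D⟩ := h
    exact ⟨{
      P := D.P
      isAlgSpace := D.isAlgSpace
      p := D.p
      smooth := D.smooth
      π := fun i => D.π (e.symm i)
      w := fun i => D.w _
      lift := fun U v x hx => by
        obtain ⟨g, hg, hg'⟩ := D.lift v (fun i => x (e i)) fun i => hx _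
        exact ⟨g, hg, fun i => (hg' _).trans (by rw [e.apply_symm_apply])⟩
      hom_ext := fun U g g' h₁ h₂ => D.hom_ext g g' h₁ fun i => by simpa using h₂ (e i) }⟩
  · exact ⟨{
      P := (yon S).obj T₁
      isAlgSpace := IsAlgSpace.yon_obj T₁
      p := 𝟙 _
      smooth := Groth.AlgSpBasic.locP_of_repWith (repWith_isIso _)
      π := fun i => i.elim
      w := fun i => i.elim
      lift := fun U v x _ => ⟨(yon S).map v, Category.comp_id _, fun i => i.elim⟩
      hom_ext := fun U g g' h _ => by simpa using h }⟩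
  · obtain ⟨D⟩ := h
    have sq := IsPullback.of_hasPullback (D.p ≫ (yon S).map pT) f
    have hP := isAlgSpace_of_isPullback sq (IsAlgSpace.yon_obj T).diag D.isAlgSpace hF
    exact ⟨{
      P := pullback (D.p ≫ (yon S).map pT) f
      isAlgSpace := hP
      p := pullback.fst _ _ ≫ D.p
      smooth := Groth.AlgSpBasic.locP_comp hP D.isAlgSpace (IsAlgSpace.yon_obj T₁)
        (Groth.AlgSpBasic.locP_of_isPullback hF (IsAlgSpace.yon_obj T) D.isAlgSpace sq.flip hf)
        D.smooth
      π := fun i => i.elim (pullback.snd _ _) fun j => pullback.fst _ _ ≫ D.π j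
      w := fun i => by
        cases i with
        | none => rw [Option.elim_none, ← pullback.condition, Category.assoc]
        | some j => rw [Option.elim_some, Category.assoc, Category.assoc, D.w]
      lift := fun U v x hx => by
        obtain ⟨g, hg, hg'⟩ := D.lift v (fun i => x (some i)) fun i => hx _
        refine ⟨pullback.lift g (x none) ?_, ?_, fun i => ?_⟩
        · rw [← Category.assoc, hg, hx, Functor.map_comp]
        · rw [← Category.assoc, pullback.lift_fst, hg]
        · cases i with
          | none => exact pullback.lift_snd _ _ _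
          | some j => rw [Option.elim_some, ← Category.assoc, pullback.lift_fst, hg']
      hom_ext := fun U g g' h₁ h₂ => by
        refine pullback.hom_ext ?_ (h₂ none)
        refine D.hom_ext _ _ (by simpa using h₁) fun i => ?_
        simpa using h₂ (some i) }⟩

/-! ### Sections over a chart of the base -/

variable {B : EtBase S} {T : Over S} {F : Sp S} {f : F ⟶ (yon S).obj T}
  {Γ : Type u} [Group Γ] (C : GaloisChart B Γ)

theorem GaloisChart.comp_k {U : Over S} (b : U ⟶ C.E) (γ : Γ) :
    (b ≫ C.a γ ≫ C.k) ≫ B.e = b ≫ C.e ≫ C.j := by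
  rw [Category.assoc, Category.assoc, C.isPullback.w, ← Category.assoc (C.a γ), C.comp]

theorem GaloisChart.val_eq {U : Over S} (η : ResSec B f U) (b : U ⟶ C.E) {q : U ⟶ B.Q}
    (hq : η.q = q) (hb : q = b ≫ C.e ≫ C.j) (γ : Γ) :
    (b ≫ C.a γ ≫ C.k) ≫ B.e = 𝟙 U ≫ η.q := by
  rw [C.comp_k, Category.id_comp, hq, hb]

/-- The value of a section over a chart at a translate of the chosen lift. -/
def chartVal {U : Over S} (η : ResSec B f U) (b : U ⟶ C.E) (hq : η.q = b ≫ C.e ≫ C.j) (γ : Γ) :
    (yon S).obj U ⟶ F :=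
  η.x (𝟙 U) (b ≫ C.a γ ≫ C.k) (C.val_eq η b hq rfl γ)

theorem chartVal_comp {U : Over S} (η : ResSec B f U) (b : U ⟶ C.E)
    (hq : η.q = b ≫ C.e ≫ C.j) (γ : Γ) : chartVal C η b hq γ ≫ f = (yon S).map η.t := by
  rw [chartVal, η.x_comp, Category.id_comp]

theorem exists_lift_chart {U : Over S} {q : U ⟶ B.Q} (b : U ⟶ C.E) (hq : q = b ≫ C.e ≫ C.j)
    {V : Over S} (i : V ⟶ U) (b' : V ⟶ B.E) (h : b' ≫ B.e = i ≫ q) :
    ∃ c : V ⟶ C.E, c ≫ C.k = b' ∧ (i ≫ b) ≫ C.e = c ≫ C.e :=
  ⟨C.isPullback.lift b' (i ≫ b ≫ C.e) (by rw [h, hq, Category.assoc, Category.assoc]),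
    C.isPullback.lift_fst _ _ _, by rw [C.isPullback.lift_snd, Category.assoc]⟩

/-- Sections over a chart are determined by their values at the translates of a lift. -/
theorem chart_ext {U : Over S} {η η' : ResSec B f U} (b : U ⟶ C.E)
    (hq : η.q = b ≫ C.e ≫ C.j) (hq' : η'.q = b ≫ C.e ≫ C.j) (ht : η.t = η'.t)
    (hx : ∀ γ, chartVal C η b hq γ = chartVal C η' b hq' γ) : η = η' := by
  refine ResSec.ext (hq.trans hq'.symm) ht fun V i b' h h' => ?_
  obtain ⟨c, hc, hce⟩ := exists_lift_chart C b hq i b' h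
  refine C.hom_ext hce fun γ W l hl => ?_
  rw [η.nat, η'.nat]
  have key : ∀ (ζ : ResSec B f U) (hζ : ζ.q = b ≫ C.e ≫ C.j)
      (hh : (l ≫ b') ≫ B.e = (l ≫ i) ≫ ζ.q),
      ζ.x (l ≫ i) (l ≫ b') hh = (yon S).map (l ≫ i) ≫ chartVal C ζ b hζ γ := fun ζ hζ hh => by
    rw [chartVal, ζ.nat]
    refine ζ.x_congr (Category.comp_id _).symm ?_ _ _
    rw [← hc, reassoc_of% hl]
    simp only [Category.assoc]
  rw [key η hq, key η' hq', hx]

/-- Families over the translates of a lift give sections. -/
theorem exists_sec {U : Over S} (b : U ⟶ C.E) (t : U ⟶ T) (x : Γ → ((yon S).obj U ⟶ F))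
    (hx : ∀ γ, x γ ≫ f = (yon S).map t) :
    ∃ (η : ResSec B f U) (hq : η.q = b ≫ C.e ≫ C.j),
      η.t = t ∧ ∀ γ, chartVal C η b hq γ = x γ := by
  choose c hc hce using fun (V : Over S) (i : V ⟶ U) (b' : V ⟶ B.E)
    (h : b' ≫ B.e = i ≫ b ≫ C.e ≫ C.j) => exists_lift_chart C b rfl i b' h
  choose y hy using fun (V : Over S) (i : V ⟶ U) (b' : V ⟶ B.E)
    (h : b' ≫ B.e = i ≫ b ≫ C.e ≫ C.j) =>
      C.exists_glue (hce V i b' h) fun γ => (yon S).map i ≫ x γ
  let η : ResSec B f U :=
    { q := b ≫ C.e ≫ C.j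
      t := t
      x := fun V i b' h => y V i b' h
      x_comp := fun V i b' h => C.hom_ext (hce V i b' h) fun γ W l hl => by
        rw [← Category.assoc, hy V i b' h γ W l hl, Category.assoc, Category.assoc, hx,
          Functor.map_comp]
      nat := fun V W j i b' h => C.hom_ext (hce W (j ≫ i) (j ≫ b')
          (by rw [Category.assoc, Category.assoc, h])) fun γ Z l hl => by
        have hl' : (l ≫ j) ≫ c V i b' h = (l ≫ j) ≫ (i ≫ b) ≫ C.a γ := by
          refine C.isPullback.hom_ext ?_ ?_
          · have e := congrArg (· ≫ C.k) hl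
            simp only [Category.assoc, hc] at e
            simp only [Category.assoc, hc]
            exact e
          · simp only [Category.assoc, C.comp]
            rw [← hce V i b' h, Category.assoc]
        rw [hy W _ _ _ γ Z l hl, ← Category.assoc, ← Functor.map_comp, hy V i b' h γ Z _ hl']
        simp only [Functor.map_comp, Category.assoc] }
  refine ⟨η, rfl, rfl, fun γ => ?_⟩
  have hh : (b ≫ C.a γ ≫ C.k) ≫ B.e = 𝟙 U ≫ b ≫ C.e ≫ C.j := by
    rw [C.comp_k, Category.id_comp]
  have hl : 𝟙 U ≫ c U (𝟙 U) (b ≫ C.a γ ≫ C.k) hh = 𝟙 U ≫ (𝟙 U ≫ b) ≫ C.a γ := by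
    simp only [Category.id_comp]
    refine C.isPullback.hom_ext ?_ ?_
    · rw [hc, Category.assoc]
    · rw [← hce U (𝟙 U) _ hh, Category.id_comp, Category.assoc, C.comp]
  have e := hy U (𝟙 U) _ hh γ U (𝟙 U) hl
  rw [(yon S).map_id, Category.id_comp, Category.id_comp] at e
  exact e

/-! ### The chart of the restriction of scalars -/

section Chart

variable (T) in
/-- The product of `T` with a chart of the base. -/
def chartObj : Over S := Over.mk (pullback.fst T.hom C.E.hom ≫ T.hom)

variable (T) in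
/-- The first projection. -/
def chartFst : chartObj T C ⟶ T := Over.homMk (pullback.fst T.hom C.E.hom) rfl

variable (T) in
/-- The second projection. -/
def chartSnd : chartObj T C ⟶ C.E :=
  Over.homMk (pullback.snd T.hom C.E.hom) pullback.condition.symm

theorem smooth_chartFst : Smooth (chartFst T C).left := by
  haveI := C.smooth
  exact inferInstanceAs (Smooth (pullback.fst T.hom C.E.hom))

variable (D : SpPow f (chartFst T C) Γ)

theorem exists_chartPt {U : Over S} (v : (yon S).obj U ⟶ D.P) :
    ∃ (η : ResSec B f U)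
      (hq : η.q = ((yon S).preimage (v ≫ D.p) ≫ chartSnd T C) ≫ C.e ≫ C.j),
      η.t = (yon S).preimage (v ≫ D.p) ≫ chartFst T C ∧
        ∀ γ, chartVal C η _ hq γ = v ≫ D.π γ :=
  exists_sec C _ _ (fun γ => v ≫ D.π γ) fun γ => by
    rw [Category.assoc, D.w, Functor.map_comp, Functor.map_preimage, Category.assoc]

/-- The map from the fibre power to the restriction of scalars. -/
def chartMap : D.P ⟶ res B f :=
  ObjectProperty.homMk
    { app := fun U => ↾fun y => (exists_chartPt C D ((yEquiv (U := U.unop) (F := D.P)).symm y)).choose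
      naturality := fun U U' g => by
        ext y
        obtain ⟨hq₁, ht₁, hx₁⟩ := (exists_chartPt C D
          ((yEquiv (U := U'.unop) (F := D.P)).symm (D.P.obj.map g y))).choose_spec
        obtain ⟨hq₂, ht₂, hx₂⟩ := (exists_chartPt C D
          ((yEquiv (U := U.unop) (F := D.P)).symm y)).choose_spec
        have hv : (yEquiv (U := U'.unop) (F := D.P)).symm (D.P.obj.map g y) =
            (yon S).map g.unop ≫ (yEquiv (U := U.unop) (F := D.P)).symm y :=
          (J S).uliftYonedaEquiv_symm_map g y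
        have hp : (yon S).preimage ((yEquiv (U := U'.unop) (F := D.P)).symm (D.P.obj.map g y) ≫ D.p)
            = g.unop ≫ (yon S).preimage ((yEquiv (U := U.unop) (F := D.P)).symm y ≫ D.p) := by
          apply (yon S).map_injective
          rw [Functor.map_preimage, Functor.map_comp, Functor.map_preimage, hv, Category.assoc]
        show (exists_chartPt C D
            ((yEquiv (U := U'.unop) (F := D.P)).symm (D.P.obj.map g y))).choose =
          ResSec.restrict (exists_chartPt C D
            ((yEquiv (U := U.unop) (F := D.P)).symm y)).choose g.unop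
        generalize (exists_chartPt C D
          ((yEquiv (U := U'.unop) (F := D.P)).symm (D.P.obj.map g y))).choose = η₁ at *
        generalize (exists_chartPt C D
          ((yEquiv (U := U.unop) (F := D.P)).symm y)).choose = η₂ at *
        refine chart_ext C _ hq₁ ?_ ?_ fun γ => ?_
        · show g.unop ≫ η₂.q = _
          rw [hq₂, hp]
          simp only [Category.assoc]
        · show η₁.t = g.unop ≫ η₂.t
          rw [ht₁, ht₂, hp, Category.assoc]
        · rw [hx₁]
          refine (congrArg (fun m => m ≫ D.π γ) hv).trans ?_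
          rw [Category.assoc, ← hx₂, chartVal, η₂.nat, chartVal]
          exact η₂.x_congr (by simp) (by simp [hp]) _ _ }

theorem chartMap_spec {U : Over S} (v : (yon S).obj U ⟶ D.P) :
    ∃ hq : (resSec (v ≫ chartMap C D)).q =
        ((yon S).preimage (v ≫ D.p) ≫ chartSnd T C) ≫ C.e ≫ C.j,
      (resSec (v ≫ chartMap C D)).t = (yon S).preimage (v ≫ D.p) ≫ chartFst T C ∧
        ∀ γ, chartVal C (resSec (v ≫ chartMap C D)) _ hq γ = v ≫ D.π γ := by
  have e : resSec (v ≫ chartMap C D) = (exists_chartPt C D v).choose := by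
    show yEquiv (F := res B f) (v ≫ chartMap C D) = _
    rw [GrothendieckTopology.uliftYonedaEquiv_comp]
    show (exists_chartPt C D ((yEquiv (F := D.P)).symm (yEquiv v))).choose = _
    rw [Equiv.symm_apply_apply]
  rw [e]
  exact (exists_chartPt C D v).choose_spec

theorem isPullback_chartMap :
    IsPullback (chartMap C D) (D.p ≫ (yon S).map (chartSnd T C)) (resQ B f)
      ((yon S).map (C.e ≫ C.j)) := by
  have w : chartMap C D ≫ resQ B f =
      (D.p ≫ (yon S).map (chartSnd T C)) ≫ (yon S).map (C.e ≫ C.j) := by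
    ext U y
    obtain ⟨v, rfl⟩ := (yEquiv (U := U.unop) (F := D.P)).surjective y
    obtain ⟨hq, -, -⟩ := chartMap_spec C D v
    have e : v ≫ chartMap C D ≫ resQ B f =
        v ≫ (D.p ≫ (yon S).map (chartSnd T C)) ≫ (yon S).map (C.e ≫ C.j) := by
      rw [← Category.assoc, comp_resQ, hq]
      simp only [Functor.map_comp, Functor.map_preimage, Category.assoc]
    have e' := congrArg yEquiv e
    simp only [yEquiv, GrothendieckTopology.uliftYonedaEquiv_comp] at e'
    exact e'
  refine isPullback_of_lifts w (fun U g c hgc => ?_) fun U v v' h₁ h₂ => ?_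
  · obtain ⟨b, rfl⟩ := (yon S).map_surjective c
    rw [comp_resQ, ← Functor.map_comp] at hgc
    have hq : (resSec g).q = b ≫ C.e ≫ C.j := (yon S).map_injective hgc
    let v₁ : U ⟶ chartObj T C := Over.homMk (pullback.lift (resSec g).t.left b.left
      (by rw [Over.w, Over.w])) (by
        show pullback.lift _ _ _ ≫ pullback.fst T.hom C.E.hom ≫ T.hom = U.hom
        rw [pullback.lift_fst_assoc, Over.w])
    have hv₁ : v₁ ≫ chartFst T C = (resSec g).t := Over.OverMorphism.ext (pullback.lift_fst _ _ _)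
    have hv₂ : v₁ ≫ chartSnd T C = b := Over.OverMorphism.ext (pullback.lift_snd _ _ _)
    obtain ⟨v, hv, hvπ⟩ := D.lift v₁ (chartVal C (resSec g) b hq) fun γ => by
      rw [chartVal_comp, hv₁]
    have hpre : (yon S).preimage (v ≫ D.p) = v₁ :=
      (yon S).map_injective (by rw [Functor.map_preimage, hv])
    refine ⟨v, resSec_injective ?_, ?_⟩
    · obtain ⟨hq', ht', hx'⟩ := chartMap_spec C D v
      refine chart_ext C _ hq' ?_ ?_ fun γ => ?_
      · rw [hq, hpre, hv₂]
      · rw [ht', hpre, hv₁]
      · rw [hx', hvπ, chartVal, chartVal]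
        exact (resSec g).x_congr rfl (by rw [hpre, hv₂]) _ _
    · rw [← Category.assoc, hv, ← Functor.map_comp, hv₂]
  · obtain ⟨hq, ht, hx⟩ := chartMap_spec C D v
    obtain ⟨hq', ht', hx'⟩ := chartMap_spec C D v'
    have hb : (yon S).preimage (v ≫ D.p) ≫ chartSnd T C =
        (yon S).preimage (v' ≫ D.p) ≫ chartSnd T C := (yon S).map_injective (by
      simpa using h₂)
    have hp : (yon S).preimage (v ≫ D.p) = (yon S).preimage (v' ≫ D.p) := by
      apply Over.OverMorphism.ext
      refine pullback.hom_ext ?_ (congrArg CommaMorphism.left hb)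
      have e : (yon S).preimage (v ≫ D.p) ≫ chartFst T C =
          (yon S).preimage (v' ≫ D.p) ≫ chartFst T C := by rw [← ht, ← ht', h₁]
      exact congrArg CommaMorphism.left e
    refine D.hom_ext _ _ ?_ fun γ => ?_
    · rw [← (yon S).map_preimage (v ≫ D.p), hp, Functor.map_preimage]
    · have key : ∀ (g : (yon S).obj U ⟶ res B f) (_ : g = v' ≫ chartMap C D)
          (hh : (resSec g).q = ((yon S).preimage (v ≫ D.p) ≫ chartSnd T C) ≫ C.e ≫ C.j),
          chartVal C (resSec g) _ hh γ = v' ≫ D.π γ := by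
        rintro _ rfl hh
        rw [← hx' γ, chartVal, chartVal]
        exact (resSec _).x_congr rfl (by rw [hb]) _ _
      rw [← hx γ]
      exact key _ h₁ hq

theorem repWith_chartMap : RepWith @Etale (chartMap C D) := by
  haveI := C.etale_e
  haveI := C.openImm
  exact repWith_of_isPullback (isPullback_chartMap C D).flip
    ((repWith_yon_map_iff _ _).2 (inferInstanceAs (Etale (C.e.left ≫ C.j.left))))

end Chart

/-! ### The restriction of scalars is an algebraic space -/

/-- The restriction of scalars of a smooth algebraic space over a base covered by Galois charts is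
an algebraic space, smooth over `T`. -/
theorem isAlgSpace_res {ι : Type u} {Γi : ι → Type u} [∀ i, Group (Γi i)] [∀ i, Fintype (Γi i)]
    (Ch : ∀ i, GaloisChart B (Γi i)) (hcov : ∀ x : B.Q.left, ∃ i, x ∈ Set.range (Ch i).j.left.base)
    (hF : IsAlgSpace F) (hf : LocP @Smooth f) :
    IsAlgSpace (res B f) ∧ LocP @Smooth (resT B f) := by
  have D := fun i => (nonempty_spPow hF f hf (chartFst T (Ch i)) (Γi i)).some
  choose W w hwe hws using fun i => (D i).isAlgSpace.atlas
  obtain ⟨p, hp, -⟩ := Groth.AlgSp2.exists_glue W fun i => w i ≫ chartMap (Ch i) (D i)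
  have : MorphismProperty.IsStableUnderComposition @Etale.{u} := ⟨fun _ _ _ _ => inferInstance⟩
  have hpe : RepWith @Etale p := repWith_sigma p fun i => by
    rw [hp]
    exact repWith_comp (hwe i) (repWith_chartMap _ _)
  have hps : RepWith @Surjective p := by
    refine repWith_of_representable hpe.rep fun U V g fst snd sq => ⟨fun t => ?_⟩
    obtain ⟨i, x, hx⟩ := hcov ((resSec g).q.left.base t)
    haveI := (Ch i).surjective_e
    obtain ⟨y, rfl⟩ := (Ch i).e.left.surjective x
    have sqY := IsPullback.of_hasPullback (resSec g).q ((Ch i).e ≫ (Ch i).j)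
    obtain ⟨z, hz, -⟩ := Scheme.exists_preimage_of_isPullback (isPullback_left sqY) t y hx.symm
    let v : (yon S).obj (pullback (resSec g).q ((Ch i).e ≫ (Ch i).j)) ⟶ (D i).P :=
      (isPullback_chartMap (Ch i) (D i)).lift ((yon S).map (pullback.fst _ _) ≫ g)
        ((yon S).map (pullback.snd _ _))
        (by rw [Category.assoc, comp_resQ, ← Functor.map_comp, ← Functor.map_comp,
          pullback.condition])
    obtain ⟨Z, c, a, sqZ⟩ := exists_pullback_yon (hws i).rep v
    haveI : Surjective a.left := repWith_fst_of_isPullback sqZ (hws i)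
    obtain ⟨z', rfl⟩ := a.left.surjective z
    obtain ⟨l, hl⟩ := (yon S).map_surjective (sq.lift
      ((yon S).map (c ≫ Groth.AlgSp2.sigmaIncl W i))
      ((yon S).map (a ≫ pullback.fst _ _)) (by
        rw [Functor.map_comp, Category.assoc, hp, ← Category.assoc, sqZ.w, Category.assoc,
          IsPullback.lift_fst, ← Category.assoc, ← Functor.map_comp]))
    have hls : l ≫ snd = a ≫ pullback.fst _ _ := (yon S).map_injective (by
      rw [Functor.map_comp, hl, sq.lift_snd])
    refine ⟨l.left.base z', ?_⟩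
    have e := congrArg (fun m : Z ⟶ U => m.left.base z') hls
    simp only [Over.comp_left, Scheme.Hom.comp_apply] at e
    rw [e]
    exact hz
  have hA : IsAlgSpace (res B f) := isAlgSpace_of_chart hpe hps
  refine ⟨hA, locP_of_source_cover hA (IsAlgSpace.yon_obj T) hpe hps ?_⟩
  obtain ⟨h, hh⟩ := (yon S).map_surjective (p ≫ resT B f)
  rw [← hh]
  refine Groth.AlgSpBasic.locP_of_repWith ((repWith_yon_map_iff _ _).2 ?_)
  refine IsZariskiLocalAtSource.of_openCover (P := @Smooth)
    (sigmaOpenCover fun i => (W i).left) fun i => ?_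
  show Smooth ((Groth.AlgSp2.sigmaIncl W i).left ≫ h.left)
  rw [← Over.comp_left]
  refine Groth.AlgStBasic.left_prop_of_locP_yon (P := @Smooth) ?_
  have e : (yon S).map (Groth.AlgSp2.sigmaIncl W i ≫ h) =
      w i ≫ (D i).p ≫ (yon S).map (chartFst T (Ch i)) := by
    rw [Functor.map_comp, hh, ← Category.assoc, hp, Category.assoc]
    congr 1
    ext U y
    obtain ⟨v, rfl⟩ := (yEquiv (U := U.unop) (F := (D i).P)).surjective y
    obtain ⟨-, ht, -⟩ := chartMap_spec (Ch i) (D i) v
    have e : v ≫ chartMap (Ch i) (D i) ≫ resT B f =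
        v ≫ (D i).p ≫ (yon S).map (chartFst T (Ch i)) := by
      rw [← Category.assoc, comp_resT, ht]
      simp only [Functor.map_comp, Functor.map_preimage, Category.assoc]
    have e' := congrArg yEquiv e
    simp only [yEquiv, GrothendieckTopology.uliftYonedaEquiv_comp] at e'
    exact e'
  rw [e]
  haveI := smooth_chartFst (T := T) (Ch i)
  exact Groth.AlgSpBasic.locP_comp (IsAlgSpace.yon_obj _) (D i).isAlgSpace (IsAlgSpace.yon_obj _)
    (Groth.AlgSpBasic.locP_of_repWith
      (Groth.AlgSpBasic.repWith_mono (fun _ _ φ (h : Etale φ) => by haveI := h; infer_instance) (hwe i)))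
    (Groth.AlgSpBasic.locP_comp (D i).isAlgSpace (IsAlgSpace.yon_obj _) (IsAlgSpace.yon_obj _)
      (D i).smooth (Groth.AlgSpBasic.locP_of_repWith ((repWith_yon_map_iff _ _).2 inferInstance)))

end Groth.HenselPoint
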