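import Groth.Agent.HenselPoint.Points
import Groth.Agent.AlgSpBasic.Glue
import Groth.Agent.AlgSp2.FlatMono
import Mathlib.AlgebraicGeometry.Morphisms.FormallyUnramified

/-!
# Étale bases with Galois charts

An étale surjection `E ⟶ Q` which, over an open of `Q`, is a torsor under a finite group.
-/

set_option autoImplicit false

universe u

open CategoryTheory CategoryTheory.Limits AlgebraicGeometry

noncomputable section

namespace Groth.HenselPoint

open AlgSp Groth.AlgSpBasic

/-- An étale surjection between schemes over `S`. -/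
structure EtBase (S : Scheme.{u}) where
  Q : Over S
  E : Over S
  e : E ⟶ Q
  etale : Etale e.left
  surjective : Surjective e.left

variable {S : Scheme.{u}}

/-- An open part of `B.Q` over which `B.E` is a torsor under `Γ`. -/
structure GaloisChart (B : EtBase S) (Γ : Type u) [Group Γ] where
  Q : Over S
  E : Over S
  e : E ⟶ Q
  j : Q ⟶ B.Q
  k : E ⟶ B.E
  isPullback : IsPullback k e B.e j
  openImm : IsOpenImmersion j.left
  separated : IsSeparated e.left
  a : Γ → (E ⟶ E)
  comp : ∀ γ, a γ ≫ e = e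
  one : a 1 = 𝟙 E
  mul : ∀ γ δ, a δ ≫ a γ = a (δ * γ)
  smooth : Smooth E.hom
  points : ∀ (L : Type u) [Field L] (f g : Spec (CommRingCat.of L) ⟶ E.left),
    f ≫ e.left = g ≫ e.left → ∃! γ, f ≫ (a γ).left = g

namespace GaloisChart

variable {B : EtBase S} {Γ : Type u} [Group Γ] (C : GaloisChart B Γ)

theorem etale_e : Etale C.e.left :=
  MorphismProperty.of_isPullback (P := @Etale) (isPullback_left C.isPullback) B.etale

theorem surjective_e : Surjective C.e.left :=
  MorphismProperty.of_isPullback (P := @Surjective) (isPullback_left C.isPullback) B.surjective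

variable {T : Over S} {b b' : T ⟶ C.E} (h : b ≫ C.e = b' ≫ C.e)

/-- The pair `(γ ∘ b, b')`. -/
def pair (γ : Γ) : T.left ⟶ pullback C.e.left C.e.left :=
  pullback.lift (b ≫ C.a γ).left b'.left
    (congrArg CommaMorphism.left (show (b ≫ C.a γ) ≫ C.e = b' ≫ C.e by
      rw [Category.assoc, C.comp, h]))

/-- The locus where `b' = γ ∘ b`. -/
def locus (γ : Γ) : T.left.Opens :=
  haveI := C.etale_e
  C.pair h γ ⁻¹ᵁ (pullback.diagonal C.e.left).opensRange

theorem mem_locus_of_eq {γ : Γ} {V : Over S} (i : V ⟶ T) (hi : i ≫ b' = i ≫ b ≫ C.a γ)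
    (v : V.left) : i.left.base v ∈ C.locus h γ := by
  haveI := C.etale_e
  have e : i.left ≫ C.pair h γ = (i ≫ b').left ≫ pullback.diagonal C.e.left := by
    apply pullback.hom_ext
    · rw [Category.assoc, pair, pullback.lift_fst, Category.assoc, pullback.diagonal_fst,
        Category.comp_id, hi]
      rfl
    · rw [Category.assoc, pair, pullback.lift_snd, Category.assoc, pullback.diagonal_snd,
        Category.comp_id]
      rfl
  show (C.pair h γ).base (i.left.base v) ∈ Set.range (pullback.diagonal C.e.left).base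
  exact ⟨(i ≫ b').left.base v, (congrArg (fun m : V.left ⟶ _ => m.base v) e).symm⟩

/-- The inclusion of a locus. -/
def locusι (γ : Γ) : Over.mk ((C.locus h γ).ι ≫ T.hom) ⟶ T := Over.homMk (C.locus h γ).ι rfl

theorem locusι_eq (γ : Γ) : C.locusι h γ ≫ b' = C.locusι h γ ≫ b ≫ C.a γ := by
  haveI := C.etale_e
  have hr : Set.range ((C.locus h γ).ι ≫ C.pair h γ).base ⊆
      Set.range (pullback.diagonal C.e.left).base := by
    rintro _ ⟨p, rfl⟩
    exact p.2
  let l := IsOpenImmersion.lift (pullback.diagonal C.e.left) ((C.locus h γ).ι ≫ C.pair h γ) hr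
  have hl : l ≫ pullback.diagonal C.e.left = (C.locus h γ).ι ≫ C.pair h γ :=
    IsOpenImmersion.lift_fac _ _ hr
  have h₁ := congrArg (fun m => m ≫ pullback.fst C.e.left C.e.left) hl
  have h₂ := congrArg (fun m => m ≫ pullback.snd C.e.left C.e.left) hl
  simp only [Category.assoc, pair, pullback.lift_fst, pullback.lift_snd, pullback.diagonal_fst,
    pullback.diagonal_snd, Category.comp_id] at h₁ h₂
  apply Over.OverMorphism.ext
  exact h₂.symm.trans h₁

theorem exists_mem_locus (x : T.left) : ∃ γ, x ∈ C.locus h γ := by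
  let p := T.left.fromSpecResidueField x
  obtain ⟨γ, hγ, -⟩ := C.points (T.left.residueField x) (p ≫ b.left) (p ≫ b'.left) (by
    rw [Category.assoc, Category.assoc]
    exact congrArg (p ≫ ·) (congrArg CommaMorphism.left h))
  let V : Over S := Over.mk (p ≫ T.hom)
  let i : V ⟶ T := Over.homMk p rfl
  have hi : i ≫ b' = i ≫ b ≫ C.a γ := Over.OverMorphism.ext (by
    show p ≫ b'.left = p ≫ b.left ≫ (C.a γ).left
    rw [← Category.assoc]
    exact hγ.symm)
  refine ⟨γ, ?_⟩
  obtain ⟨v⟩ : Nonempty V.left := ⟨IsLocalRing.closedPoint (T.left.residueField x)⟩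
  have := C.mem_locus_of_eq h i hi v
  rwa [show i.left.base v = x from Scheme.fromSpecResidueField_apply _ _] at this

theorem eq_of_mem_locus {γ δ : Γ} {x : T.left} (hγ : x ∈ C.locus h γ) (hδ : x ∈ C.locus h δ) :
    γ = δ := by
  let p := T.left.fromSpecResidueField x
  have key : ∀ ε, x ∈ C.locus h ε → (p ≫ b.left) ≫ (C.a ε).left = p ≫ b'.left := fun ε hε => by
    have hr : Set.range p.base ⊆ Set.range (C.locus h ε).ι.base := by
      rintro _ ⟨q, rfl⟩
      rw [Scheme.Opens.range_ι, Scheme.fromSpecResidueField_apply]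
      exact hε
    have e := congrArg (fun m => IsOpenImmersion.lift (C.locus h ε).ι p hr ≫ CommaMorphism.left m)
      (C.locusι_eq h ε)
    simp only [Over.comp_left, locusι, Over.homMk_left, IsOpenImmersion.lift_fac_assoc] at e
    rw [Category.assoc]
    exact e.symm
  obtain ⟨γ', -, hu⟩ := C.points (T.left.residueField x) (p ≫ b.left) (p ≫ b'.left) (by
    rw [Category.assoc, Category.assoc]
    exact congrArg (p ≫ ·) (congrArg CommaMorphism.left h))
  exact (hu γ (key γ hγ)).trans (hu δ (key δ hδ)).symm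

/-- The covering by the loci. -/
def locusCover : T.left.OpenCover :=
  T.left.openCoverOfIsOpenCover (C.locus h) (by
    rw [TopologicalSpace.IsOpenCover, eq_top_iff]
    intro x _
    obtain ⟨γ, hγ⟩ := C.exists_mem_locus h x
    exact TopologicalSpace.Opens.mem_iSup.2 ⟨γ, hγ⟩)

include h in
/-- A family indexed by `Γ` glues along the loci where `b' = γ ∘ b`. -/
theorem exists_glue {F : Sp S} (x : Γ → ((yon S).obj T ⟶ F)) :
    ∃ y : (yon S).obj T ⟶ F, ∀ γ (V : Over S) (i : V ⟶ T), i ≫ b' = i ≫ b ≫ C.a γ →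
      (yon S).map i ≫ y = (yon S).map i ≫ x γ := by
  obtain ⟨y, hy⟩ := exists_glue_of_openCover (C.locusCover h)
    (fun γ => (yon S).map (C.locusι h γ) ≫ x γ) (fun γ δ Z p q e => by
      by_cases hγδ : γ = δ
      · subst hγδ
        have : p = q := Over.OverMorphism.ext ((cancel_mono (C.locus h γ).ι).1 e)
        rw [this]
      · have : IsEmpty Z.left := ⟨fun z => hγδ (C.eq_of_mem_locus h (p.left.base z).2 (by
          have e' := congrArg (fun m : Z.left ⟶ T.left => m.base z) e
          change (p.left.base z).1 = (q.left.base z).1 at e'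
          rw [e']
          exact (q.left.base z).2))⟩
        exact eq_of_isEmpty _ _)
  refine ⟨y, fun γ V i hi => ?_⟩
  have hr : Set.range i.left.base ⊆ Set.range (C.locus h γ).ι.base := by
    rintro _ ⟨v, rfl⟩
    rw [Scheme.Opens.range_ι]
    exact C.mem_locus_of_eq h i hi v
  let l : V ⟶ Over.mk ((C.locus h γ).ι ≫ T.hom) :=
    Over.homMk (IsOpenImmersion.lift (C.locus h γ).ι i.left hr) (by
      show _ ≫ (C.locus h γ).ι ≫ T.hom = V.hom
      rw [IsOpenImmersion.lift_fac_assoc, Over.w])
  have hl : l ≫ C.locusι h γ = i := Over.OverMorphism.ext (IsOpenImmersion.lift_fac _ _ hr)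
  rw [← hl, Functor.map_comp, Category.assoc, Category.assoc]
  exact congrArg ((yon S).map l ≫ ·) (hy γ)

include h in
/-- Maps agreeing wherever `b'` is a translate of `b` are equal. -/
theorem hom_ext {F : Sp S} {y y' : (yon S).obj T ⟶ F}
    (hy : ∀ γ (V : Over S) (i : V ⟶ T), i ≫ b' = i ≫ b ≫ C.a γ →
      (yon S).map i ≫ y = (yon S).map i ≫ y') : y = y' :=
  Groth.AlgSp2.yon_hom_ext_of_openCover (C.locusCover h) _ _ fun γ =>
    hy γ _ (C.locusι h γ) (C.locusι_eq h γ)

end GaloisChart

end Groth.HenselPoint
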