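import Groth.Agent.HenselPoint.ResBase
import Groth.Agent.HenselPoint.SigmaRep
import Groth.Agent.AlgSpBasic.Quotient
import Groth.Agent.AlgSpBasic.LocP
import Groth.Agent.AlgSpBasic.LocPInst
import Groth.Agent.AlgStBasic.SmoothLocal
import Groth.Prelude.Def_AlgSpRep

/-!
# Restriction of scalars along an étale base

For an algebraic space `F` over `T` and an étale base `B` the sheaf of triples consisting of a map
to `B.Q`, a map to `T` and a family of points of `F` over the pullback of `B.E`.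
-/

set_option autoImplicit false

universe u

open CategoryTheory CategoryTheory.Limits AlgebraicGeometry Opposite

noncomputable section

namespace Groth.HenselPoint

open AlgSp Groth.AlgSpBasic

variable {S : Scheme.{u}}

theorem exists_glue_sieve {T : Over S} {F : Sp S} {R : Sieve T} (hR : R ∈ J S T)
    (x : ∀ ⦃V : Over S⦄ (i : V ⟶ T), R i → ((yon S).obj V ⟶ F))
    (hx : ∀ ⦃V W : Over S⦄ (i : V ⟶ T) (j : W ⟶ V) (hi : R i),
      (yon S).map j ≫ x i hi = x (j ≫ i) (R.downward_closed hi j)) :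
    ∃ y : (yon S).obj T ⟶ F, ∀ ⦃V : Over S⦄ (i : V ⟶ T) (hi : R i), (yon S).map i ≫ y = x i hi := by
  let fam : Presieve.FamilyOfElements F.obj R.arrows := fun V i hi => yEquiv (x i hi)
  have hc : fam.SieveCompatible := fun V W i j hi => by
    show yEquiv (x (j ≫ i) _) = F.obj.map j.op (yEquiv (x i hi))
    rw [← hx i j hi]
    exact (GrothendieckTopology.uliftYonedaEquiv_naturality (J S) _ j).symm
  have hs : Presieve.IsSheaf (J S) F.obj := (isSheaf_iff_isSheaf_of_type _ _).1 F.property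
  refine ⟨yEquiv.symm ((hs R hR).amalgamate fam
    ((Presieve.compatible_iff_sieveCompatible _).2 hc)), fun V i hi => yEquiv.injective ?_⟩
  refine ((J S).uliftYonedaEquiv_naturality _ _).symm.trans ?_
  rw [Equiv.apply_symm_apply]
  exact (hs R hR).valid_glue _ i hi

theorem hom_ext_sieve {T : Over S} {F : Sp S} {R : Sieve T} (hR : R ∈ J S T)
    {y y' : (yon S).obj T ⟶ F}
    (h : ∀ ⦃V : Over S⦄ (i : V ⟶ T), R i → (yon S).map i ≫ y = (yon S).map i ≫ y') : y = y' := by
  have hs : Presieve.IsSheaf (J S) F.obj := (isSheaf_iff_isSheaf_of_type _ _).1 F.property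
  refine yEquiv.injective ((hs R hR).isSeparatedFor.ext fun V i hi => ?_)
  refine ((J S).uliftYonedaEquiv_naturality _ _).trans ?_
  rw [h i hi]
  exact ((J S).uliftYonedaEquiv_naturality _ _).symm

/-! ### The sheaf -/

variable (B : EtBase S) {T : Over S} {F : Sp S} (f : F ⟶ (yon S).obj T)

/-- A section of the restriction of scalars over `U`. -/
structure ResSec (U : Over S) : Type (u + 1) where
  q : U ⟶ B.Q
  t : U ⟶ T
  x : ∀ ⦃V : Over S⦄ (i : V ⟶ U) (b : V ⟶ B.E), b ≫ B.e = i ≫ q → ((yon S).obj V ⟶ F)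
  x_comp : ∀ ⦃V : Over S⦄ (i : V ⟶ U) (b : V ⟶ B.E) (h : b ≫ B.e = i ≫ q),
    x i b h ≫ f = (yon S).map (i ≫ t)
  nat : ∀ ⦃V W : Over S⦄ (j : W ⟶ V) (i : V ⟶ U) (b : V ⟶ B.E) (h : b ≫ B.e = i ≫ q),
    (yon S).map j ≫ x i b h = x (j ≫ i) (j ≫ b) (by rw [Category.assoc, Category.assoc, h])

variable {B f}

theorem ResSec.ext {U : Over S} {η η' : ResSec B f U} (hq : η.q = η'.q) (ht : η.t = η'.t)
    (hx : ∀ ⦃V : Over S⦄ (i : V ⟶ U) (b : V ⟶ B.E) (h : b ≫ B.e = i ≫ η.q)
      (h' : b ≫ B.e = i ≫ η'.q), η.x i b h = η'.x i b h') : η = η' := by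
  obtain ⟨q, t, x, _, _⟩ := η
  obtain ⟨q', t', x', _, _⟩ := η'
  dsimp at hq ht
  subst hq ht
  congr
  funext V i b h
  exact hx i b h h

theorem ResSec.x_congr {U : Over S} (η : ResSec B f U) {V : Over S} {i i' : V ⟶ U}
    {b b' : V ⟶ B.E} (hi : i = i') (hb : b = b') (h : b ≫ B.e = i ≫ η.q)
    (h' : b' ≫ B.e = i' ≫ η.q) : η.x i b h = η.x i' b' h' := by
  subst hi hb
  rfl

/-- Restriction of sections. -/
def ResSec.restrict {U U' : Over S} (η : ResSec B f U) (g : U' ⟶ U) : ResSec B f U' where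
  q := g ≫ η.q
  t := g ≫ η.t
  x _ i b h := η.x (i ≫ g) b (by rw [h, Category.assoc])
  x_comp _ i b h := by rw [η.x_comp, Category.assoc]
  nat _ _ j i b h := by rw [η.nat]; exact η.x_congr (Category.assoc _ _ _).symm rfl _ _

variable (B f)

/-- The presheaf of sections. -/
def resPsh : PSp S where
  obj U := ResSec B f U.unop
  map g := ↾fun η => η.restrict g.unop
  map_id U := by
    ext η
    exact ResSec.ext (Category.id_comp _) (Category.id_comp _) fun V i b h h' =>
      η.x_congr (Category.comp_id _) rfl _ _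
  map_comp g g' := by
    ext η
    exact ResSec.ext (Category.assoc _ _ _) (Category.assoc _ _ _) fun V i b h h' =>
      η.x_congr (Category.assoc _ _ _).symm rfl _ _

theorem isSheaf_resPsh : Presheaf.IsSheaf (J S) (resPsh B f) := by
  rw [isSheaf_iff_isSheaf_of_type]
  intro U R hR ξ hξ
  have hc := (Presieve.compatible_iff_sieveCompatible ξ).1 hξ
  have hc' : ∀ ⦃V W : Over S⦄ (i : V ⟶ U) (j : W ⟶ V) (hi : R i),
      ξ (j ≫ i) (R.downward_closed hi j) = ResSec.restrict (ξ i hi) j :=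
    fun V W i j hi => hc i j hi
  have xcongr : ∀ {V : Over S} {W : Over S} {i i' : V ⟶ U} (e : i = i') (hi : R i) (hi' : R i')
      (l : W ⟶ V) (b : W ⟶ B.E) (h : b ≫ B.e = l ≫ (ξ i hi).q) (h' : b ≫ B.e = l ≫ (ξ i' hi').q),
      (ξ i hi).x l b h = (ξ i' hi').x l b h' := by
    rintro V W i _ rfl hi hi' l b h h'
    rfl
  -- the map to the base
  obtain ⟨q', hq'⟩ := exists_glue_sieve hR (fun V i hi => (yon S).map (ξ i hi).q)
    (fun V W i j hi => by rw [← Functor.map_comp, hc' i j hi]; rfl)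
  obtain ⟨q, rfl⟩ := (yon S).map_surjective q'
  have hq : ∀ ⦃V : Over S⦄ (i : V ⟶ U) (hi : R i), i ≫ q = (ξ i hi).q := fun V i hi =>
    (yon S).map_injective (by rw [Functor.map_comp]; exact hq' i hi)
  obtain ⟨t', ht'⟩ := exists_glue_sieve hR (fun V i hi => (yon S).map (ξ i hi).t)
    (fun V W i j hi => by rw [← Functor.map_comp, hc' i j hi]; rfl)
  obtain ⟨t, rfl⟩ := (yon S).map_surjective t'
  have ht : ∀ ⦃V : Over S⦄ (i : V ⟶ U) (hi : R i), i ≫ t = (ξ i hi).t := fun V i hi =>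
    (yon S).map_injective (by rw [Functor.map_comp]; exact ht' i hi)
  -- the family
  have hh : ∀ ⦃V W : Over S⦄ (i : V ⟶ U) (b : V ⟶ B.E) (_ : b ≫ B.e = i ≫ q) (j : W ⟶ V)
      (hj : R (j ≫ i)), (j ≫ b) ≫ B.e = 𝟙 W ≫ (ξ (j ≫ i) hj).q := fun V W i b h j hj => by
    rw [Category.id_comp, ← hq _ hj, Category.assoc, Category.assoc, h]
  have hgl : ∀ ⦃V : Over S⦄ (i : V ⟶ U) (b : V ⟶ B.E) (h : b ≫ B.e = i ≫ q),
      ∃ y : (yon S).obj V ⟶ F, ∀ ⦃W : Over S⦄ (j : W ⟶ V) (hj : R (j ≫ i)),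
        (yon S).map j ≫ y = (ξ (j ≫ i) hj).x (𝟙 W) (j ≫ b) (hh i b h j hj) := fun V i b h => by
    refine exists_glue_sieve ((J S).pullback_stable i hR)
      (fun W j hj => (ξ (j ≫ i) hj).x (𝟙 W) (j ≫ b) (hh i b h j hj)) fun W W' j l hj => ?_
    have e := hc' (j ≫ i) l hj
    rw [(ξ (j ≫ i) hj).nat]
    refine Eq.trans ?_ (xcongr (Category.assoc l j i).symm (R.downward_closed hj l) _ (𝟙 _)
      ((l ≫ j) ≫ b) (by
        rw [Category.id_comp, ← hq _ (R.downward_closed hj l), Category.assoc, Category.assoc, h,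
          Category.assoc, Category.assoc]) _)
    obtain ⟨e₁, e₂⟩ : (ξ (l ≫ j ≫ i) (R.downward_closed hj l)).q = l ≫ (ξ (j ≫ i) hj).q ∧
        (ξ (l ≫ j ≫ i) (R.downward_closed hj l)).t = l ≫ (ξ (j ≫ i) hj).t := by
      rw [e]; exact ⟨rfl, rfl⟩
    have key : ∀ (η : ResSec B f W') (_ : η = ResSec.restrict (ξ (j ≫ i) hj) l)
        (h₁ : ((l ≫ j) ≫ b) ≫ B.e = 𝟙 _ ≫ η.q)
        (h₂ : (l ≫ j ≫ b) ≫ B.e = (l ≫ 𝟙 W) ≫ (ξ (j ≫ i) hj).q),
        (ξ (j ≫ i) hj).x (l ≫ 𝟙 W) (l ≫ j ≫ b) h₂ = η.x (𝟙 _) ((l ≫ j) ≫ b) h₁ := by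
      rintro _ rfl h₁ h₂
      exact (ξ (j ≫ i) hj).x_congr (by simp) (Category.assoc _ _ _).symm _ _
    exact key _ e _ _
  choose x hx using hgl
  let η : ResSec B f U :=
    { q := q
      t := t
      x := fun V i b h => x i b h
      x_comp := fun V i b h => hom_ext_sieve ((J S).pullback_stable i hR) fun W j hj => by
        rw [← Category.assoc, hx i b h j hj, (ξ (j ≫ i) hj).x_comp, Category.id_comp, ← ht,
          ← Functor.map_comp, Category.assoc]
      nat := fun V W j i b h => hom_ext_sieve ((J S).pullback_stable (j ≫ i) hR) fun Z l hl => by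
        have hl' : R ((l ≫ j) ≫ i) := by rw [Category.assoc]; exact hl
        rw [← Category.assoc, ← Functor.map_comp, hx i b h (l ≫ j) hl', hx _ _ _ l hl]
        refine Eq.trans (xcongr (Category.assoc l j i) hl' hl (𝟙 Z) _ _ ?_) ?_
        · rw [Category.id_comp, ← hq _ hl, Category.assoc, Category.assoc, h, Category.assoc,
            Category.assoc]
        · exact (ξ _ hl).x_congr rfl (Category.assoc _ _ _) _ _ }
  refine ⟨η, fun V i hi => ?_, fun η' hη' => ?_⟩
  · refine ResSec.ext (hq i hi) (ht i hi) fun W l b h h' => ?_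
    refine hom_ext_sieve ((J S).pullback_stable (l ≫ i) hR) fun Z j hj => ?_
    show (yon S).map j ≫ x (l ≫ i) b _ = _
    rw [hx _ _ _ j hj, (ξ i hi).nat]
    have key : ∀ (ζ : ResSec B f Z) (_ : ζ = ResSec.restrict (ξ i hi) (j ≫ l))
        (h₁ : (j ≫ b) ≫ B.e = 𝟙 Z ≫ ζ.q) (h₂ : (j ≫ b) ≫ B.e = (j ≫ l) ≫ (ξ i hi).q),
        ζ.x (𝟙 Z) (j ≫ b) h₁ = (ξ i hi).x (j ≫ l) (j ≫ b) h₂ := by
      rintro _ rfl h₁ h₂
      exact (ξ i hi).x_congr (Category.id_comp _) rfl _ _
    refine key _ ?_ _ _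
    rw [← hc' i (j ≫ l) hi]
    congr 1
  · have h₁ : ∀ ⦃V : Over S⦄ (i : V ⟶ U) (hi : R i), ResSec.restrict η' i = ξ i hi :=
      fun V i hi => hη' i hi
    have e₁ : η'.q = q := (yon S).map_injective (hom_ext_sieve hR fun V i hi => by
      rw [← Functor.map_comp, ← Functor.map_comp, hq i hi, ← h₁ i hi]; rfl)
    have e₂ : η'.t = t := (yon S).map_injective (hom_ext_sieve hR fun V i hi => by
      rw [← Functor.map_comp, ← Functor.map_comp, ht i hi, ← h₁ i hi]; rfl)
    refine ResSec.ext e₁ e₂ fun V i b h h' => hom_ext_sieve ((J S).pullback_stable i hR)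
      fun W j hj => ?_
    show _ = (yon S).map j ≫ x i b h'
    rw [hx i b h' j hj, η'.nat]
    have key : ∀ (ζ : ResSec B f W) (_ : ResSec.restrict η' (j ≫ i) = ζ)
        (ha : (j ≫ b) ≫ B.e = 𝟙 W ≫ ζ.q) (hb : (j ≫ b) ≫ B.e = (j ≫ i) ≫ η'.q),
        η'.x (j ≫ i) (j ≫ b) hb = ζ.x (𝟙 W) (j ≫ b) ha := by
      rintro _ rfl ha hb
      exact η'.x_congr (Category.id_comp _).symm rfl _ _
    exact key _ (h₁ _ hj) _ _

/-- The restriction of scalars. -/
def res : Sp S := ⟨resPsh B f, isSheaf_resPsh B f⟩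

variable {B f}

/-- The section of a point. -/
def resSec {U : Over S} (g : (yon S).obj U ⟶ res B f) : ResSec B f U :=
  yEquiv (U := U) (F := res B f) g

/-- The point of a section. -/
def resPt {U : Over S} (η : ResSec B f U) : (yon S).obj U ⟶ res B f :=
  (yEquiv (U := U) (F := res B f)).symm η

theorem resSec_resPt {U : Over S} (η : ResSec B f U) : resSec (resPt η) = η :=
  (yEquiv (U := U) (F := res B f)).apply_symm_apply η

theorem resPt_resSec {U : Over S} (g : (yon S).obj U ⟶ res B f) : resPt (resSec g) = g :=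
  (yEquiv (U := U) (F := res B f)).symm_apply_apply g

theorem resSec_map {U U' : Over S} (j : U' ⟶ U) (g : (yon S).obj U ⟶ res B f) :
    resSec ((yon S).map j ≫ g) = (resSec g).restrict j := by
  have e := GrothendieckTopology.uliftYonedaEquiv_naturality (J S) g j
  show yEquiv (F := res B f) ((yon S).map j ≫ g) = (res B f).obj.map j.op (yEquiv (F := res B f) g)
  exact e.symm

theorem resSec_injective {U : Over S} {g g' : (yon S).obj U ⟶ res B f}
    (h : resSec g = resSec g') : g = g' :=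
  yEquiv.injective h

variable (B f)

/-- The map to the base. -/
def resQ : res B f ⟶ (yon S).obj B.Q :=
  ObjectProperty.homMk
    { app := fun U => ↾fun η => ⟨(η : ResSec B f U.unop).q⟩
      naturality := fun U U' g => rfl }

/-- The map to `T`. -/
def resT : res B f ⟶ (yon S).obj T :=
  ObjectProperty.homMk
    { app := fun U => ↾fun η => ⟨(η : ResSec B f U.unop).t⟩
      naturality := fun U U' g => rfl }

variable {B f}

theorem comp_resQ {U : Over S} (g : (yon S).obj U ⟶ res B f) :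
    g ≫ resQ B f = (yon S).map (resSec g).q := by
  apply yEquiv.injective
  rw [yEquiv, GrothendieckTopology.uliftYonedaEquiv_comp]
  refine Eq.trans ?_ ((GrothendieckTopology.uliftYonedaEquiv_uliftYoneda_map (J S) _).symm)
  rfl

theorem comp_resT {U : Over S} (g : (yon S).obj U ⟶ res B f) :
    g ≫ resT B f = (yon S).map (resSec g).t := by
  apply yEquiv.injective
  rw [yEquiv, GrothendieckTopology.uliftYonedaEquiv_comp]
  refine Eq.trans ?_ ((GrothendieckTopology.uliftYonedaEquiv_uliftYoneda_map (J S) _).symm)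
  rfl

end Groth.HenselPoint
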