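import Groth.Agent.HenselPoint.GaloisRing
import Mathlib.AlgebraicGeometry.Morphisms.Smooth
import Mathlib.AlgebraicGeometry.Morphisms.Affine
import Mathlib.AlgebraicGeometry.Morphisms.Separated
import Mathlib.AlgebraicGeometry.Stalk

/-!
# Equivariant lifting of points of smooth schemes
-/

set_option autoImplicit false

open CategoryTheory AlgebraicGeometry IsLocalRing

namespace Groth.HenselPoint

universe u

variable {R R' Γ : Type u} [CommRing R] [CommRing R'] [Algebra R R']
  [Group Γ] [MulSemiringAction Γ R'] [SMulCommClass Γ R R']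

theorem map_le_comap_smul (I : Ideal R) (γ : Γ) :
    I.map (algebraMap R R') ≤
      (I.map (algebraMap R R')).comap (MulSemiringAction.toRingHom Γ R' γ) := by
  refine Ideal.map_le_iff_le_comap.2 fun r hr => ?_
  show γ • algebraMap R R' r ∈ I.map (algebraMap R R')
  rw [smul_algebraMap]
  exact Ideal.mem_map_of_mem _ hr

variable (R') in
/-- The action on the quotient by an ideal from the base. -/
noncomputable def qAct (I : Ideal R) (γ : Γ) :
    R' ⧸ I.map (algebraMap R R') →+* R' ⧸ I.map (algebraMap R R') :=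
  Ideal.quotientMap _ _ (map_le_comap_smul I γ)

theorem qAct_mk (I : Ideal R) (γ : Γ) (r : R') :
    qAct R' I γ (Ideal.Quotient.mk _ r) = Ideal.Quotient.mk _ (γ • r) := rfl

/-- A map from the spectrum of a local ring factors through any open set containing the image of
the closed point. -/
theorem range_subset_of_closedPoint_mem {A : CommRingCat.{u}} [IsLocalRing A] {X : Scheme.{u}}
    (f : Spec A ⟶ X) (U : X.Opens) (h : f.base (closedPoint A) ∈ U) :
    Set.range f.base ⊆ (U : Set X) := by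
  rintro _ ⟨p, rfl⟩
  exact ((specializes_closedPoint p).map f.base.hom.continuous).mem_open U.2 h

/-- Equivariant points of smooth separated schemes lift along henselian pairs. -/
theorem exists_equivariant_lift_scheme [Fintype Γ] [DecidableEq Γ] [Module.FaithfullyFlat R R']
    [IsLocalRing R'] (h : IsGaloisExt R R' Γ) {I : Ideal R} (hI : Groth.Hensel1.Gabber I)
    (hI' : I.map (algebraMap R R') ≠ ⊤) {W : Scheme.{u}} [W.IsSeparated]
    (q : W ⟶ Spec (CommRingCat.of R')) [Smooth q] (a : Γ → (W ⟶ W)) (ha1 : a 1 = 𝟙 W)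
    (ham : ∀ γ δ, a δ ≫ a γ = a (δ * γ))
    (haq : ∀ γ, a γ ≫ q =
      q ≫ Spec.map (CommRingCat.ofHom (MulSemiringAction.toRingHom Γ R' γ)))
    (x : Spec (CommRingCat.of (R' ⧸ I.map (algebraMap R R'))) ⟶ W)
    (hxq : x ≫ q = Spec.map (CommRingCat.ofHom (Ideal.Quotient.mk _)))
    (hxe : ∀ γ : Γ, Spec.map (CommRingCat.ofHom (qAct R' I γ)) ≫ x = x ≫ a γ) :
    ∃ s : Spec (CommRingCat.of R') ⟶ W, s ≫ q = 𝟙 _ ∧
      Spec.map (CommRingCat.ofHom (Ideal.Quotient.mk (I.map (algebraMap R R')))) ≫ s = x ∧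
      ∀ γ : Γ, Spec.map (CommRingCat.ofHom (MulSemiringAction.toRingHom Γ R' γ)) ≫ s =
        s ≫ a γ := by
  have : Nontrivial (R' ⧸ I.map (algebraMap R R')) := Ideal.Quotient.nontrivial_iff.2 hI'
  have : IsLocalRing (R' ⧸ I.map (algebraMap R R')) :=
    IsLocalRing.of_surjective' (Ideal.Quotient.mk _) Ideal.Quotient.mk_surjective
  let A := CommRingCat.of (R' ⧸ I.map (algebraMap R R'))
  let w := x.base (closedPoint A)
  obtain ⟨U, hU, hwU, -⟩ := exists_isAffineOpen_mem_and_subset
    (x := w) (U := (⊤ : W.Opens)) trivial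
  have hinv : ∀ γ, a γ ≫ a γ⁻¹ = 𝟙 W := fun γ => by rw [ham, mul_inv_cancel, ha1]
  have hiso : ∀ γ, IsIso (a γ) := fun γ =>
    ⟨a γ⁻¹, hinv γ, by rw [ham, inv_mul_cancel, ha1]⟩
  let V : W.Opens := ⨅ γ : Γ, a γ ⁻¹ᵁ U
  have : Nonempty Γ := ⟨1⟩
  have hV : IsAffineOpen V := IsAffineOpen.iInf fun γ => hU.preimage_of_isIso (a γ)
  have hfix : ∀ γ, (a γ).base w = w := fun γ => by
    have hbij : Function.Bijective (qAct R' I γ) := by
      refine Function.bijective_iff_has_inverse.2 ⟨qAct R' I γ⁻¹, fun z => ?_, fun z => ?_⟩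
      all_goals
        obtain ⟨z, rfl⟩ := Ideal.Quotient.mk_surjective z
        simp [qAct_mk]
    have hl : IsLocalHom (qAct R' I γ) :=
      ⟨fun z hz => (isUnit_map_iff (RingEquiv.ofBijective _ hbij) z).1 hz⟩
    show ((x ≫ a γ).base) (closedPoint A) = _
    rw [← hxe γ]
    show x.base ((Spec.map (CommRingCat.ofHom (qAct R' I γ))).base _) = _
    congr 1
    exact IsLocalRing.comap_closedPoint (qAct R' I γ)
  have hwV : w ∈ V := by
    show w ∈ ((⨅ γ : Γ, a γ ⁻¹ᵁ U : W.Opens) : Set W)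
    simp only [TopologicalSpace.Opens.coe_iInf, Set.mem_iInter]
    intro γ
    show (a γ).base w ∈ U
    rw [hfix]; exact hwU
  let B := Γ(W, V)
  let j : Spec B ⟶ W := hV.fromSpec
  have hj : Set.range j.base = (V : Set W) := hV.range_fromSpec
  have hstab : ∀ γ, Set.range (j ≫ a γ).base ⊆ Set.range j.base := fun γ => by
    rintro _ ⟨p, rfl⟩
    rw [hj]
    have hp : j.base p ∈ (V : Set W) := hj ▸ ⟨p, rfl⟩
    simp only [V, TopologicalSpace.Opens.coe_iInf, Set.mem_iInter] at hp ⊢
    intro δ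
    show (a γ ≫ a δ).base (j.base p) ∈ U
    rw [ham]
    exact hp (γ * δ)
  let α : Γ → (Spec B ⟶ Spec B) := fun γ => IsOpenImmersion.lift j (j ≫ a γ) (hstab γ)
  have hα : ∀ γ, α γ ≫ j = j ≫ a γ := fun γ => IsOpenImmersion.lift_fac _ _ _
  have hα1 : α 1 = 𝟙 _ := by rw [← cancel_mono j, hα, ha1, Category.comp_id, Category.id_comp]
  have hαm : ∀ γ δ, α δ ≫ α γ = α (δ * γ) := fun γ δ => by
    rw [← cancel_mono j, Category.assoc, hα, reassoc_of% hα, ham, hα]
  let φ : Γ → (B →+* B) := fun γ => (Spec.preimage (α γ)).hom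
  have hφ : ∀ γ, Spec.map (CommRingCat.ofHom (φ γ)) = α γ := fun γ => Spec.map_preimage _
  have hφ1 : ∀ b, φ 1 b = b := fun b => by
    have : Spec.preimage (α 1) = 𝟙 B := Spec.map_injective (by
      rw [Spec.map_preimage, hα1, Spec.map_id])
    show (Spec.preimage (α 1)).hom b = b
    rw [this]; rfl
  have hφm : ∀ γ δ b, φ (γ * δ) b = φ γ (φ δ b) := fun γ δ b => by
    have : Spec.preimage (α (γ * δ)) = Spec.preimage (α δ) ≫ Spec.preimage (α γ) :=
      Spec.map_injective (by rw [Spec.map_comp, Spec.map_preimage, Spec.map_preimage,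
        Spec.map_preimage, hαm])
    show (Spec.preimage (α (γ * δ))).hom b = _
    rw [this]; rfl
  let g : CommRingCat.of R' ⟶ B := Spec.preimage (j ≫ q)
  have hg : Spec.map g = j ≫ q := Spec.map_preimage _
  let algB : Algebra R' B := g.hom.toAlgebra
  let algB0 : Algebra R B := (g.hom.comp (algebraMap R R')).toAlgebra
  have : IsScalarTower R R' B := IsScalarTower.of_algebraMap_eq fun _ => rfl
  let act : MulSemiringAction Γ B :=
    { smul := fun γ b => φ γ b
      one_smul := hφ1
      mul_smul := hφm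
      smul_zero := fun γ => map_zero (φ γ)
      smul_add := fun γ => map_add (φ γ)
      smul_one := fun γ => map_one (φ γ)
      smul_mul := fun γ => map_mul (φ γ) }
  have hsemi : ∀ (γ : Γ) (r : R'), γ • algebraMap R' B r = algebraMap R' B (γ • r) := by
    intro γ r
    have : g ≫ CommRingCat.ofHom (φ γ) =
        CommRingCat.ofHom (MulSemiringAction.toRingHom Γ R' γ) ≫ g := Spec.map_injective (by
      rw [Spec.map_comp, Spec.map_comp, hφ, hg, reassoc_of% hα, haq, Category.assoc])
    exact ConcreteCategory.congr_hom this r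
  have : SMulCommClass Γ R B := ⟨fun γ r b => by
    show φ γ (r • b) = r • φ γ b
    rw [Algebra.smul_def, Algebra.smul_def, map_mul]
    congr 1
    show γ • algebraMap R' B (algebraMap R R' r) = _
    rw [hsemi, smul_algebraMap]
    rfl⟩
  have hsm : Smooth (Spec.map g) := hg ▸ inferInstance
  have : Algebra.Smooth R' B :=
    RingHom.smooth_algebraMap.1 ((HasRingHomProperty.Spec_iff (P := @Smooth)).1 hsm)
  have hxV : Set.range x.base ⊆ Set.range j.base :=
    hj ▸ range_subset_of_closedPoint_mem (A := A) x V hwV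
  let x₀ : Spec A ⟶ Spec B := IsOpenImmersion.lift j x hxV
  have hx₀ : x₀ ≫ j = x := IsOpenImmersion.lift_fac _ _ _
  let σ₀ : B ⟶ A := Spec.preimage x₀
  have hσ₀g : g ≫ σ₀ = CommRingCat.ofHom (Ideal.Quotient.mk _) := Spec.map_injective (by
    rw [Spec.map_comp, Spec.map_preimage, hg, reassoc_of% hx₀, hxq])
  let σ : B →ₐ[R'] R' ⧸ I.map (algebraMap R R') :=
    { σ₀.hom with commutes' := fun r => ConcreteCategory.congr_hom hσ₀g r }
  have hσe : ∀ γ, CommRingCat.ofHom (φ γ) ≫ σ₀ = σ₀ ≫ CommRingCat.ofHom (qAct R' I γ) :=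
    fun γ => Spec.map_injective (by
      rw [Spec.map_comp, Spec.map_comp, hφ, Spec.map_preimage, ← cancel_mono j, Category.assoc,
        Category.assoc, hα, reassoc_of% hx₀, hx₀, hxe])
  obtain ⟨s, hs, hse⟩ := exists_equivariant_lift h hsemi hI σ fun γ b r hb => by
    have h1 : σ (γ • b) = qAct R' I γ (σ b) := ConcreteCategory.congr_hom (hσe γ) b
    rw [h1, hb, qAct_mk]
  refine ⟨Spec.map (CommRingCat.ofHom s.toRingHom) ≫ j, ?_, ?_, fun γ => ?_⟩
  · rw [Category.assoc, ← hg, ← Spec.map_comp, ← Spec.map_id]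
    congr 1
    ext r
    exact s.commutes r
  · rw [← Category.assoc, ← Spec.map_comp, ← hx₀]
    congr 1
    rw [← Spec.map_preimage x₀]
    congr 1
    ext b
    exact hs b
  · rw [Category.assoc, ← hα, ← hφ, ← Category.assoc, ← Category.assoc, ← Spec.map_comp,
      ← Spec.map_comp]
    congr 2
    ext b
    exact (hse γ b).symm

end Groth.HenselPoint
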