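import Groth.Agent.HenselPoint.GaloisDescent
import Groth.Agent.HenselPoint.Scheme
import Groth.Agent.HenselPoint.Power
import Groth.Agent.AlgSpBasic.LocPInst

/-!
# Lifting points of smooth algebraic spaces over henselian local rings
-/

set_option autoImplicit false

universe u

open CategoryTheory CategoryTheory.Limits AlgebraicGeometry IsLocalRing TensorProduct

noncomputable section

namespace Groth.HenselPoint

open AlgSp Groth.AlgSpBasic

variable {S : Scheme.{u}}

/-- A flat surjective locally finitely presented map is an epimorphism for maps into sheaves. -/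
theorem eq_of_map_eq {T U : Over S} {F : Sp S} (c : T ⟶ U) [Flat c.left] [Surjective c.left]
    [LocallyOfFinitePresentation c.left] {a b : (yon S).obj U ⟶ F}
    (h : (yon S).map c ≫ a = (yon S).map c ≫ b) : a = b := by
  have hs : Presieve.IsSheaf (J S) F.obj := (isSheaf_iff_isSheaf_of_type _ _).1 F.property
  have hmem : Sieve.generate (Presieve.singleton c) ∈ J S U := by
    rw [J_eq, GrothendieckTopology.mem_over_iff]
    refine GrothendieckTopology.superset_covering _ ?_
      (Precoverage.generate_mem_toGrothendieck c.left.singleton_mem_fppfPrecoverage)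
    rw [Sieve.generate_le_iff]
    rintro _ _ ⟨⟩
    rw [Sieve.overEquiv_iff]
    exact ⟨T, Over.homMk (𝟙 _) (by simp), c, ⟨⟩, by apply Over.OverMorphism.ext; simp⟩
  apply (J S).uliftYonedaEquiv.injective
  refine Presieve.IsSeparatedFor.ext (hs _ hmem).isSeparatedFor fun Z g hg => ?_
  obtain ⟨_, k, _, ⟨⟩, rfl⟩ := hg
  rw [GrothendieckTopology.uliftYonedaEquiv_naturality,
    GrothendieckTopology.uliftYonedaEquiv_naturality, Functor.map_comp, Category.assoc,
    Category.assoc, h]

/-- An affine étale neighbourhood of a point over a closed point of a base local ring, together with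
a point in a finite Galois extension of the residue field. -/
theorem exists_chart_galois_point {A₀ : Type u} [CommRing A₀] [IsLocalRing A₀] {k : Type u}
    [Field k] (ρ : A₀ →+* k) (hρ : Function.Surjective ρ) {F : Sp S} (hF : IsAlgSpace F)
    (str : Spec (CommRingCat.of A₀) ⟶ S) (x : (yon S).obj (Over.mk str) ⟶ F) :
    ∃ (U : Over S) (c : (yon S).obj U ⟶ F) (C : CommRingCat.{u}) (g : CommRingCat.of A₀ ⟶ C)
      (u : (Over.mk (Spec.map g ≫ str) : Over S) ⟶ U)
      (K : Type u) (_ : Field K) (_ : Algebra k K) (ψ : C →+* K),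
      RepWith @Etale c ∧ IsAffine U.left ∧ g.hom.Etale ∧
        (yon S).map u ≫ c =
          (yon S).map (Over.homMk (Spec.map g) rfl : Over.mk (Spec.map g ≫ str) ⟶ Over.mk str) ≫ x ∧
        FiniteDimensional k K ∧ IsGalois k K ∧ ψ.comp g.hom = (algebraMap k K).comp ρ ∧
        ∀ γ : K ≃ₐ[k] K, γ ≠ 1 → ∃ σ : K ≃ₐ[k] K,
          Spec.map (CommRingCat.ofHom ((γ * σ).toRingEquiv.toRingHom.comp ψ)) ≫ u.left ≠
            Spec.map (CommRingCat.ofHom (σ.toRingEquiv.toRingHom.comp ψ)) ≫ u.left := by
  obtain ⟨U₀, c₀, he, hs⟩ := hF.atlas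
  obtain ⟨E₀, fst₀, snd₀, sq₀⟩ := exists_pullback_yon he.rep x
  have hs₀ : Surjective snd₀.left := repWith_fst_of_isPullback sq₀ hs
  obtain ⟨e, he₀⟩ := hs₀.surj (closedPoint A₀)
  obtain ⟨V, hV, heV, -⟩ := exists_isAffineOpen_mem_and_subset
    (x := fst₀.left.base e) (U := (⊤ : U₀.left.Opens)) trivial
  let U : Over S := Over.mk (V.ι ≫ U₀.hom)
  let j : U ⟶ U₀ := Over.homMk V.ι rfl
  have hc : RepWith @Etale ((yon S).map j ≫ c₀) := by
    have : MorphismProperty.IsStableUnderComposition @Etale.{u} :=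
      ⟨fun _ _ _ _ => inferInstance⟩
    exact repWith_comp ((repWith_yon_map_iff _ _).2 (inferInstanceAs (Etale V.ι))) he
  obtain ⟨E, fst, snd, sq⟩ := exists_pullback_yon hc.rep x
  have hsnd : Etale snd.left := repWith_fst_of_isPullback sq hc
  -- a point of `E` over the closed point
  obtain ⟨z, hz⟩ : ∃ z, snd.left.base z = closedPoint A₀ := by
    let T : Over S := Over.mk ((fst₀.left ⁻¹ᵁ V).ι ≫ E₀.hom)
    let t : T ⟶ E₀ := Over.homMk (fst₀.left ⁻¹ᵁ V).ι rfl
    let t' : T ⟶ U := Over.homMk (fst₀.left ∣_ V) (by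
      show (fst₀.left ∣_ V) ≫ V.ι ≫ U₀.hom = (fst₀.left ⁻¹ᵁ V).ι ≫ E₀.hom
      rw [morphismRestrict_ι_assoc, Over.w fst₀])
    have htt : t' ≫ j = t ≫ fst₀ := by
      apply Over.OverMorphism.ext; exact morphismRestrict_ι _ _
    obtain ⟨l, hl⟩ := (yon S).map_surjective (sq.lift ((yon S).map t') ((yon S).map (t ≫ snd₀)) (by
      rw [← Category.assoc, ← Functor.map_comp, htt, Functor.map_comp, Category.assoc, sq₀.w,
        Functor.map_comp, Category.assoc]))
    have hls : l ≫ snd = t ≫ snd₀ := (yon S).map_injective (by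
      rw [Functor.map_comp, hl, sq.lift_snd])
    refine ⟨l.left.base ⟨e, heV⟩, ?_⟩
    have := congrArg (fun k : T ⟶ Over.mk str => k.left.base ⟨e, heV⟩) hls
    exact this.trans he₀
  obtain ⟨W, hW, hzW, -⟩ := exists_isAffineOpen_mem_and_subset
    (x := z) (U := (⊤ : E.left.Opens)) trivial
  let C := Γ(E.left, W)
  let g : CommRingCat.of A₀ ⟶ C := Spec.preimage (hW.fromSpec ≫ snd.left)
  have hg : Spec.map g = hW.fromSpec ≫ snd.left := Spec.map_preimage _
  have hge : g.hom.Etale := (HasRingHomProperty.Spec_iff (P := @Etale)).1 (hg ▸ inferInstance)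
  let algC : Algebra A₀ C := g.hom.toAlgebra
  let algk : Algebra A₀ k := ρ.toAlgebra
  have : Algebra.Etale A₀ C := RingHom.etale_algebraMap.1 hge
  -- the fibre over the closed point is nonempty
  obtain ⟨z', hz'⟩ : ∃ z' : PrimeSpectrum C, PrimeSpectrum.comap g.hom z' = closedPoint A₀ := by
    obtain ⟨z', rfl⟩ : z ∈ Set.range hW.fromSpec.base := by rw [hW.range_fromSpec]; exact hzW
    refine ⟨z', ?_⟩
    show (Spec.map g).base z' = _
    rw [hg]
    exact hz
  have hker : RingHom.ker ρ = maximalIdeal A₀ :=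
    eq_maximalIdeal (RingHom.ker_isMaximal_of_surjective ρ hρ)
  let P := z'.asIdeal.ResidueField
  let a : A₀ →+* P := (algebraMap C P).comp g.hom
  have ha : RingHom.ker ρ ≤ RingHom.ker a := fun r hr => by
    rw [hker, ← show (PrimeSpectrum.comap g.hom z').asIdeal = maximalIdeal A₀ from
      congrArg PrimeSpectrum.asIdeal hz'] at hr
    exact Ideal.algebraMap_residueField_eq_zero.2 hr
  let b : k →+* P := (RingHom.liftOfSurjective ρ hρ) ⟨a, ha⟩
  have hb : ∀ r, b (ρ r) = a r := fun r => RingHom.liftOfRightInverse_comp_apply _ _ _ _ r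
  let algkP : Algebra k P := b.toAlgebra
  let algP : Algebra A₀ P := a.toAlgebra
  have : IsScalarTower A₀ k P := IsScalarTower.of_algebraMap_eq fun r => (hb r).symm
  let cP : C →ₐ[A₀] P := { algebraMap C P with commutes' := fun _ => rfl }
  let m : TensorProduct A₀ k C →ₐ[k] P :=
    Algebra.TensorProduct.lift (Algebra.ofId k P) cP fun _ _ => Commute.all _ _
  have : Nontrivial (TensorProduct A₀ k C) := m.toRingHom.domain_nontrivial
  obtain ⟨K, _, _, φ, hfin, hgal, hfaith⟩ := exists_galois_point k (TensorProduct A₀ k C)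
  let w : (Over.mk (Spec.map g ≫ str) : Over S) ⟶ E := Over.homMk hW.fromSpec (by
    show hW.fromSpec ≫ E.hom = Spec.map g ≫ str
    rw [hg, Category.assoc]
    congr 1
    exact (Over.w snd).symm)
  have hψ : (φ.toRingHom.comp Algebra.TensorProduct.includeRight.toRingHom).comp g.hom =
      (algebraMap k K).comp ρ := by
    ext r
    show φ ((1 : k) ⊗ₜ[A₀] algebraMap A₀ C r) = algebraMap k K (ρ r)
    rw [← φ.commutes (ρ r), Algebra.TensorProduct.algebraMap_apply, ← mul_one (algebraMap A₀ C r),
      ← Algebra.smul_def, TensorProduct.tmul_smul, TensorProduct.smul_tmul', Algebra.smul_def,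
      mul_one]
    rfl
  refine ⟨U, _, C, g, w ≫ fst, K, inferInstance, inferInstance,
    φ.toRingHom.comp Algebra.TensorProduct.includeRight.toRingHom, hc, hV, hge, ?_, hfin, hgal,
    hψ, fun γ hγ => ?_⟩
  · rw [Functor.map_comp, Category.assoc, sq.w, ← Category.assoc, ← Functor.map_comp]
    congr 2
    apply Over.OverMorphism.ext
    exact hg.symm
  · obtain ⟨σ, d, hd⟩ := hfaith γ hγ
    refine ⟨σ, fun heq => hd ?_⟩
    let ψ₀ : C →+* K := φ.toRingHom.comp Algebra.TensorProduct.includeRight.toRingHom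
    have hτ : ∀ τ : K ≃ₐ[k] K, g ≫ CommRingCat.ofHom (τ.toRingEquiv.toRingHom.comp ψ₀) =
        CommRingCat.ofHom ((algebraMap k K).comp ρ) := fun τ => by
      ext r
      show τ (ψ₀ (g.hom r)) = algebraMap k K (ρ r)
      rw [show ψ₀ (g.hom r) = algebraMap k K (ρ r) from RingHom.congr_fun hψ r, AlgEquiv.commutes]
    let m (τ : K ≃ₐ[k] K) : Spec (CommRingCat.of K) ⟶ Spec C :=
      Spec.map (CommRingCat.ofHom (τ.toRingEquiv.toRingHom.comp ψ₀))
    have h1 : m (γ * σ) ≫ w.left ≫ fst.left = m σ ≫ w.left ≫ fst.left := heq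
    have h2 : m (γ * σ) ≫ w.left ≫ snd.left = m σ ≫ w.left ≫ snd.left := by
      rw [show w.left ≫ snd.left = Spec.map g from hg.symm, ← Spec.map_comp, ← Spec.map_comp,
        hτ, hτ]
    have h3 : (m σ ≫ w.left) ≫ E.hom = (m (γ * σ) ≫ w.left) ≫ E.hom := by
      simp only [Category.assoc, ← Over.w fst]
      rw [reassoc_of% h1]
    have hh : (Over.homMk (m (γ * σ) ≫ w.left) rfl :
        Over.mk ((m (γ * σ) ≫ w.left) ≫ E.hom) ⟶ E) = Over.homMk (m σ ≫ w.left) h3 := by
      apply (yon S).map_injective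
      refine sq.hom_ext ?_ ?_ <;> rw [← Functor.map_comp, ← Functor.map_comp] <;> congr 1 <;>
        apply Over.OverMorphism.ext
      · simpa [Category.assoc] using h1
      · simpa [Category.assoc] using h2
    have h4 : m (γ * σ) = m σ := (cancel_mono hW.fromSpec).1 (congrArg CommaMorphism.left hh)
    -- compare on elements of the tensor product
    have h5 : ∀ c : C, γ (σ (ψ₀ c)) = σ (ψ₀ c) := fun c =>
      RingHom.congr_fun (congrArg CommRingCat.Hom.hom (Spec.map_injective h4)) c
    clear hd
    induction d using TensorProduct.induction_on with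
    | zero => simp
    | add z z' hz hz' => simp only [map_add, hz, hz']
    | tmul r c =>
      have : r ⊗ₜ[A₀] c = algebraMap k (TensorProduct A₀ k C) r *
          Algebra.TensorProduct.includeRight c := by simp
      rw [this, map_mul φ, φ.commutes, map_mul, map_mul, AlgEquiv.commutes, AlgEquiv.commutes]
      exact congrArg _ (h5 c)

/-- Points of smooth algebraic spaces over a henselian local ring lift. -/
theorem exists_section_lift {R : Type u} [CommRing R] [HenselianLocalRing R]
    (str : Spec (CommRingCat.of R) ⟶ S) {F : Sp S} (hF : IsAlgSpace F)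
    (p : F ⟶ (yon S).obj (Over.mk str)) (hp : LocP @Smooth p) {I : Ideal R} (hI : I ≠ ⊤)
    (t : Spec (CommRingCat.of (R ⧸ I)) ⟶ S)
    (q : Over.mk t ⟶ Over.mk str)
    (hq : q.left = Spec.map (CommRingCat.ofHom (Ideal.Quotient.mk I)))
    (x : (yon S).obj (Over.mk t) ⟶ F) (hx : x ≫ p = (yon S).map q) :
    ∃ s : (yon S).obj (Over.mk str) ⟶ F, s ≫ p = 𝟙 _ ∧ (yon S).map q ≫ s = x := by
  have : Nontrivial (R ⧸ I) := Ideal.Quotient.nontrivial_iff.2 hI
  have : IsLocalRing (R ⧸ I) :=
    IsLocalRing.of_surjective' (Ideal.Quotient.mk I) Ideal.Quotient.mk_surjective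
  have hIm : I ≤ maximalIdeal R := le_maximalIdeal hI
  let ρ : R ⧸ I →+* ResidueField R :=
    Ideal.Quotient.lift I (residue R) fun r hr => (residue_eq_zero_iff r).2 (hIm hr)
  have hρs : Function.Surjective ρ := fun y => by
    obtain ⟨r, rfl⟩ := residue_surjective y; exact ⟨Ideal.Quotient.mk I r, rfl⟩
  obtain ⟨U, c, C, g, u, K, _, _, ψ, hc, hU, hge, hu, hfin, hgal, hψ, -⟩ :=
    exists_chart_galois_point ρ hρs hF t x
  obtain ⟨D⟩ := exists_galoisLiftData R K
  let R' := D.ring
  let Γ := D.Γ
  let IR : Ideal R' := I.map (algebraMap R R')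
  have hπI : ∀ r ∈ IR, D.toField r = 0 := fun r hr => by
    have : IR ≤ RingHom.ker D.toField := Ideal.map_le_iff_le_comap.2 fun a ha => by
      rw [Ideal.mem_comap, RingHom.mem_ker, D.toField_algebraMap,
        (residue_eq_zero_iff a).2 (hIm ha), map_zero]
    exact this hr
  have hIR : IR ≠ ⊤ := fun h => one_ne_zero (α := K) (by
    rw [← map_one D.toField]; exact hπI 1 (h ▸ Submodule.mem_top))
  let A := R' ⧸ IR
  have : Nontrivial A := Ideal.Quotient.nontrivial_iff.2 hIR
  have : IsLocalRing A := IsLocalRing.of_surjective' (Ideal.Quotient.mk IR) Ideal.Quotient.mk_surjective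
  have : HenselianRing A (maximalIdeal A) := by
    have hs := Ideal.Quotient.mk_surjective (I := IR)
    have hcm := eq_maximalIdeal
      (Ideal.comap_isMaximal_of_surjective _ hs (K := maximalIdeal A))
    rw [← Ideal.map_comap_of_surjective _ hs (maximalIdeal A), hcm]
    exact Groth.Hensel1.henselianRing_quotient IR
  have : HenselianLocalRing A := Groth.Hensel1.henselianLocalRing_of_henselianRing
  let πA : A →+* K := Ideal.Quotient.lift IR D.toField hπI
  have hπA : Function.Surjective πA := fun y => by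
    obtain ⟨r, rfl⟩ := D.surjective y; exact ⟨Ideal.Quotient.mk IR r, rfl⟩
  let ι : R ⧸ I →+* A := Ideal.quotientMap IR (algebraMap R R') Ideal.le_comap_map
  -- lift the point of the étale algebra to `A`
  have hkerA : RingHom.ker πA = maximalIdeal A :=
    eq_maximalIdeal (RingHom.ker_isMaximal_of_surjective πA hπA)
  let θ : ResidueField A ≃+* K := (Ideal.quotEquivOfEq hkerA.symm).trans
    (RingHom.quotientKerEquivOfSurjective hπA)
  have hθ : ∀ a, θ (residue A a) = πA a := fun a => rfl
  let algC : Algebra (R ⧸ I) C := g.hom.toAlgebra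
  let algA : Algebra (R ⧸ I) A := ι.toAlgebra
  have : Algebra.Etale (R ⧸ I) C := RingHom.etale_algebraMap.1 hge
  let σ : C →ₐ[R ⧸ I] ResidueField A :=
    { θ.symm.toRingHom.comp ψ with
      commutes' := fun r => by
        show θ.symm (ψ (g.hom r)) = residue A (ι r)
        rw [θ.symm_apply_eq, hθ, show ψ (g.hom r) = _ from RingHom.congr_fun hψ r]
        obtain ⟨r, rfl⟩ := Ideal.Quotient.mk_surjective r
        exact (D.toField_algebraMap r).symm }
  obtain ⟨f, -, -⟩ := Groth.Hensel1.existsUnique_algHom_lift_residue σ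
  -- the objects over `S`
  let cR : Spec (CommRingCat.of R') ⟶ Spec (CommRingCat.of R) :=
    Spec.map (CommRingCat.ofHom (algebraMap R R'))
  let Y : Over S := Over.mk (cR ≫ str)
  let mkA : Spec (CommRingCat.of A) ⟶ Spec (CommRingCat.of R') :=
    Spec.map (CommRingCat.ofHom (Ideal.Quotient.mk IR))
  let TA : Over S := Over.mk (Spec.map (CommRingCat.ofHom ι) ≫ t)
  have hqt : t = Spec.map (CommRingCat.ofHom (Ideal.Quotient.mk I)) ≫ str := by
    have := Over.w q
    rw [hq] at this
    exact this.symm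
  have hsqA : Spec.map (CommRingCat.ofHom ι) ≫ Spec.map (CommRingCat.ofHom (Ideal.Quotient.mk I)) =
      mkA ≫ cR := by
    rw [← Spec.map_comp, ← Spec.map_comp]; rfl
  let eA (γ : Γ) : TA ⟶ TA := Over.homMk (Spec.map (CommRingCat.ofHom (qAct R' I γ))) (by
    show Spec.map _ ≫ Spec.map _ ≫ t = Spec.map _ ≫ t
    rw [← Spec.map_comp_assoc]
    congr 2
    ext r
    show Ideal.Quotient.mk IR (γ • algebraMap R R' r) = Ideal.Quotient.mk IR (algebraMap R R' r)
    rw [smul_algebraMap])
  let qA : TA ⟶ Over.mk t := Over.homMk (Spec.map (CommRingCat.ofHom ι)) rfl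
  have heA : ∀ γ, eA γ ≫ qA = qA := fun γ => by
    apply Over.OverMorphism.ext
    show Spec.map _ ≫ Spec.map _ = Spec.map _
    rw [← Spec.map_comp]
    congr 1
    ext r
    show Ideal.Quotient.mk IR (γ • algebraMap R R' r) = Ideal.Quotient.mk IR (algebraMap R R' r)
    rw [smul_algebraMap]
  have hfg : Spec.map (CommRingCat.ofHom f.toRingHom) ≫ Spec.map g =
      Spec.map (CommRingCat.ofHom ι) := by
    rw [← Spec.map_comp]
    congr 1
    ext r
    exact f.commutes r
  let uA : TA ⟶ U := (Over.homMk (Spec.map (CommRingCat.ofHom f.toRingHom)) (by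
    show Spec.map _ ≫ Spec.map g ≫ t = Spec.map _ ≫ t
    rw [reassoc_of% hfg]) : TA ⟶ Over.mk (Spec.map g ≫ t)) ≫ u
  have huA : (yon S).map uA ≫ c = (yon S).map qA ≫ x := by
    rw [Functor.map_comp, Category.assoc, hu, ← Category.assoc, ← Functor.map_comp]
    congr 2
    apply Over.OverMorphism.ext
    exact hfg
  -- the fibre power
  have : U.left.IsSeparated := inferInstance
  obtain ⟨W, π₀, hW₀, hπ₀, hWs⟩ := exists_isPow_fin c hc (Fintype.card Γ - 1)
  have hcard : Fintype.card Γ - 1 + 1 = Fintype.card Γ := Nat.succ_pred_eq_of_pos Fintype.card_pos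
  let e₀ : Γ ≃ ULift.{u} (Fin (Fintype.card Γ - 1 + 1)) :=
    ((Fintype.equivFin Γ).trans (finCongr hcard.symm)).trans Equiv.ulift.symm
  let π : Γ → (W ⟶ U) := fun γ => π₀ (e₀ γ)
  have hW : IsPow c W π := hW₀.reindex e₀
  have : Nonempty Γ := ⟨1⟩
  obtain ⟨h₀, hh₀⟩ := (yon S).map_surjective (c ≫ p)
  have hsm : Smooth h₀.left := hp c (𝟙 _) h₀ hc (repWith_id _ _) (by simp [hh₀])
  have hh : ∀ γ, π γ ≫ h₀ = π₀ ⟨0⟩ ≫ h₀ := fun γ => (yon S).map_injective (by
    simp only [Functor.map_comp, hh₀, ← Category.assoc, π, hW₀.compat _ ⟨0⟩])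
  let r : W.left ⟶ Spec (CommRingCat.of R) := (π₀ ⟨0⟩ ≫ h₀).left
  have : Smooth r := inferInstanceAs (Smooth ((π₀ ⟨0⟩).left ≫ h₀.left))
  let W' := pullback r cR
  let pr : W' ⟶ Spec (CommRingCat.of R') := pullback.snd r cR
  have : W'.IsSeparated := ⟨by
    rw [← terminal.comp_from (pullback.fst r cR)]
    infer_instance⟩
  -- the action
  choose perm hperm using fun γ : Γ => hW.lift (fun σ => π (γ * σ)) fun i j => hW.compat _ _
  have hpr : ∀ γ, perm γ ≫ π₀ ⟨0⟩ ≫ h₀ = π₀ ⟨0⟩ ≫ h₀ := fun γ => by
    rw [← hh 1, ← Category.assoc, hperm, hh, hh]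
  let sγ (γ : Γ) : Spec (CommRingCat.of R') ⟶ Spec (CommRingCat.of R') :=
    Spec.map (CommRingCat.ofHom (MulSemiringAction.toRingHom Γ R' γ))
  have hsγ : ∀ γ, sγ γ ≫ cR = cR := fun γ => by
    rw [← Spec.map_comp]
    congr 1
    ext a
    exact smul_algebraMap γ a
  let act (γ : Γ) : W' ⟶ W' := pullback.lift (pullback.fst r cR ≫ (perm γ).left) (pr ≫ sγ γ) (by
    rw [Category.assoc, Category.assoc, hsγ]
    show pullback.fst r cR ≫ (perm γ).left ≫ (π₀ ⟨0⟩ ≫ h₀).left = _
    rw [← Over.comp_left, hpr]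
    exact pullback.condition)
  have hperm1 : perm 1 = 𝟙 W := hW.hom_ext _ _ fun σ => by rw [hperm, one_mul, Category.id_comp]
  have hpermm : ∀ γ δ, perm δ ≫ perm γ = perm (δ * γ) := fun γ δ => hW.hom_ext _ _ fun σ => by
    rw [Category.assoc, hperm, hperm, hperm, mul_assoc]
  have hs1 : sγ 1 = 𝟙 _ := by
    show Spec.map _ = _
    refine Eq.trans ?_ (Spec.map_id _)
    congr 1; ext a; exact one_smul Γ a
  have hsm' : ∀ γ δ, sγ δ ≫ sγ γ = sγ (δ * γ) := fun γ δ => by
    rw [← Spec.map_comp]; congr 1; ext a; exact (mul_smul δ γ a).symm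
  have hact1 : act 1 = 𝟙 W' := by
    refine pullback.hom_ext ?_ ?_
    · refine (pullback.lift_fst _ _ _).trans ?_
      rw [hperm1]
      exact (Category.comp_id _).trans (Category.id_comp _).symm
    · refine (pullback.lift_snd _ _ _).trans ?_
      rw [hs1]
      exact (Category.comp_id _).trans (Category.id_comp _).symm
  have hactm : ∀ γ δ, act δ ≫ act γ = act (δ * γ) := fun γ δ => by
    refine pullback.hom_ext ?_ ?_
    · simp only [act, Category.assoc, pullback.lift_fst, pullback.lift_fst_assoc]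
      rw [← Over.comp_left, hpermm]
    · simp only [act, pr, Category.assoc, pullback.lift_snd, pullback.lift_snd_assoc, hsm']
  -- the point
  obtain ⟨xW, hxW⟩ := hW.lift (fun σ => eA σ ≫ uA) fun i j => by
    simp only [Functor.map_comp, Category.assoc, huA, ← Functor.map_comp_assoc, heA]
  have hxWr : xW ≫ π₀ ⟨0⟩ ≫ h₀ = qA ≫ q := by
    rw [← hh 1, ← Category.assoc, hxW]
    refine (yon S).map_injective ?_
    rw [Functor.map_comp, Functor.map_comp, hh₀, Category.assoc, ← Category.assoc ((yon S).map uA),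
      huA, Category.assoc, hx, ← Category.assoc, ← Functor.map_comp, heA, ← Functor.map_comp]
  let x' : Spec (CommRingCat.of A) ⟶ W' := pullback.lift xW.left mkA (by
    show xW.left ≫ (π₀ ⟨0⟩ ≫ h₀).left = _
    rw [← Over.comp_left, hxWr, Over.comp_left, hq]
    exact hsqA)
  have hxe : ∀ γ, Spec.map (CommRingCat.ofHom (qAct R' I γ)) ≫ x' = x' ≫ act γ := fun γ => by
    refine pullback.hom_ext ?_ ?_
    · simp only [x', act, Category.assoc, pullback.lift_fst, pullback.lift_fst_assoc]
      have key : eA γ ≫ xW = xW ≫ perm γ := hW.hom_ext _ _ fun σ => by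
        rw [Category.assoc, Category.assoc, hperm, hxW, hxW, ← Category.assoc]
        congr 1
        apply Over.OverMorphism.ext
        show Spec.map _ ≫ Spec.map _ = Spec.map _
        rw [← Spec.map_comp]
        congr 1
        ext a
        show Ideal.Quotient.mk IR (γ • σ • a) = Ideal.Quotient.mk IR ((γ * σ) • a)
        rw [mul_smul]
      exact congrArg CommaMorphism.left key
    · simp only [x', act, pr, Category.assoc, pullback.lift_snd, pullback.lift_snd_assoc, mkA, sγ,
        ← Spec.map_comp]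
      rfl
  obtain ⟨s', hs'q, hs'x, hs'e⟩ := exists_equivariant_lift_scheme D.isGalois
    (Groth.Hensel1.gabber_of_henselianRing (h := Groth.Hensel1.henselianRing_le (J := maximalIdeal R)
      hIm)) hIR pr act hact1 hactm (fun γ => pullback.lift_snd _ _ _) x' (pullback.lift_snd _ _ _) hxe
  -- descend
  let w : Y ⟶ W := Over.homMk (s' ≫ pullback.fst r cR) (by
    show (s' ≫ pullback.fst r cR) ≫ W.hom = cR ≫ str
    rw [← Over.w (π₀ ⟨0⟩ ≫ h₀)]
    show (s' ≫ pullback.fst r cR) ≫ r ≫ str = cR ≫ str
    rw [Category.assoc, pullback.condition_assoc, reassoc_of% hs'q])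
  let cS : Y ⟶ Over.mk str := Over.homMk cR rfl
  have hyinv : ∀ (γ : Γ) (e : Y ⟶ Y), e.left = sγ γ →
      (yon S).map e ≫ (yon S).map (w ≫ π 1) ≫ c = (yon S).map (w ≫ π 1) ≫ c := fun γ e he => by
    have : e ≫ w ≫ π 1 = w ≫ π γ := by
      rw [← mul_one γ, ← hperm γ 1, ← Category.assoc, ← Category.assoc]
      congr 1
      apply Over.OverMorphism.ext
      show e.left ≫ s' ≫ pullback.fst r cR = (s' ≫ pullback.fst r cR) ≫ (perm γ).left
      rw [he, reassoc_of% (hs'e γ), Category.assoc]
      congr 1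
      exact pullback.lift_fst _ _ _
    rw [← Category.assoc, ← Functor.map_comp, this, Functor.map_comp, Functor.map_comp,
      Category.assoc, Category.assoc, hW.compat γ 1]
  have : Module.FinitePresentation R R' := Module.finitePresentation_of_projective R R'
  obtain ⟨s, hs⟩ := exists_desc_of_invariant D.isGalois str cS rfl
    ((yon S).map (w ≫ π 1) ≫ c) hyinv
  refine ⟨s, ?_, ?_⟩
  · -- `cS` is an epimorphism for maps into sheaves
    obtain ⟨d, hd⟩ := (yon S).map_surjective (s ≫ p)
    have hd' : cS ≫ d = cS := (yon S).map_injective (by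
      rw [Functor.map_comp, hd, ← Category.assoc, hs, Category.assoc, ← hh₀, ← Functor.map_comp]
      congr 1
      rw [Category.assoc, hh]
      apply Over.OverMorphism.ext
      show (s' ≫ pullback.fst r cR) ≫ r = cR
      rw [Category.assoc, pullback.condition, reassoc_of% hs'q])
    have : Flat cR := Flat.SpecMap_iff.2 (RingHom.flat_algebraMap_iff.2 inferInstance)
    have : Surjective cR := ⟨PrimeSpectrum.comap_surjective_of_faithfullyFlat⟩
    have hd'' : d.left = 𝟙 _ := by
      rw [← cancel_epi cR]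
      exact (congrArg CommaMorphism.left hd').trans (Category.comp_id _).symm
    have : d = 𝟙 _ := Over.OverMorphism.ext hd''
    rw [← hd, this]
    exact (yon S).map_id _
  · -- compare after the cover `TA`
    let qY : TA ⟶ Y := Over.homMk mkA (by
      show mkA ≫ cR ≫ str = Spec.map _ ≫ t
      rw [hqt, reassoc_of% hsqA])
    have h1 : qA ≫ q = qY ≫ cS := by
      apply Over.OverMorphism.ext; show _ ≫ q.left = _; rw [hq]; exact hsqA
    have h2 : qY ≫ w ≫ π 1 = uA := by
      rw [← Category.assoc]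
      have : qY ≫ w = xW := by
        apply Over.OverMorphism.ext
        show mkA ≫ s' ≫ pullback.fst r cR = xW.left
        rw [reassoc_of% hs'x]
        exact pullback.lift_fst _ _ _
      rw [this, hxW]
      have : eA 1 = 𝟙 TA := by
        apply Over.OverMorphism.ext
        show Spec.map _ = 𝟙 _
        rw [← Spec.map_id]
        congr 1
        ext a
        show Ideal.Quotient.mk IR ((1 : Γ) • a) = _
        rw [one_smul]; rfl
      rw [this, Category.id_comp]
    have h3 : (yon S).map qA ≫ (yon S).map q ≫ s = (yon S).map qA ≫ x := by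
      rw [← Category.assoc, ← Functor.map_comp, h1, Functor.map_comp, Category.assoc, hs,
        ← Category.assoc, ← Functor.map_comp, h2, huA]
    -- a cover of `Spec (R ⧸ I)` factoring through `TA`
    let mkI : Spec (CommRingCat.of (R ⧸ I)) ⟶ Spec (CommRingCat.of R) :=
      Spec.map (CommRingCat.ofHom (Ideal.Quotient.mk I))
    let i := pullbackSpecIso R (R ⧸ I) R'
    let incl : R' →+* TensorProduct R (R ⧸ I) R' :=
      (Algebra.TensorProduct.includeRight (R := R) (A := R ⧸ I) (B := R')).toRingHom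
    let b : A →+* TensorProduct R (R ⧸ I) R' := Ideal.Quotient.lift IR incl fun a ha => by
      have : IR ≤ RingHom.ker incl := Ideal.map_le_iff_le_comap.2 fun r hr => by
        rw [Ideal.mem_comap, RingHom.mem_ker]
        show (1 : R ⧸ I) ⊗ₜ[R] algebraMap R R' r = 0
        rw [← mul_one (algebraMap R R' r), ← Algebra.smul_def, TensorProduct.tmul_smul,
          TensorProduct.smul_tmul', Algebra.smul_def, mul_one,
          show algebraMap R (R ⧸ I) r = 0 from Ideal.Quotient.eq_zero_iff_mem.2 hr,
          TensorProduct.zero_tmul]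
      exact this ha
    let P : Over S := Over.mk (pullback.fst mkI cR ≫ t)
    let cP : P ⟶ Over.mk t := Over.homMk (pullback.fst mkI cR) rfl
    let l : pullback mkI cR ⟶ Spec (CommRingCat.of A) := i.hom ≫ Spec.map (CommRingCat.ofHom b)
    have hl : l ≫ Spec.map (CommRingCat.ofHom ι) = pullback.fst mkI cR := by
      rw [← pullbackSpecIso_hom_fst R (R ⧸ I) R', Category.assoc, ← Spec.map_comp]
      congr 2
      ext r
      show (1 : R ⧸ I) ⊗ₜ[R] algebraMap R R' r = Ideal.Quotient.mk I r ⊗ₜ[R] (1 : R')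
      rw [← mul_one (algebraMap R R' r), ← Algebra.smul_def, TensorProduct.tmul_smul,
        TensorProduct.smul_tmul', Algebra.smul_def, mul_one]
      rfl
    let lP : P ⟶ TA := Over.homMk l (by
      show l ≫ Spec.map _ ≫ t = pullback.fst mkI cR ≫ t
      rw [reassoc_of% hl])
    have hlP : lP ≫ qA = cP := by apply Over.OverMorphism.ext; exact hl
    have : Flat cR := Flat.SpecMap_iff.2 (RingHom.flat_algebraMap_iff.2 inferInstance)
    have : Surjective cR := ⟨PrimeSpectrum.comap_surjective_of_faithfullyFlat⟩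
    have : Module.FinitePresentation R R' := Module.finitePresentation_of_projective R R'
    have : LocallyOfFinitePresentation cR :=
      (HasRingHomProperty.Spec_iff (P := @LocallyOfFinitePresentation)).2
        (RingHom.finitePresentation_algebraMap.2 (inferInstance : Algebra.FinitePresentation R R'))
    have : Flat cP.left := inferInstanceAs (Flat (pullback.fst mkI cR))
    have : Surjective cP.left := inferInstanceAs (Surjective (pullback.fst mkI cR))
    have : LocallyOfFinitePresentation cP.left :=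
      inferInstanceAs (LocallyOfFinitePresentation (pullback.fst mkI cR))
    refine eq_of_map_eq cP ?_
    rw [← hlP, Functor.map_comp, Category.assoc, Category.assoc, h3]

end Groth.HenselPoint
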