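import Groth.Agent.HenselPoint.ResBase
import Groth.Agent.HenselPoint.GaloisQuotient
import Groth.Agent.HenselPoint.FreeNbhd
import Groth.Agent.HenselPoint.GaloisLift
import Mathlib.AlgebraicGeometry.Morphisms.Affine
import Mathlib.RingTheory.Smooth.StandardSmoothCotangent

/-!
# Torsors through a Galois residue extension

For a henselian local ring `R` and a finite Galois extension of its residue field, a torsor under
the Galois group over the base, smooth over the base, with an equivariant point over the lift.
-/

set_option autoImplicit false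

universe u

open CategoryTheory CategoryTheory.Limits AlgebraicGeometry TensorProduct IsLocalRing

noncomputable section

namespace Groth.HenselPoint

/-- Ring maps to a field agreeing on the base differ by a unique element of the Galois group. -/
theorem exists_unique_smul_of_comp_eq {R R' Γ : Type u} [CommRing R] [CommRing R'] [Algebra R R']
    [Group Γ] [Fintype Γ] [DecidableEq Γ] [MulSemiringAction Γ R'] [SMulCommClass Γ R R']
    (h : IsGaloisExt R R' Γ) {L : Type u} [Field L] (f g : R' →+* L)
    (hfg : f.comp (algebraMap R R') = g.comp (algebraMap R R')) :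
    ∃! γ : Γ, ∀ r, f (γ • r) = g r := by
  letI : Algebra R L := (f.comp (algebraMap R R')).toAlgebra
  let fA : R' →ₐ[R] L := { f with commutes' := fun r => rfl }
  let gA : R' →ₐ[R] L := { g with commutes' := fun r => (RingHom.congr_fun hfg r).symm }
  let F : R' ⊗[R] R' →ₐ[R] L := Algebra.TensorProduct.lift fA gA fun _ _ => Commute.all _ _
  have hF : ∀ x y, F (x ⊗ₜ y) = f x * g y := fun x y => Algebra.TensorProduct.lift_tmul _ _ _ _ _
  let Φ : R' ⊗[R] R' ≃+* (Γ → R') := RingEquiv.ofBijective _ (graph_bijective h)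
  have hΦ : ∀ x y γ, Φ (x ⊗ₜ y) γ = x * γ • y := fun x y γ => graphHom_tmul γ x y
  let H : (Γ → R') →+* L := F.toRingHom.comp Φ.symm.toRingHom
  have hH : ∀ z, H (Φ z) = F z := fun z => by simp [H]
  have hsum : ∑ γ : Γ, H (Pi.single γ (1 : R')) = 1 := by
    rw [← map_sum, Finset.univ_sum_single (fun _ : Γ => (1 : R'))]
    exact map_one H
  obtain ⟨γ, hγ⟩ : ∃ γ : Γ, H (Pi.single γ (1 : R')) = 1 := by
    by_contra hne
    have h0 : ∀ γ : Γ, H (Pi.single γ (1 : R')) = 0 := fun γ => by
      have e : H (Pi.single γ (1 : R')) * H (Pi.single γ (1 : R')) = H (Pi.single γ (1 : R')) := by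
        rw [← map_mul, ← Pi.single_mul, one_mul]
      by_contra hz
      exact hne ⟨γ, mul_right_cancel₀ hz (e.trans (one_mul _).symm)⟩
    rw [Finset.sum_eq_zero fun γ _ => h0 γ] at hsum
    exact zero_ne_one hsum
  refine ⟨γ, fun r => ?_, fun δ hδ => ?_⟩
  · have e₁ : H (Pi.single γ (1 : R') * Φ ((γ • r) ⊗ₜ 1)) = f (γ • r) := by
      rw [map_mul, hγ, one_mul, hH, hF, map_one, mul_one]
    have e₂ : H (Pi.single γ (1 : R') * Φ (1 ⊗ₜ r)) = g r := by
      rw [map_mul, hγ, one_mul, hH, hF, map_one, one_mul]
    rw [← e₁, ← e₂]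
    congr 1
    funext ε
    by_cases hε : ε = γ
    · subst hε; simp [hΦ]
    · simp [Pi.single_eq_of_ne hε]
  · have key : ∀ z, F z = f (Φ z δ) := fun z => by
      induction z using TensorProduct.induction_on with
      | zero => simp
      | tmul x y => rw [hF, hΦ, map_mul, hδ]
      | add z z' hz hz' => simp [hz, hz']
    have e := key (Φ.symm (Pi.single γ (1 : R')))
    rw [← hH, Φ.apply_symm_apply, hγ] at e
    by_contra hne
    rw [Pi.single_eq_of_ne hne, map_zero] at e
    exact one_ne_zero e

variable {S : Scheme.{u}}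

/-- A torsor under `Γ` between schemes over `S`, smooth over `S`. -/
structure GaloisTorsor (S : Scheme.{u}) (Γ : Type u) [Group Γ] where
  Q : Over S
  E : Over S
  e : E ⟶ Q
  etale : Etale e.left
  surjective : Surjective e.left
  separated : IsSeparated e.left
  a : Γ → (E ⟶ E)
  comp : ∀ γ, a γ ≫ e = e
  one : a 1 = 𝟙 E
  mul : ∀ γ δ, a δ ≫ a γ = a (δ * γ)
  smooth : Smooth E.hom
  points : ∀ (L : Type u) [Field L] (f g : Spec (CommRingCat.of L) ⟶ E.left),
    f ≫ e.left = g ≫ e.left → ∃! γ, f ≫ (a γ).left = g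

/-- The base of a torsor. -/
def GaloisTorsor.base {Γ : Type u} [Group Γ] (G : GaloisTorsor S Γ) : EtBase S :=
  ⟨G.Q, G.E, G.e, G.etale, G.surjective⟩

/-- A torsor is a chart of its base. -/
def GaloisTorsor.chart {Γ : Type u} [Group Γ] (G : GaloisTorsor S Γ) : GaloisChart G.base Γ where
  Q := G.Q
  E := G.E
  e := G.e
  j := 𝟙 G.Q
  k := 𝟙 G.E
  isPullback := by
    show IsPullback (𝟙 G.E) G.e G.e (𝟙 G.Q)
    exact IsPullback.of_horiz_isIso ⟨(Category.id_comp _).trans (Category.comp_id _).symm⟩
  openImm := inferInstanceAs (IsOpenImmersion (𝟙 G.Q.left))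
  separated := G.separated
  a := G.a
  comp := G.comp
  one := G.one
  mul := G.mul
  smooth := G.smooth
  points := G.points

theorem exists_galoisTorsor {R : Type u} [CommRing R] [HenselianLocalRing R]
    (str : Spec (CommRingCat.of R) ⟶ S) {K : Type u} [Field K] [Algebra (ResidueField R) K]
    [FiniteDimensional (ResidueField R) K] [IsGalois (ResidueField R) K] (D : GaloisLiftData R K) :
    ∃ (G : GaloisTorsor S D.Γ)
      (b : (Over.mk (Spec.map (CommRingCat.ofHom (algebraMap R D.ring)) ≫ str) : Over S) ⟶ G.E),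
      ∀ (γ : D.Γ) (α : (Over.mk (Spec.map (CommRingCat.ofHom (algebraMap R D.ring)) ≫ str) : Over S) ⟶
          Over.mk (Spec.map (CommRingCat.ofHom (algebraMap R D.ring)) ≫ str)),
        α.left = Spec.map (CommRingCat.ofHom (MulSemiringAction.toRingHom D.Γ D.ring γ)) →
          α ≫ b = b ≫ G.a γ := by
  classical
  let R' := D.ring
  let Γ := D.Γ
  -- the permutation representation
  let W : Scheme.{u} := Spec (CommRingCat.of (MvPolynomial Γ (ULift.{u} ℤ)))
  let fw : Γ → ((MvPolynomial Γ (ULift.{u} ℤ)) →+* (MvPolynomial Γ (ULift.{u} ℤ))) := fun γ => (MvPolynomial.rename (fun σ => γ * σ)).toRingHom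
  let aW : Γ → (W ⟶ W) := fun γ => Spec.map (CommRingCat.ofHom (fw γ))
  have ha1 : aW 1 = 𝟙 W := by
    have : fw 1 = RingHom.id (MvPolynomial Γ (ULift.{u} ℤ)) := MvPolynomial.ringHom_ext (fun r => by simp [fw])
      (fun σ => by simp [fw])
    simp only [aW, this]
    exact Spec.map_id _
  have ham : ∀ γ δ, aW δ ≫ aW γ = aW (δ * γ) := fun γ δ => by
    have : (fw δ).comp (fw γ) = fw (δ * γ) := MvPolynomial.ringHom_ext (fun r => by simp [fw])
      (fun σ => by simp [fw, mul_assoc])
    simp only [aW, ← this]
    rw [← Spec.map_comp]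
    rfl
  obtain ⟨θ, hθ⟩ := Field.exists_primitive_element (ResidueField R) K
  obtain ⟨θ', hθ'⟩ := D.surjective θ
  let ev : (MvPolynomial Γ (ULift.{u} ℤ)) →+* R' := MvPolynomial.eval₂Hom
    ((Int.castRingHom R').comp (ULift.ringEquiv : ULift.{u} ℤ ≃+* ℤ).toRingHom) fun σ => σ • θ'
  have hevX : ∀ σ, ev (MvPolynomial.X σ) = σ • θ' := fun σ => MvPolynomial.eval₂Hom_X' _ _ σ
  have hev : ∀ γ, (MulSemiringAction.toRingHom Γ R' γ).comp ev = ev.comp (fw γ) := fun γ =>
    MvPolynomial.ringHom_ext (fun r => by simp [ev, fw])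
      (fun σ => by
        show γ • ev (MvPolynomial.X σ) = ev (MvPolynomial.rename _ (MvPolynomial.X σ))
        rw [MvPolynomial.rename_X, hevX, hevX, mul_smul])
  let y : Spec (CommRingCat.of R') ⟶ W := Spec.map (CommRingCat.ofHom ev)
  let sK : Spec (CommRingCat.of K) ⟶ Spec (CommRingCat.of R') :=
    Spec.map (CommRingCat.ofHom D.toField)
  let τ : Γ → (K →+* K) := fun γ => (D.toAut γ).toRingEquiv.toRingHom
  have hy : ∀ γ, Spec.map (CommRingCat.ofHom (MulSemiringAction.toRingHom Γ R' γ)) ≫ y =
      y ≫ aW γ := fun γ => by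
    simp only [y, aW, ← Spec.map_comp, ← CommRingCat.ofHom_comp, hev]
  have hτ : ∀ γ, Spec.map (CommRingCat.ofHom (τ γ)) ≫ sK =
      sK ≫ Spec.map (CommRingCat.ofHom (MulSemiringAction.toRingHom Γ R' γ)) := fun γ => by
    simp only [sK, ← Spec.map_comp, ← CommRingCat.ofHom_comp]
    congr 2
    ext r
    exact (D.toField_smul γ r).symm
  have hfaith : ∀ γ, γ ≠ 1 → (sK ≫ y) ≫ aW γ ≠ sK ≫ y := by
    intro γ hγ heq
    simp only [sK, y, aW, ← Spec.map_comp, ← CommRingCat.ofHom_comp] at heq
    have e := congrArg (fun m => m.hom (MvPolynomial.X (1 : Γ))) (Spec.map_injective heq)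
    simp only [CommRingCat.hom_ofHom, RingHom.comp_apply] at e
    change D.toField (ev (MvPolynomial.rename _ (MvPolynomial.X (1 : Γ)))) =
      D.toField (ev (MvPolynomial.X 1)) at e
    rw [MvPolynomial.rename_X, hevX, hevX, mul_one, one_smul, D.toField_smul, hθ'] at e
    refine hγ (D.toAut.injective ?_)
    have h1 : D.toAut 1 = 1 := by
      have := D.toAut_mul 1 1
      rw [mul_one] at this
      exact (mul_eq_left.1 this.symm)
    rw [h1]
    refine AlgEquiv.ext fun z => ?_
    have hadj : Algebra.adjoin (ResidueField R) {θ} = ⊤ := by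
      rw [← IntermediateField.adjoin_simple_toSubalgebra_of_isAlgebraic
        (IsIntegral.of_finite (ResidueField R) θ).isAlgebraic, hθ,
        IntermediateField.top_toSubalgebra]
    have : (D.toAut γ).toAlgHom = AlgHom.id (ResidueField R) K :=
      AlgHom.ext_of_adjoin_eq_top hadj fun x hx => by
        rw [Set.mem_singleton_iff.1 hx]
        exact e
    exact AlgHom.congr_fun this z
  obtain ⟨B, instB, j, φ, hj, hfree, hequ, hφ⟩ := exists_free_affine_nbhd aW ha1 ham τ (sK ≫ y)
    (fun γ => by rw [reassoc_of% (hτ γ), hy, Category.assoc]) hfaith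
  -- the equivariant point
  have hr : Set.range y.base ⊆ Set.range j.base := by
    refine range_subset_of_closedPoint_mem y j.opensRange ?_
    have hc : sK.base (closedPoint K) = closedPoint R' :=
      haveI : IsLocalHom D.toField := IsLocalHom.of_surjective _ D.surjective
      comap_closedPoint D.toField
    rw [← hc]
    exact ⟨(Spec.map (CommRingCat.ofHom φ)).base (closedPoint K),
      congrArg (fun m : Spec (CommRingCat.of K) ⟶ W => m.base (closedPoint K)) hφ⟩
  let b₀ : Spec (CommRingCat.of R') ⟶ Spec B := IsOpenImmersion.lift j y hr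
  have hb₀ : b₀ ≫ j = y := IsOpenImmersion.lift_fac _ _ _
  -- the quotient
  let B₀ : Subring B :=
    { carrier := {b | ∀ γ : Γ, γ • b = b}
      mul_mem' := fun {x y} hx hy γ => by rw [smul_mul', hx, hy]
      one_mem' := fun γ => smul_one γ
      add_mem' := fun {x y} hx hy γ => by rw [smul_add, hx, hy]
      zero_mem' := fun γ => smul_zero γ
      neg_mem' := fun {x} hx γ => by rw [smul_neg, hx] }
  have : SMulCommClass Γ B₀ B := ⟨fun γ r b => by
    show γ • ((r : B) * b) = (r : B) * γ • b
    rw [smul_mul', r.2 γ]⟩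
  have : Algebra.IsInvariant B₀ B Γ := ⟨fun b hb => ⟨⟨b, hb⟩, rfl⟩⟩
  have : FaithfulSMul B₀ B := (faithfulSMul_iff_algebraMap_injective B₀ B).2 Subtype.val_injective
  have := Groth.Pi1Quot.faithfullyFlat_of_free B₀ hfree
  have := Groth.Pi1Quot.etale_of_free B₀ hfree
  have hgal : IsGaloisExt B₀ B Γ := by
    refine ⟨?_, fun x hx => ⟨⟨x, hx⟩, rfl⟩⟩
    obtain ⟨ι, _, x, y, hxy⟩ := Groth.Pi1Quot.exists_galois_coords hfree
    refine ⟨Fintype.card ι, x ∘ (Fintype.equivFin ι).symm, y ∘ (Fintype.equivFin ι).symm,
      fun γ => ?_⟩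
    rw [← hxy γ, ← (Fintype.equivFin ι).symm.sum_comp (fun i => x i * γ • y i)]
    rfl
  let i : Spec B ⟶ Spec (CommRingCat.of B₀) := Spec.map (CommRingCat.ofHom (algebraMap B₀ B))
  have : Etale i := (HasRingHomProperty.Spec_iff (P := @Etale)).2
    (RingHom.etale_algebraMap.2 inferInstance)
  have : Surjective i := ⟨PrimeSpectrum.comap_surjective_of_faithfullyFlat⟩
  let α₀ : Γ → (Spec B ⟶ Spec B) := fun γ =>
    Spec.map (CommRingCat.ofHom (MulSemiringAction.toRingHom Γ B γ))
  have hα : ∀ γ, α₀ γ ≫ i = i := fun γ => by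
    simp only [α₀, i, ← Spec.map_comp]
    congr 1
    ext r
    exact r.2 γ
  -- smoothness over the integers
  haveI hsmW : Smooth (terminal.from W) := by
    let g : Spec (CommRingCat.of (MvPolynomial Γ (ULift.{u} ℤ))) ⟶ Spec (CommRingCat.of (ULift.{u} ℤ)) :=
      Spec.map (CommRingCat.ofHom MvPolynomial.C)
    haveI : Smooth g := (HasRingHomProperty.Spec_iff (P := @Smooth)).2
      (RingHom.smooth_algebraMap.2 (by haveI : Finite Γ := inferInstanceAs (Finite D.Γ); exact ⟨inferInstance, inferInstance⟩ :
        Algebra.Smooth (ULift.{u} ℤ) (MvPolynomial Γ (ULift.{u} ℤ))))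
    haveI : IsIso (terminal.from (Spec (CommRingCat.of (ULift.{u} ℤ)))) :=
      isIso_of_isTerminal specULiftZIsTerminal.{u} terminalIsTerminal _
    rw [show terminal.from W = g ≫ terminal.from _ from terminal.hom_ext _ _]
    infer_instance
  haveI : Smooth (terminal.from (Spec B)) := by
    rw [show terminal.from (Spec B) = j ≫ terminal.from W from terminal.hom_ext _ _]
    infer_instance
  -- the base change to `S`
  let tS := terminal.from S
  let tQ := terminal.from (Spec (CommRingCat.of B₀))
  let tE := terminal.from (Spec B)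
  let Q : Over S := Over.mk (pullback.snd tQ tS)
  let E : Over S := Over.mk (pullback.snd tE tS)
  let eL : pullback tE tS ⟶ pullback tQ tS :=
    pullback.lift (pullback.fst _ _ ≫ i) (pullback.snd _ _) (terminal.hom_ext _ _)
  let e : E ⟶ Q := Over.homMk eL (pullback.lift_snd _ _ _)
  let aL : Γ → (pullback tE tS ⟶ pullback tE tS) := fun γ =>
    pullback.lift (pullback.fst _ _ ≫ α₀ γ) (pullback.snd _ _) (terminal.hom_ext _ _)
  let a : Γ → (E ⟶ E) := fun γ => Over.homMk (aL γ) (pullback.lift_snd _ _ _)
  have sqE : IsPullback (pullback.fst tE tS) eL i (pullback.fst tQ tS) := by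
    refine (IsPullback.of_bot (v₂₁ := pullback.snd tQ tS) (v₂₂ := tQ) ?_ ?_
      (IsPullback.of_hasPullback tQ tS).flip.flip).flip.flip
    · rw [show i ≫ tQ = tE from terminal.hom_ext _ _, show eL ≫ pullback.snd tQ tS = pullback.snd tE tS
        from pullback.lift_snd _ _ _]
      exact IsPullback.of_hasPullback tE tS
    · exact (pullback.lift_fst _ _ _).symm
  have hequ' : ∀ γ, α₀ γ ≫ j = j ≫ aW γ := hequ
  let G : GaloisTorsor S Γ :=
    { Q := Q
      E := E
      e := e
      etale := MorphismProperty.of_isPullback (P := @Etale) sqE inferInstance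
      surjective := MorphismProperty.of_isPullback (P := @Surjective) sqE inferInstance
      separated := MorphismProperty.of_isPullback (P := @IsSeparated) sqE inferInstance
      a := a
      comp := fun γ => by
        apply Over.OverMorphism.ext
        show aL γ ≫ eL = eL
        apply pullback.hom_ext
        · simp only [aL, eL, Category.assoc, pullback.lift_fst, pullback.lift_fst_assoc, hα]
        · simp only [aL, eL, Category.assoc, pullback.lift_snd]
      one := by
        apply Over.OverMorphism.ext
        have : α₀ 1 = 𝟙 _ := by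
          rw [← cancel_mono j, hequ', ha1, Category.comp_id, Category.id_comp]
        show aL 1 = 𝟙 (pullback tE tS)
        apply pullback.hom_ext
        · simp only [aL, pullback.lift_fst, this, Category.comp_id, Category.id_comp]
        · simp only [aL, pullback.lift_snd, Category.id_comp]
      mul := fun γ δ => by
        apply Over.OverMorphism.ext
        have : α₀ δ ≫ α₀ γ = α₀ (δ * γ) := by
          rw [← cancel_mono j, Category.assoc, hequ', reassoc_of% (hequ' δ), ham, hequ']
        show aL δ ≫ aL γ = aL (δ * γ)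
        apply pullback.hom_ext
        · simp only [aL, Category.assoc, pullback.lift_fst, pullback.lift_fst_assoc, this]
        · simp only [aL, Category.assoc, pullback.lift_snd]
      smooth := inferInstanceAs (Smooth (pullback.snd tE tS))
      points := fun L _ f g hfg => by
        obtain ⟨φf, hφf⟩ := Spec.map_surjective (f ≫ pullback.fst tE tS)
        obtain ⟨φg, hφg⟩ := Spec.map_surjective (g ≫ pullback.fst tE tS)
        have h₁ := congrArg (fun m => m ≫ pullback.fst tQ tS) hfg
        have h₂ := congrArg (fun m => m ≫ pullback.snd tQ tS) hfg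
        simp only [e, eL, Over.homMk_left, Category.assoc, pullback.lift_fst, pullback.lift_snd] at h₁ h₂
        rw [← reassoc_of% hφf, ← reassoc_of% hφg, ← Spec.map_comp, ← Spec.map_comp] at h₁
        have hres := exists_unique_smul_of_comp_eq hgal φf.hom φg.hom
          (congrArg (fun m => m.hom) (Spec.map_injective h₁))
        have hiff : ∀ γ, f ≫ (a γ).left = g ↔ ∀ r, φf.hom (γ • r) = φg.hom r := fun γ => by
          have e₁ : (f ≫ aL γ) ≫ pullback.fst tE tS = Spec.map φf ≫ α₀ γ := by
            rw [hφf, Category.assoc, Category.assoc]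
            exact congrArg (f ≫ ·) (pullback.lift_fst _ _ _)
          have e₂ : (f ≫ aL γ) ≫ pullback.snd tE tS = f ≫ pullback.snd tE tS := by
            rw [Category.assoc]
            exact congrArg (f ≫ ·) (pullback.lift_snd _ _ _)
          constructor
          · intro h r
            have h' : Spec.map φf ≫ α₀ γ = Spec.map φg := by
              rw [← e₁, hφg]
              exact congrArg (· ≫ pullback.fst tE tS) h
            rw [← Spec.map_comp] at h'
            exact RingHom.congr_fun (congrArg (fun m => m.hom) (Spec.map_injective h')) r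
          · intro h
            refine pullback.hom_ext ?_ (e₂.trans h₂)
            refine e₁.trans ?_
            rw [← hφg, ← Spec.map_comp]
            congr 1
            ext r
            exact h r
        simpa only [hiff] using hres }
  refine ⟨G, Over.homMk (pullback.lift b₀ (Spec.map (CommRingCat.ofHom (algebraMap R R')) ≫ str)
    (terminal.hom_ext _ _)) (pullback.lift_snd _ _ _), fun γ α hα' => ?_⟩
  apply Over.OverMorphism.ext
  have hw := Over.w α
  apply pullback.hom_ext
  · show (α.left ≫ pullback.lift _ _ _) ≫ pullback.fst tE tS =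
      (pullback.lift _ _ _ ≫ aL γ) ≫ pullback.fst tE tS
    simp only [aL, Category.assoc, pullback.lift_fst, pullback.lift_fst_assoc]
    rw [← cancel_mono j, Category.assoc, Category.assoc, hb₀, hequ', reassoc_of% hb₀, hα']
    exact hy γ
  · show (α.left ≫ pullback.lift _ _ _) ≫ pullback.snd tE tS =
      (pullback.lift _ _ _ ≫ aL γ) ≫ pullback.snd tE tS
    simp only [aL, Category.assoc, pullback.lift_snd]
    exact hw

end Groth.HenselPoint
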