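import Groth.Agent.HenselPoint.StackPoints
import Groth.Agent.HenselPoint.Points
import Groth.Agent.HenselPoint.Multisection
import Groth.Agent.HenselPoint.SigmaRep
import Groth.Agent.AlgStBasic.StCover
import Groth.Agent.AlgStBasic.StCompact
import Groth.Agent.AlgStBasic.Permanence

/-!
# Smooth charts of algebraic stacks through points over henselian local rings
-/

set_option autoImplicit false
set_option backward.isDefEq.respectTransparency false
set_option backward.isDefEq.respectTransparency.types false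

universe u

open CategoryTheory CategoryTheory.Limits AlgebraicGeometry Opposite IsLocalRing

noncomputable section

namespace Groth.HenselPoint

open Groth.StkBase Groth.AlgStBasic

variable {S : Scheme.{u}} {𝒵 : AlgSt.Cat S}

/-- Composition of functors on slices is composition of the arrows. -/
theorem nonempty_overMap_comp_iso' (hZ : FibCat.IsFibGrpd 𝒵.p) {T T' : Over S} (a : T ⟶ T')
    (b : T' ⟶ T) (h : a ≫ b = 𝟙 T) (z : FibCat.overCat T ⥤ᵇ 𝒵) :
    Nonempty (BasedFunctor.comp (AlgSt.overMap a) (BasedFunctor.comp (AlgSt.overMap b) z) ≅ z) := by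
  obtain ⟨α⟩ := nonempty_overMap_comp_iso a b
  have : Nonempty (AlgSt.overMap (a ≫ b) ≅ BasedFunctor.id _) :=
    (nonempty_overIso_iff (isFibGrpd_overCat T) _ _).2
      ⟨eqToHom (congrArg Over.mk (by rw [h]; exact Category.comp_id _)), isVert_eqToHom _⟩
  obtain ⟨β⟩ := this
  exact ⟨whiskerRightIso (α.trans β) z⟩

/-- A point of a stack over a quotient of a henselian local ring has a point of the atlas over a
finite Galois extension of the residue field. -/
theorem exists_residue_trip {U : Over S} {u' : FibCat.overCat U ⥤ᵇ 𝒵}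
    (hZ : FibCat.IsFibGrpd 𝒵.p) (hu : AlgSt.RepByAlgSpWith (AlgSp.LocP @Smooth) u')
    (hus : AlgSt.RepByAlgSpWith AlgSp.IsSurjectiveMor u')
    {R : Type u} [CommRing R] [IsLocalRing R] (str : Spec (CommRingCat.of R) ⟶ S)
    (a : Ideal R) (ha : a ≠ ⊤) (t : Spec (CommRingCat.of (R ⧸ a)) ⟶ S)
    (ht : t = Spec.map (CommRingCat.ofHom (Ideal.Quotient.mk a)) ≫ str)
    (x : FibCat.overCat (Over.mk t) ⥤ᵇ 𝒵) :
    ∃ L : IntermediateField (ResidueField R) (SeparableClosure (ResidueField R)),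
      FiniteDimensional (ResidueField R) L ∧ IsGalois (ResidueField R) L ∧
      ∃ (hsh : Presheaf.IsSheaf (AlgSp.J S) (tripPsh u' x hZ))
        (_ : AlgSp.IsAlgSpace (tripSp u' x hZ hsh))
        (cK : (Over.mk (Spec.map (CommRingCat.ofHom (algebraMap (ResidueField R) L)) ≫
          Spec.map (CommRingCat.ofHom (residue R)) ≫ str) : Over S) ⟶ Over.mk t)
        (_ : cK.left = Spec.map (CommRingCat.ofHom (algebraMap (ResidueField R) L)) ≫
          Spec.map (CommRingCat.ofHom (toResidue ha)))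
        (τK : (AlgSp.yon S).obj (Over.mk (Spec.map (CommRingCat.ofHom
          (algebraMap (ResidueField R) L)) ≫ Spec.map (CommRingCat.ofHom (residue R)) ≫ str)) ⟶
            tripSp u' x hZ hsh),
        τK ≫ tripT u' x hZ hsh = (AlgSp.yon S).map cK := by
  have := (stableBaseChange_locP (S := S) (P := @Smooth)).respectsIso
  have := (stableBaseChange_surjective (S := S)).respectsIso
  let sk : Spec (CommRingCat.of (ResidueField R)) ⟶ S :=
    Spec.map (CommRingCat.ofHom (residue R)) ≫ str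
  let qk : (Over.mk sk : Over S) ⟶ Over.mk t :=
    Over.homMk (Spec.map (CommRingCat.ofHom (toResidue ha))) (by
      show Spec.map _ ≫ t = Spec.map _ ≫ str
      rw [ht, ← Spec.map_comp_assoc]
      rfl)
  let xk := BasedFunctor.comp (AlgSt.overMap qk) x
  obtain ⟨hshk, hAk⟩ := exists_trip u' xk hZ (repWith_repByAlgSp1 hu)
  obtain ⟨L, hfin, hgal, c, τ, hc, hτ⟩ := exists_galois_lift sk hAk (tripT u' xk hZ hshk)
    (prop_tripT u' xk hZ hu hshk) (prop_tripT u' xk hZ hus hshk)
  obtain ⟨hsh, hA⟩ := exists_trip u' x hZ (repWith_repByAlgSp1 hu)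
  let τ₀ : Trip u' xk _ := Groth.AlgSpBasic.yEquiv τ
  have hτ₀ : τ₀.t = c := by
    have e := congrArg Groth.AlgSpBasic.yEquiv hτ
    rw [GrothendieckTopology.uliftYonedaEquiv_comp] at e
    refine (congrArg ULift.down e).trans ?_
    exact Category.id_comp c
  let τ₁ : Trip u' x _ := ⟨τ₀.t ≫ qk, τ₀.v, τ₀.ι, τ₀.vert⟩
  refine ⟨L, hfin, hgal, hsh, hA, τ₀.t ≫ qk, ?_,
    Groth.AlgSpBasic.yEquiv.symm (τ₁ : (tripSp u' x hZ hsh).obj.obj (op _)), ?_⟩
  · rw [Over.comp_left, hτ₀, hc]
    rfl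
  · apply Groth.AlgSpBasic.yEquiv.injective
    rw [GrothendieckTopology.uliftYonedaEquiv_comp, Equiv.apply_symm_apply]
    apply ULift.ext
    exact (Category.id_comp _).symm

/-- The point of the space of lifts given by a point of the atlas over a Galois residue extension. -/
theorem exists_space_point {U : Over S} {u' : FibCat.overCat U ⥤ᵇ 𝒵} {B : EtBase S}
    {R : Type u} [CommRing R] [HenselianLocalRing R] (str : Spec (CommRingCat.of R) ⟶ S)
    {L : Type u} [Field L] [Algebra (ResidueField R) L] [FiniteDimensional (ResidueField R) L]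
    [IsGalois (ResidueField R) L] (D : GaloisLiftData R L) (C : GaloisChart B D.Γ)
    (bG : (Over.mk (Spec.map (CommRingCat.ofHom (algebraMap R D.ring)) ≫ str) : Over S) ⟶ C.E)
    (hbG : ∀ (γ : D.Γ) (α : (Over.mk (Spec.map (CommRingCat.ofHom (algebraMap R D.ring)) ≫ str) : Over S) ⟶
          Over.mk (Spec.map (CommRingCat.ofHom (algebraMap R D.ring)) ≫ str)),
        α.left = Spec.map (CommRingCat.ofHom (MulSemiringAction.toRingHom D.Γ D.ring γ)) →
          α ≫ bG = bG ≫ C.a γ)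
    (hZ : FibCat.IsFibGrpd 𝒵.p) (hu : AlgSt.RepByAlgSpWith (AlgSp.LocP @Smooth) u')
    (a : Ideal R) (ha : a ≠ ⊤) (t : Spec (CommRingCat.of (R ⧸ a)) ⟶ S)
    (ht : t = Spec.map (CommRingCat.ofHom (Ideal.Quotient.mk a)) ≫ str)
    (x : FibCat.overCat (Over.mk t) ⥤ᵇ 𝒵)
    (hsh : Presheaf.IsSheaf (AlgSp.J S) (tripPsh u' x hZ))
    (hA : AlgSp.IsAlgSpace (tripSp u' x hZ hsh))
    (cK : (Over.mk (Spec.map (CommRingCat.ofHom (algebraMap (ResidueField R) L)) ≫
          Spec.map (CommRingCat.ofHom (residue R)) ≫ str) : Over S) ⟶ Over.mk t)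
    (hcK : cK.left = Spec.map (CommRingCat.ofHom (algebraMap (ResidueField R) L)) ≫
          Spec.map (CommRingCat.ofHom (toResidue ha)))
    (τK : (AlgSp.yon S).obj (Over.mk (Spec.map (CommRingCat.ofHom
          (algebraMap (ResidueField R) L)) ≫ Spec.map (CommRingCat.ofHom (residue R)) ≫ str)) ⟶
            tripSp u' x hZ hsh)
    (hτK : τK ≫ tripT u' x hZ hsh = (AlgSp.yon S).map cK) :
    ∃ g : (AlgSp.yon S).obj (Over.mk t) ⟶ res B (tripT u' x hZ hsh),
      g ≫ resT B (tripT u' x hZ hsh) = 𝟙 _ :=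
  have := (stableBaseChange_locP (S := S) (P := @Smooth)).respectsIso
  exists_res_section str D C bG hbG a ha t ht hA _ (prop_tripT u' x hZ hu hsh) cK hcK τK hτK

/-- An étale chart of a space smooth over a stack is a smooth chart of the stack. -/
theorem repWith_space_chart {X : AlgSp.Space S} {pX : AlgSt.ofSp X.obj ⥤ᵇ 𝒵}
    (hpX : AlgSt.RepByAlgSpWith (AlgSp.LocP @Smooth) pX) {Z : Over S}
    (c : (AlgSp.yon S).obj Z ⟶ X.obj) (hc : AlgSp.RepWith @Etale c) :
    AlgSt.RepByAlgSpWith (AlgSp.LocP @Smooth)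
      (BasedFunctor.comp (AlgSt.ofOverCat Z) (BasedFunctor.comp (AlgSt.ofSpMap c) pX)) := by
  refine (repWith_precomp_equiv (isEquivOver_ofOverCat Z) _).2 ?_
  refine repWith_comp' (isFibGrpd_ofSp _) (isFibGrpd_ofSp _) stableBaseChange_locP stableComp_locP
    descendsAlongAtlas_locP ?_ hpX
  exact repByAlgSpWith_locP_of_repWith
    (Groth.AlgSpBasic.repWith_mono (Q := @Smooth) (fun _ _ f (_ : Etale f) => inferInstance) hc)

theorem space_chart_iso {X : AlgSp.Space S} (pX : AlgSt.ofSp X.obj ⥤ᵇ 𝒵) {Z T : Over S}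
    (c : (AlgSp.yon S).obj Z ⟶ X.obj) (g : T ⟶ Z) (s : (AlgSp.yon S).obj T ⟶ X.obj)
    (h : (AlgSp.yon S).map g ≫ c = s) :
    Nonempty (BasedFunctor.comp (AlgSt.overMap g)
      (BasedFunctor.comp (AlgSt.ofOverCat Z) (BasedFunctor.comp (AlgSt.ofSpMap c) pX)) ≅
        BasedFunctor.comp (AlgSt.ofOverCat T) (BasedFunctor.comp (AlgSt.ofSpMap s) pX)) := by
  subst h
  exact ⟨Iso.refl _⟩

/-- A smooth affine chart through a point over a henselian local ring. -/
theorem exists_affine_chart {K : Precoverage Scheme.{u}} (hK : Scheme.etalePrecoverage ≤ K)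
    (h𝒵 : AlgSt.IsAlgStack K 𝒵) {R : Type u} [CommRing R] [HenselianLocalRing R]
    (str : Spec (CommRingCat.of R) ⟶ S) (z : FibCat.overCat (Over.mk str) ⥤ᵇ 𝒵) :
    ∃ (Z : Over S) (_ : IsAffine Z.left) (p : FibCat.overCat Z ⥤ᵇ 𝒵) (g : Over.mk str ⟶ Z),
      AlgSt.RepByAlgSpWith (AlgSp.LocP @Smooth) p ∧
        Nonempty (BasedFunctor.comp (AlgSt.overMap g) p ≅ z) := by
  obtain ⟨U, u', hu, hus⟩ := h𝒵.atlas
  have hst := isStackJet_of_isStack hK h𝒵.isStack
  have hb : (⊥ : Ideal R) ≠ ⊤ := bot_ne_top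
  let t : Spec (CommRingCat.of (R ⧸ (⊥ : Ideal R))) ⟶ S :=
    Spec.map (CommRingCat.ofHom (Ideal.Quotient.mk (⊥ : Ideal R))) ≫ str
  let b : (Over.mk t : Over S) ⟶ Over.mk str :=
    Over.homMk (Spec.map (CommRingCat.ofHom (Ideal.Quotient.mk (⊥ : Ideal R)))) rfl
  have hqb : (RingEquiv.quotientBot R).toRingHom.comp (Ideal.Quotient.mk (⊥ : Ideal R)) =
      RingHom.id R := RingHom.ext fun r => by simp
  have hab : Spec.map (CommRingCat.ofHom (RingEquiv.quotientBot R).toRingHom) ≫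
      Spec.map (CommRingCat.ofHom (Ideal.Quotient.mk (⊥ : Ideal R))) =
        𝟙 (Spec (CommRingCat.of R)) := by
    rw [← Spec.map_comp, ← CommRingCat.ofHom_comp, hqb, CommRingCat.ofHom_id, Spec.map_id]
  let a : (Over.mk str : Over S) ⟶ Over.mk t :=
    Over.homMk (Spec.map (CommRingCat.ofHom (RingEquiv.quotientBot R).toRingHom)) (by
      show Spec.map _ ≫ Spec.map _ ≫ str = str
      rw [reassoc_of% hab])
  let x := BasedFunctor.comp (AlgSt.overMap b) z
  obtain ⟨L, hfin, hgal, hsh, hA, cK, hcK, τK, hτK⟩ :=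
    exists_residue_trip hst.1 hu hus str ⊥ hb t rfl x
  obtain ⟨D⟩ := exists_galoisLiftData R L
  obtain ⟨G, bG, hbG⟩ := exists_galoisTorsor str D
  obtain ⟨X, pX, hpX, hlift⟩ := exists_resSpace (u' := u') (B := G.base) (ι := PUnit.{u + 1})
    (fun _ => G.chart) (fun q => ⟨PUnit.unit, q, rfl⟩) hst h𝒵.atlas hu
  obtain ⟨s', hs'⟩ := exists_space_point (B := G.base) str D G.chart bG hbG hst.1 hu ⊥ hb t rfl x
    hsh hA cK hcK τK hτK
  obtain ⟨s, ⟨ε⟩⟩ := hlift _ x hsh s' hs'
  let qa : Over.mk (Spec.map (CommRingCat.ofHom (residue R)) ≫ str) ⟶ Over.mk t :=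
    Over.homMk (Spec.map (CommRingCat.ofHom (toResidue hb))) (by
      show Spec.map _ ≫ Spec.map _ ≫ str = Spec.map _ ≫ str
      rw [← Spec.map_comp_assoc]
      rfl)
  obtain ⟨Z, c, hZ, hc, hchart⟩ :=
    exists_chart_of_residue_point str X ((AlgSp.yon S).map qa ≫ s)
  obtain ⟨g₀, hg₀⟩ := hchart ⊥ hb t rfl qa rfl s rfl
  let p := BasedFunctor.comp (AlgSt.ofOverCat Z) (BasedFunctor.comp (AlgSt.ofSpMap c) pX)
  refine ⟨Z, hZ, p, a ≫ g₀, repWith_space_chart hpX c hc, ?_⟩
  obtain ⟨e₁⟩ := space_chart_iso pX c g₀ s hg₀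
  obtain ⟨e₂⟩ := nonempty_overMap_comp_iso a g₀
  obtain ⟨e₃⟩ := nonempty_overMap_comp_iso' hst.1 a b (Over.OverMorphism.ext hab) z
  exact ⟨((whiskerRightIso e₂.symm p).trans
    (whiskerLeftIso (AlgSt.overMap a) (e₁.trans ε))).trans e₃⟩

/-- Any two points over an empty scheme are isomorphic. -/
theorem nonempty_iso_of_isEmpty (hst : Stk.IsStack (Groth.AlgSpBoot.Jet S) 𝒵) {T : Over S}
    [IsEmpty T.left] (x y : FibCat.overCat T ⥤ᵇ 𝒵) : Nonempty (x ≅ y) := by
  have hmem : (⊥ : Sieve T) ∈ Groth.AlgSpBoot.Jet S T := by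
    rw [GrothendieckTopology.mem_over_iff]
    exact GrothendieckTopology.superset_covering _ bot_le (Scheme.bot_mem_grothendieckTopology _)
  have he : ∀ (g : (Stk.sieveCat (⊥ : Sieve T)).obj), False := fun g => g.property
  have := hst.2 _ hmem
  have hfull : (Stk.resSieve (⊥ : Sieve T) 𝒵).Full := this.full
  obtain ⟨α, -⟩ := (Stk.resSieve (⊥ : Sieve T) 𝒵).map_surjective (X := x) (Y := y)
    ⟨⟨fun g => (he g).elim, fun g => (he g).elim⟩, fun g => (he g).elim⟩
  have := natTrans_isIso hst.1 α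
  exact ⟨asIso α⟩

/-- The disjoint union of torsors. -/
theorem exists_sigma_base {ι : Type u} {Γi : ι → Type u} [∀ i, Group (Γi i)]
    (G : ∀ i, GaloisTorsor S (Γi i)) :
    ∃ (B : EtBase S) (C : ∀ i, GaloisChart B (Γi i)),
      (∀ x : B.Q.left, ∃ i, x ∈ Set.range (C i).j.left.base) ∧
      ∀ i, ∃ h : (C i).E = (G i).E, ∀ γ, (C i).a γ = eqToHom h ≫ (G i).a γ ≫ eqToHom h.symm := by
  let VQ : ι → Over S := fun i => (G i).Q
  let VE : ι → Over S := fun i => (G i).E
  let eL : (Groth.AlgSp2.sigmaObj VE).left ⟶ (Groth.AlgSp2.sigmaObj VQ).left :=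
    Limits.Sigma.desc fun i => (G i).e.left ≫ Limits.Sigma.ι (fun i => (VQ i).left) i
  have heι : ∀ i, Limits.Sigma.ι (fun i => (VE i).left) i ≫ eL =
      (G i).e.left ≫ Limits.Sigma.ι (fun i => (VQ i).left) i := fun i => Limits.Sigma.ι_desc _ _
  let e : Groth.AlgSp2.sigmaObj VE ⟶ Groth.AlgSp2.sigmaObj VQ := Over.homMk eL (by
    refine Limits.Sigma.hom_ext _ _ fun i => ?_
    rw [← Category.assoc, heι, Category.assoc]
    refine (congrArg ((G i).e.left ≫ ·) (Over.w (Groth.AlgSp2.sigmaIncl VQ i))).trans ?_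
    exact (Over.w (G i).e).trans (Over.w (Groth.AlgSp2.sigmaIncl VE i)).symm)
  have hsurj : Surjective eL := ⟨fun q => by
    obtain ⟨i, w, hw⟩ := exists_sigmaIncl_eq (V := VQ) q
    obtain ⟨z, hz⟩ := (G i).surjective.surj w
    refine ⟨(Limits.Sigma.ι (fun i => (VE i).left) i).base z, ?_⟩
    rw [← hw, ← hz]
    exact congrArg (fun m : (VE i).left ⟶ _ => m.base z) (heι i)⟩
  have het : Etale eL := by
    rw [IsZariskiLocalAtSource.iff_of_openCover (P := @Etale) (sigmaOpenCover fun i => (VE i).left)]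
    intro i
    show Etale (Limits.Sigma.ι (fun i => (VE i).left) i ≫ eL)
    rw [heι]
    have := (G i).etale
    infer_instance
  let B : EtBase S := ⟨Groth.AlgSp2.sigmaObj VQ, Groth.AlgSp2.sigmaObj VE, e, het, hsurj⟩
  let C : ∀ i, GaloisChart B (Γi i) := fun i =>
    { Q := VQ i
      E := VE i
      e := (G i).e
      j := Groth.AlgSp2.sigmaIncl VQ i
      k := Groth.AlgSp2.sigmaIncl VE i
      isPullback := by
        refine IsPullback.of_map (Over.forget S) (Over.OverMorphism.ext (heι i)) ?_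
        refine (IsOpenImmersion.isPullback (G i).e.left (Limits.Sigma.ι (fun i => (VE i).left) i)
          (Limits.Sigma.ι (fun i => (VQ i).left) i) eL (heι i) ?_).flip
        ext y
        constructor
        · rintro ⟨w, hw⟩
          obtain ⟨j, z, rfl⟩ := exists_sigmaIncl_eq (V := VE) y
          have h1 : (Limits.Sigma.ι (fun i => (VQ i).left) i).base w =
              (Limits.Sigma.ι (fun i => (VQ i).left) j).base ((G j).e.left.base z) :=
            hw.trans (congrArg (fun m : (VE j).left ⟶ _ => m.base z) (heι j))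
          obtain rfl : i = j :=
            congrArg Sigma.fst ((sigmaι_eq_iff (fun i => (VQ i).left) i j _ _).1 h1)
          exact ⟨z, rfl⟩
        · rintro ⟨z, rfl⟩
          exact ⟨(G i).e.left.base z,
            (congrArg (fun m : (VE i).left ⟶ _ => m.base z) (heι i)).symm⟩
      openImm := inferInstanceAs (IsOpenImmersion (Limits.Sigma.ι (fun i => (VQ i).left) i))
      separated := (G i).separated
      a := (G i).a
      comp := (G i).comp
      one := (G i).one
      mul := (G i).mul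
      smooth := (G i).smooth
      points := (G i).points }
  exact ⟨B, C, fun q => exists_sigmaIncl_eq (V := VQ) q, fun i => ⟨rfl, fun γ =>
    ((Category.id_comp _).trans (Category.comp_id _)).symm⟩⟩

/-- A separated smooth chart through all points over quotients of a henselian local ring. -/
theorem exists_separated_chart {K : Precoverage Scheme.{u}} (hK : Scheme.etalePrecoverage ≤ K)
    (h𝒵 : AlgSt.IsAlgStack K 𝒵) {R : Type u} [CommRing R] [HenselianLocalRing R]
    (str : Spec (CommRingCat.of R) ⟶ S) :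
    ∃ (Z : Over S) (p : FibCat.overCat Z ⥤ᵇ 𝒵), IsSeparated Z.hom ∧
      AlgSt.RepByAlgSpWith (AlgSp.LocP @Smooth) p ∧
      ∀ (a : Ideal R) (x : FibCat.overCat
          (Over.mk (Spec.map (CommRingCat.ofHom (Ideal.Quotient.mk a)) ≫ str)) ⥤ᵇ 𝒵),
        ∃ g : Over.mk (Spec.map (CommRingCat.ofHom (Ideal.Quotient.mk a)) ≫ str) ⟶ Z,
          Nonempty (BasedFunctor.comp (AlgSt.overMap g) p ≅ x) := by
  classical
  obtain ⟨U, u', hu, hus⟩ := h𝒵.atlas
  have hst := isStackJet_of_isStack hK h𝒵.isStack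
  let k := ResidueField R
  let ι : Type u := { L : IntermediateField k (SeparableClosure k) //
    FiniteDimensional k L ∧ IsGalois k L }
  have := fun i : ι => i.2.1
  have := fun i : ι => i.2.2
  let D : ∀ i : ι, GaloisLiftData R i.1 := fun i => (exists_galoisLiftData R i.1).some
  choose G bG hbG using fun i : ι => exists_galoisTorsor str (D i)
  obtain ⟨B, C, hcov, hC⟩ := exists_sigma_base G
  obtain ⟨X, pX, hpX, hlift⟩ := exists_resSpace (u' := u') (B := B) C hcov hst h𝒵.atlas hu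
  obtain ⟨Z, c, hsep, hc, -, hfam⟩ := exists_chart_family str X
  refine ⟨Z, _, ?_, repWith_space_chart hpX c hc, fun a x => ?_⟩
  · have : IsSeparated (Z.hom ≫ terminal.from S) := by
      rw [terminal.comp_from]
      exact hsep.isSeparated_terminal_from
    exact IsSeparated.of_comp Z.hom (terminal.from S)
  by_cases ha : a = ⊤
  · have : Subsingleton (R ⧸ a) := Ideal.Quotient.subsingleton_iff.2 ha
    have : IsEmpty (Over.mk (Spec.map (CommRingCat.ofHom (Ideal.Quotient.mk a)) ≫ str) :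
        Over S).left := inferInstanceAs (IsEmpty (PrimeSpectrum (R ⧸ a)))
    exact ⟨Over.homMk (isInitialOfIsEmpty.to Z.left) (isInitialOfIsEmpty.hom_ext _ _),
      nonempty_iso_of_isEmpty hst _ _⟩
  obtain ⟨L, hfin, hgal, hsh, hA, cK, hcK, τK, hτK⟩ :=
    exists_residue_trip hst.1 hu hus str a ha _ rfl x
  let i : ι := ⟨L, hfin, hgal⟩
  obtain ⟨hE, hCa⟩ := hC i
  obtain ⟨s', hs'⟩ := exists_space_point (B := B) str (D i) (C i) (bG i ≫ eqToHom hE.symm)
    (fun γ α hα => by
      rw [← Category.assoc, hbG i γ α hα, hCa, Category.assoc, Category.assoc,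
        eqToHom_trans_assoc, eqToHom_refl, Category.id_comp])
    hst.1 hu a ha _ rfl x hsh hA cK hcK τK hτK
  obtain ⟨s, ⟨ε⟩⟩ := hlift _ x hsh s' hs'
  obtain ⟨g, hg⟩ := hfam a s
  obtain ⟨e₁⟩ := space_chart_iso pX c g s hg
  exact ⟨g, ⟨e₁.trans ε⟩⟩

/-- A smooth chart of a stack smooth over the base is smooth over the base. -/
theorem smooth_hom_of_chart (h𝒵 : AlgSt.IsAlgStack Scheme.fppfPrecoverage 𝒵)
    (hsm : AlgSt.LocQ (AlgSp.LocP @Smooth) (FibCat.toSelf 𝒵)) {Z : Over S}
    (p : FibCat.overCat Z ⥤ᵇ 𝒵) (hp : AlgSt.RepByAlgSpWith (AlgSp.LocP @Smooth) p) :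
    Smooth Z.hom := by
  let A : Over S := Over.mk (𝟙 S)
  have hT : ∀ W, Nonempty (Unique (((AlgSp.pyon S).obj A).obj W)) := fun W =>
    ⟨⟨⟨⟨Over.homMk W.unop.hom (by simp [A])⟩⟩, fun x => by
      apply ULift.ext
      apply Over.OverMorphism.ext
      have := Over.w x.down
      simpa [A] using this⟩⟩
  have hE : FibCat.IsEquivOver (FibCat.toSelf (FibCat.overCat A : AlgSt.Cat S)) :=
    isEquivOver_of_iso (selfIso (BasedFunctor.comp (AlgSt.ofOverCat A)
      (FibCat.toSelf (AlgSt.ofSch A))) _)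
      (isEquivOver_comp (isEquivOver_ofOverCat A) (isEquivOver_toSelf_ofPsh_of_unique _ hT))
  obtain ⟨E, hE', ⟨β₁⟩, -⟩ := isEquivOver_symm hE
  let h : Z ⟶ A := Over.homMk Z.hom (Category.comp_id _)
  have hid : AlgSt.RepByAlgSpWith (AlgSp.LocP (S := S) @Smooth)
      (BasedFunctor.id (FibCat.overCat A : AlgSt.Cat S)) := by
    have : Nonempty (AlgSt.overMap (𝟙 A) ≅ BasedFunctor.id _) :=
      (nonempty_overIso_iff (isFibGrpd_overCat A) _ _).2
        ⟨eqToHom (congrArg Over.mk (Category.comp_id _)), isVert_eqToHom _⟩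
    obtain ⟨i⟩ := this
    exact repWith_of_iso i (repWith_overMap (P := @Smooth) (𝟙 A) (inferInstanceAs (Smooth (𝟙 A.left))))
  have hEsm : AlgSt.RepByAlgSpWith (AlgSp.LocP (S := S) @Smooth) E :=
    repWith_of_iso (Iso.refl _) ((repWith_precomp_equiv hE' (BasedFunctor.id _)).2 hid)
  have h₁ : AlgSt.LocQ (AlgSp.LocP (S := S) @Smooth) (BasedFunctor.comp p (FibCat.toSelf 𝒵)) :=
    locQ_comp isSmoothLocalST_smooth stableComp_locP (isAlgStack_overCat Z) h𝒵 isAlgStack_selfOver
      (locQ_of_repWith stableBaseChange_locP descendsAlongAtlas_locP isSmoothLocalST_smooth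
        (isAlgStack_overCat Z) h𝒵 hp) hsm
  have h₂ : AlgSt.LocQ (AlgSp.LocP (S := S) @Smooth)
      (BasedFunctor.comp (BasedFunctor.comp p (FibCat.toSelf 𝒵)) E) :=
    locQ_comp isSmoothLocalST_smooth stableComp_locP (isAlgStack_overCat Z) isAlgStack_selfOver
      (isAlgStack_overCat A) h₁
      (locQ_of_repWith stableBaseChange_locP descendsAlongAtlas_locP isSmoothLocalST_smooth
        isAlgStack_selfOver (isAlgStack_overCat A) hEsm)
  refine left_prop_of_locQ_overMap (g := h) isSmoothLocalST_smooth (locQ_of_iso ?_ h₂)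
  exact (whiskerRightIso (selfIso _ (BasedFunctor.comp (AlgSt.overMap h)
    (FibCat.toSelf (FibCat.overCat A)))) E).trans (whiskerLeftIso (AlgSt.overMap h) β₁)

/-- Points over a closed subscheme of a henselian local base lift. -/
theorem exists_lift_of_smooth {R : Type u} [CommRing R] [HenselianLocalRing R]
    {𝒵 : AlgSt.Cat (Spec (CommRingCat.of R))}
    (h𝒵 : AlgSt.IsAlgStack Scheme.fppfPrecoverage 𝒵)
    (hsm : AlgSt.LocQ (AlgSp.LocP @Smooth) (FibCat.toSelf 𝒵))
    (a : Ideal R) (ha : a ≠ ⊤)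
    (z₀ : FibCat.overCat (Over.mk (Spec.map (CommRingCat.ofHom (Ideal.Quotient.mk a)))) ⥤ᵇ 𝒵) :
    ∃ z : FibCat.overCat (Over.mk (𝟙 (Spec (CommRingCat.of R)))) ⥤ᵇ 𝒵,
      Nonempty (BasedFunctor.comp (AlgSt.overMap (Over.homMk
        (Spec.map (CommRingCat.ofHom (Ideal.Quotient.mk a))) (Category.comp_id _) :
          Over.mk (Spec.map (CommRingCat.ofHom (Ideal.Quotient.mk a))) ⟶ Over.mk (𝟙 _))) z ≅ z₀) := by
  have : Nontrivial (R ⧸ a) := Ideal.Quotient.nontrivial_iff.2 ha
  have : IsLocalRing (R ⧸ a) :=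
    IsLocalRing.of_surjective' (Ideal.Quotient.mk a) Ideal.Quotient.mk_surjective
  have : HenselianRing (R ⧸ a) (maximalIdeal (R ⧸ a)) := by
    have hs := Ideal.Quotient.mk_surjective (I := a)
    have hcm := eq_maximalIdeal
      (Ideal.comap_isMaximal_of_surjective _ hs (K := maximalIdeal (R ⧸ a)))
    rw [← Ideal.map_comap_of_surjective _ hs (maximalIdeal (R ⧸ a)), hcm]
    exact Groth.Hensel1.henselianRing_quotient a
  have : HenselianLocalRing (R ⧸ a) := Groth.Hensel1.henselianLocalRing_of_henselianRing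
  obtain ⟨Z, hZ, p, g, hp, ⟨ε⟩⟩ := exists_affine_chart
    Groth.AlgSpBoot.etalePrecoverage_le_fppfPrecoverage h𝒵
    (Spec.map (CommRingCat.ofHom (Ideal.Quotient.mk a))) z₀
  let S' := Spec (CommRingCat.of R)
  let A : Over S' := Over.mk (𝟙 S')
  let h : Z ⟶ A := Over.homMk Z.hom (Category.comp_id _)
  have : Smooth h.left := smooth_hom_of_chart h𝒵 hsm p hp
  obtain ⟨s, hs, hqs⟩ := exists_section_lift (𝟙 S') (AlgSp.IsAlgSpace.yon_obj Z)
    ((AlgSp.yon S').map h) (locP_yon_of_left (P := @Smooth) this) ha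
    (Spec.map (CommRingCat.ofHom (Ideal.Quotient.mk a)))
    (Over.homMk (Spec.map (CommRingCat.ofHom (Ideal.Quotient.mk a))) (Category.comp_id _)) rfl
    ((AlgSp.yon S').map g) (by
      rw [← Functor.map_comp]
      congr 1
      apply Over.OverMorphism.ext
      exact Over.w g)
  obtain ⟨s', rfl⟩ := (AlgSp.yon S').map_surjective s
  rw [← Functor.map_comp] at hqs
  refine ⟨BasedFunctor.comp (AlgSt.overMap s') p, ?_⟩
  obtain ⟨e⟩ := nonempty_overMap_comp_iso (Over.homMk
        (Spec.map (CommRingCat.ofHom (Ideal.Quotient.mk a))) (Category.comp_id _) :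
          (Over.mk (Spec.map (CommRingCat.ofHom (Ideal.Quotient.mk a))) : Over S') ⟶ A) s'
  rw [(AlgSp.yon S').map_injective hqs] at e
  exact ⟨(whiskerRightIso e p).trans ε⟩

end Groth.HenselPoint
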