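import Groth.Agent.HenselPoint.StackRes
import Groth.Agent.HenselPoint.StackBase
import Groth.Agent.HenselPoint.Section
import Groth.Agent.AlgSpBoot.SmoothCover
import Groth.Agent.VarietyBC.SepPoints
import Mathlib.FieldTheory.Galois.GaloisClosure
import Mathlib.FieldTheory.IsSepClosed

/-!
# Points of algebraic stacks over henselian local rings lift to smooth charts
-/

set_option autoImplicit false
set_option backward.isDefEq.respectTransparency false
set_option backward.isDefEq.respectTransparency.types false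

universe u

open CategoryTheory CategoryTheory.Limits AlgebraicGeometry Opposite IsLocalRing TensorProduct

noncomputable section

namespace Groth.HenselPoint

open Groth.StkBase Groth.AlgStBasic Groth.AlgSpBasic

variable {S : Scheme.{u}}

/-- A space smooth and surjective over the spectrum of a field has a point in a finite Galois
extension. -/
theorem exists_galois_lift {k : Type u} [Field k] (sk : Spec (CommRingCat.of k) ⟶ S) {F : AlgSp.Sp S}
    (hF : AlgSp.IsAlgSpace F) (p : F ⟶ (AlgSp.yon S).obj (Over.mk sk))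
    (hp : AlgSp.LocP @Smooth p) (hs : AlgSp.IsSurjectiveMor p) :
    ∃ L : IntermediateField k (SeparableClosure k), FiniteDimensional k L ∧ IsGalois k L ∧
      ∃ (c : (Over.mk (Spec.map (CommRingCat.ofHom (algebraMap k L)) ≫ sk) : Over S) ⟶ Over.mk sk)
        (τ : (AlgSp.yon S).obj (Over.mk (Spec.map (CommRingCat.ofHom (algebraMap k L)) ≫ sk)) ⟶ F),
        c.left = Spec.map (CommRingCat.ofHom (algebraMap k L)) ∧
          τ ≫ p = (AlgSp.yon S).map c := by
  obtain ⟨W, w, hwe, hws⟩ := hF.atlas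
  obtain ⟨l, hl⟩ := (AlgSp.yon S).map_surjective (w ≫ p)
  obtain ⟨hsm, hsur⟩ := Groth.AlgSpBoot.smooth_surjective_of_chart hp hwe l hl.symm
  haveI := hsur hs hws
  obtain ⟨x, -⟩ := l.left.surjective (closedPoint k)
  obtain ⟨V, hV, hxV, -⟩ := exists_isAffineOpen_mem_and_subset
    (x := x) (U := (⊤ : W.left.Opens)) trivial
  let j : Spec Γ(W.left, V) ⟶ W.left := hV.fromSpec
  obtain ⟨φ, hφ⟩ := Spec.map_surjective (j ≫ l.left)
  letI : Algebra k Γ(W.left, V) := φ.hom.toAlgebra
  haveI : Nontrivial Γ(W.left, V) := by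
    haveI : Nonempty (Spec Γ(W.left, V)) := ⟨hV.primeIdealOf ⟨x, hxV⟩⟩
    exact PrimeSpectrum.nonempty_iff_nontrivial.1 ‹_›
  haveI : Algebra.Smooth k Γ(W.left, V) := by
    have : Smooth (Spec.map φ) := by rw [hφ]; infer_instance
    exact RingHom.smooth_algebraMap.1 ((HasRingHomProperty.Spec_iff (P := @Smooth)).1 this)
  haveI : Algebra.FiniteType k Γ(W.left, V) := inferInstance
  obtain ⟨ψ⟩ := Groth.VarietyBC.nonempty_algHom_sepClosed k (SeparableClosure k) Γ(W.left, V)
    (fun L _ _ => by
      haveI : Algebra.Smooth L (L ⊗[k] Γ(W.left, V)) := inferInstance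
      haveI : Smooth (Spec.map (CommRingCat.ofHom (algebraMap L (L ⊗[k] Γ(W.left, V))))) :=
        (HasRingHomProperty.Spec_iff (P := @Smooth)).2 (RingHom.smooth_algebraMap.2 inferInstance)
      haveI := Groth.AlgGrp1.isReduced_of_smooth
        (Spec.map (CommRingCat.ofHom (algebraMap L (L ⊗[k] Γ(W.left, V)))))
      exact (affine_isReduced_iff (CommRingCat.of (L ⊗[k] Γ(W.left, V)))).1 this)
  obtain ⟨s, hsgen⟩ := Algebra.FiniteType.out (R := k) (A := Γ(W.left, V))
  let T : Set (SeparableClosure k) := ψ '' (s : Set Γ(W.left, V))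
  haveI : Finite T := (s.finite_toSet.image ψ).to_subtype
  let M := FiniteGaloisIntermediateField.adjoin k T
  have hrange : ∀ a, ψ a ∈ M.toIntermediateField := by
    intro a
    have : a ∈ Algebra.adjoin k (s : Set Γ(W.left, V)) := hsgen ▸ Algebra.mem_top
    induction this using Algebra.adjoin_induction with
    | mem a ha => exact FiniteGaloisIntermediateField.subset_adjoin k T ⟨a, ha, rfl⟩
    | algebraMap r => rw [AlgHom.commutes]; exact M.toIntermediateField.algebraMap_mem r
    | add a b _ _ ha hb => rw [map_add]; exact add_mem ha hb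
    | mul a b _ _ ha hb => rw [map_mul]; exact mul_mem ha hb
  let ψ' : Γ(W.left, V) →+* M.toIntermediateField := ψ.toRingHom.codRestrict _ hrange
  let i := Spec.map (CommRingCat.ofHom (algebraMap k M.toIntermediateField))
  have hi : Spec.map (CommRingCat.ofHom ψ') ≫ j ≫ l.left = i := by
    rw [← hφ, ← Spec.map_comp]
    congr 1
    ext r
    exact congrArg Subtype.val (ψ.commutes r)
  let w₀ : (Over.mk (i ≫ sk) : Over S) ⟶ W :=
    Over.homMk (Spec.map (CommRingCat.ofHom ψ') ≫ j) (by
      show (Spec.map _ ≫ j) ≫ W.hom = i ≫ sk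
      rw [← Over.w l, ← hi]
      simp)
  refine ⟨M.toIntermediateField, M.finiteDimensional, M.isGalois, Over.homMk i rfl,
    (AlgSp.yon S).map w₀ ≫ w, rfl, ?_⟩
  rw [Category.assoc, ← hl, ← Functor.map_comp]
  congr 1
  exact Over.OverMorphism.ext hi

/-- Points of smooth spaces over a henselian local ring in a quotient field lift. -/
theorem exists_lift_of_field_point {A : Type u} [CommRing A] [HenselianLocalRing A]
    (strA : Spec (CommRingCat.of A) ⟶ S) {K : Type u} [Field K] (π : A →+* K)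
    (hπ : Function.Surjective π) {F : AlgSp.Sp S} (hF : AlgSp.IsAlgSpace F)
    (f : F ⟶ (AlgSp.yon S).obj (Over.mk strA)) (hf : AlgSp.LocP @Smooth f)
    (τ : (AlgSp.yon S).obj (Over.mk (Spec.map (CommRingCat.ofHom π) ≫ strA)) ⟶ F)
    (hτ : τ ≫ f = (AlgSp.yon S).map (Over.homMk (Spec.map (CommRingCat.ofHom π)) rfl)) :
    ∃ s : (AlgSp.yon S).obj (Over.mk strA) ⟶ F, s ≫ f = 𝟙 _ := by
  let I : Ideal A := RingHom.ker π
  let θ : A ⧸ I ≃+* K := RingHom.quotientKerEquivOfSurjective hπ
  have hθ : Spec.map (CommRingCat.ofHom θ.symm.toRingHom) ≫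
      Spec.map (CommRingCat.ofHom π) = Spec.map (CommRingCat.ofHom (Ideal.Quotient.mk I)) := by
    rw [← Spec.map_comp]
    congr 1
    refine CommRingCat.hom_ext (RingHom.ext fun z => ?_)
    show θ.symm (π z) = Ideal.Quotient.mk I z
    rw [RingEquiv.symm_apply_eq]
    rfl
  let p₁ : (Over.mk (Spec.map (CommRingCat.ofHom (Ideal.Quotient.mk I)) ≫ strA) : Over S) ⟶
      Over.mk (Spec.map (CommRingCat.ofHom π) ≫ strA) :=
    Over.homMk (Spec.map (CommRingCat.ofHom θ.symm.toRingHom)) (by
      show Spec.map _ ≫ Spec.map _ ≫ strA = Spec.map _ ≫ strA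
      rw [reassoc_of% hθ])
  obtain ⟨s, hs, -⟩ := exists_section_lift strA hF f hf (RingHom.ker_ne_top π)
    (Spec.map (CommRingCat.ofHom (Ideal.Quotient.mk I)) ≫ strA)
    (Over.homMk (Spec.map (CommRingCat.ofHom (Ideal.Quotient.mk I))) rfl) rfl
    ((AlgSp.yon S).map p₁ ≫ τ) (by
      rw [Category.assoc, hτ, ← Functor.map_comp]
      congr 1
      exact Over.OverMorphism.ext hθ)
  exact ⟨s, hs⟩

variable {𝒵 : AlgSt.Cat S} {U : Over S} {u' : FibCat.overCat U ⥤ᵇ 𝒵}

/-- A section of the restriction of scalars over a quotient of a henselian local ring, from a point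
over the Galois residue extension. -/
theorem exists_res_section {R : Type u} [CommRing R] [HenselianLocalRing R]
    (str : Spec (CommRingCat.of R) ⟶ S) {K : Type u} [Field K] [Algebra (ResidueField R) K]
    [FiniteDimensional (ResidueField R) K] [IsGalois (ResidueField R) K] (D : GaloisLiftData R K)
    {B : EtBase S} (C : GaloisChart B D.Γ)
    (bG : (Over.mk (Spec.map (CommRingCat.ofHom (algebraMap R D.ring)) ≫ str) : Over S) ⟶ C.E)
    (hbG : ∀ (γ : D.Γ) (α : (Over.mk (Spec.map (CommRingCat.ofHom (algebraMap R D.ring)) ≫ str) : Over S) ⟶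
          Over.mk (Spec.map (CommRingCat.ofHom (algebraMap R D.ring)) ≫ str)),
        α.left = Spec.map (CommRingCat.ofHom (MulSemiringAction.toRingHom D.Γ D.ring γ)) →
          α ≫ bG = bG ≫ C.a γ)
    (a : Ideal R) (ha : a ≠ ⊤) (t : Spec (CommRingCat.of (R ⧸ a)) ⟶ S)
    (ht : t = Spec.map (CommRingCat.ofHom (Ideal.Quotient.mk a)) ≫ str)
    {F : AlgSp.Sp S} (hF : AlgSp.IsAlgSpace F) (f : F ⟶ (AlgSp.yon S).obj (Over.mk t))
    (hf : AlgSp.LocP @Smooth f)
    (cK : (Over.mk (Spec.map (CommRingCat.ofHom (algebraMap (ResidueField R) K)) ≫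
        Spec.map (CommRingCat.ofHom (residue R)) ≫ str) : Over S) ⟶ Over.mk t)
    (hcK : cK.left = Spec.map (CommRingCat.ofHom (algebraMap (ResidueField R) K)) ≫
      Spec.map (CommRingCat.ofHom (toResidue ha)))
    (τK : (AlgSp.yon S).obj (Over.mk (Spec.map (CommRingCat.ofHom (algebraMap (ResidueField R) K)) ≫
        Spec.map (CommRingCat.ofHom (residue R)) ≫ str)) ⟶ F)
    (hτK : τK ≫ f = (AlgSp.yon S).map cK) :
    ∃ g : (AlgSp.yon S).obj (Over.mk t) ⟶ res B f, g ≫ resT B f = 𝟙 _ := by
  classical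
  let k := ResidueField R
  let R' := D.ring
  let Γ := D.Γ
  let A := R ⧸ a
  let sK : Spec (CommRingCat.of K) ⟶ Spec (CommRingCat.of k) :=
    Spec.map (CommRingCat.ofHom (algebraMap k K))
  haveI : Nontrivial A := Ideal.Quotient.nontrivial_iff.2 ha
  haveI : IsLocalRing A :=
    IsLocalRing.of_surjective' (Ideal.Quotient.mk a) Ideal.Quotient.mk_surjective
  haveI : HenselianRing A (maximalIdeal A) := by
    have hs := Ideal.Quotient.mk_surjective (I := a)
    have hcm := eq_maximalIdeal
      (Ideal.comap_isMaximal_of_surjective _ hs (K := maximalIdeal A))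
    rw [← Ideal.map_comap_of_surjective _ hs (maximalIdeal A), hcm]
    exact Groth.Hensel1.henselianRing_quotient a
  haveI : HenselianLocalRing A := Groth.Hensel1.henselianLocalRing_of_henselianRing
  letI : Algebra R K := ((algebraMap k K).comp (residue R)).toAlgebra
  let ρA : A →ₐ[R] K :=
    { (algebraMap k K).comp (toResidue ha) with commutes' := fun _ => rfl }
  let πR : R' →ₐ[R] K := { D.toField with commutes' := D.toField_algebraMap }
  let A' := A ⊗[R] R'
  let πA : A' →ₐ[R] K := Algebra.TensorProduct.lift ρA πR fun _ _ => Commute.all _ _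
  have hπA : Function.Surjective πA := fun y => by
    obtain ⟨r, rfl⟩ := D.surjective y
    refine ⟨(1 : A) ⊗ₜ r, (Algebra.TensorProduct.lift_tmul _ _ _ _ _).trans ?_⟩
    rw [map_one, one_mul]
    rfl
  let inR : R' →+* A' :=
    (Algebra.TensorProduct.includeRight (R := R) (A := A) (B := R')).toRingHom
  haveI : Nontrivial A' := πA.toRingHom.domain_nontrivial
  haveI : IsLocalRing A' := IsLocalRing.of_surjective' inR (by
      intro z
      induction z using TensorProduct.induction_on with
      | zero => exact ⟨0, map_zero _⟩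
      | tmul s r =>
        obtain ⟨s, rfl⟩ := Ideal.Quotient.mk_surjective s
        refine ⟨s • r, ?_⟩
        show (1 : A) ⊗ₜ[R] (s • r) = Ideal.Quotient.mk a s ⊗ₜ r
        rw [tmul_smul, smul_tmul', Algebra.smul_def, mul_one]
        rfl
      | add y z hy hz =>
        obtain ⟨y', rfl⟩ := hy
        obtain ⟨z', rfl⟩ := hz
        exact ⟨y' + z', map_add _ _ _⟩)
  haveI : HenselianLocalRing A' := Groth.Hensel1.henselianLocalRing_of_finite A A'
  letI := bcAction (R := R) (R' := R') (Γ := Γ) (A := A)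
  haveI : SMulCommClass Γ A A' := bcAction_smulComm
  haveI : Module.FaithfullyFlat R R' := inferInstance
  have hGA : IsGaloisExt A A' Γ := D.isGalois.baseChange
  let iA : Spec (CommRingCat.of A') ⟶ Spec (CommRingCat.of A) :=
    Spec.map (CommRingCat.ofHom (algebraMap A A'))
  let TA : Over S := Over.mk (iA ≫ t)
  let qA : TA ⟶ Over.mk t := Over.homMk iA rfl
  let eA (γ : Γ) : TA ⟶ TA :=
    Over.homMk (Spec.map (CommRingCat.ofHom (MulSemiringAction.toRingHom Γ A' γ))) (by
      show Spec.map _ ≫ iA ≫ t = iA ≫ t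
      rw [← Spec.map_comp_assoc]
      congr 2
      refine CommRingCat.hom_ext (RingHom.ext fun s => ?_)
      show γ • algebraMap A A' (s : A) = algebraMap A A' (s : A)
      exact smul_algebraMap γ (s : A))
  have heA : ∀ γ, eA γ ≫ qA = qA := fun γ => by
    apply Over.OverMorphism.ext
    show Spec.map _ ≫ iA = iA
    rw [← Spec.map_comp]
    congr 1
    refine CommRingCat.hom_ext (RingHom.ext fun s => ?_)
    show γ • algebraMap A A' (s : A) = algebraMap A A' (s : A)
    exact smul_algebraMap γ (s : A)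
  have heAm : ∀ γ δ, eA δ ≫ eA γ = eA (δ * γ) := fun γ δ => by
    apply Over.OverMorphism.ext
    show Spec.map _ ≫ Spec.map _ = Spec.map _
    rw [← Spec.map_comp]
    congr 1
    refine CommRingCat.hom_ext (RingHom.ext fun s => ?_)
    exact (mul_smul δ γ s).symm
  -- the equivariant point of the chart
  have hinR : Spec.map (CommRingCat.ofHom inR) ≫
      Spec.map (CommRingCat.ofHom (algebraMap R R')) =
        iA ≫ Spec.map (CommRingCat.ofHom (Ideal.Quotient.mk a)) := by
    rw [← Spec.map_comp, ← Spec.map_comp]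
    congr 1
    refine CommRingCat.hom_ext (RingHom.ext fun r => ?_)
    show (1 : A) ⊗ₜ[R] algebraMap R R' r = algebraMap A A' (Ideal.Quotient.mk a r)
    rw [Algebra.algebraMap_eq_smul_one, tmul_smul, smul_tmul', Algebra.smul_def, mul_one]
    rfl
  let bA : TA ⟶ Over.mk (Spec.map (CommRingCat.ofHom (algebraMap R R')) ≫ str) :=
    Over.homMk (Spec.map (CommRingCat.ofHom inR)) (by
      show Spec.map _ ≫ Spec.map _ ≫ str = iA ≫ t
      rw [reassoc_of% hinR, ht])
  let αR (γ : Γ) : (Over.mk (Spec.map (CommRingCat.ofHom (algebraMap R R')) ≫ str) : Over S) ⟶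
      Over.mk (Spec.map (CommRingCat.ofHom (algebraMap R R')) ≫ str) :=
    Over.homMk (Spec.map (CommRingCat.ofHom (MulSemiringAction.toRingHom Γ R' γ))) (by
      show Spec.map _ ≫ Spec.map _ ≫ str = Spec.map _ ≫ str
      rw [← Spec.map_comp_assoc]
      congr 2
      refine CommRingCat.hom_ext (RingHom.ext fun r => ?_)
      exact smul_algebraMap γ r)
  have hbA : ∀ γ, eA γ ≫ bA = bA ≫ αR γ := fun γ => by
    apply Over.OverMorphism.ext
    show Spec.map _ ≫ Spec.map _ = Spec.map _ ≫ Spec.map _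
    rw [← Spec.map_comp, ← Spec.map_comp]
    congr 1
  let b : TA ⟶ C.E := bA ≫ bG
  have hb : ∀ γ, eA γ ≫ b = b ≫ C.a γ := fun γ => by
    rw [← Category.assoc, hbA, Category.assoc, hbG γ (αR γ) rfl, Category.assoc]
  -- lift the point over `K`
  let πA' : A' →+* K := πA.toRingHom
  have hres : Spec.map (CommRingCat.ofHom (toResidue ha)) ≫
      Spec.map (CommRingCat.ofHom (Ideal.Quotient.mk a)) =
        Spec.map (CommRingCat.ofHom (residue R)) := by
    rw [← Spec.map_comp]; rfl
  have hπi : Spec.map (CommRingCat.ofHom πA') ≫ iA =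
      sK ≫ Spec.map (CommRingCat.ofHom (toResidue ha)) := by
    rw [← Spec.map_comp, ← Spec.map_comp]
    congr 1
    refine CommRingCat.hom_ext (RingHom.ext fun s => ?_)
    show πA (algebraMap A A' s) = algebraMap k K (toResidue ha s)
    refine Eq.trans (Algebra.TensorProduct.lift_tmul ρA πR _ s (1 : R')) ?_
    rw [map_one, mul_one]
    rfl
  let TK' : Over S := Over.mk (Spec.map (CommRingCat.ofHom πA') ≫ iA ≫ t)
  let p₁ : TK' ⟶ Over.mk (sK ≫ Spec.map (CommRingCat.ofHom (residue R)) ≫ str) :=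
    Over.homMk (𝟙 _) (by
      show 𝟙 _ ≫ sK ≫ Spec.map _ ≫ str = Spec.map (CommRingCat.ofHom πA') ≫ iA ≫ t
      rw [Category.id_comp, reassoc_of% hπi, ht, reassoc_of% hres])
  let qK : TK' ⟶ TA := Over.homMk (Spec.map (CommRingCat.ofHom πA')) rfl
  have hp₁ : p₁ ≫ cK = qK ≫ qA := by
    apply Over.OverMorphism.ext
    show 𝟙 _ ≫ cK.left = Spec.map _ ≫ iA
    rw [Category.id_comp, hcK, hπi]
  have sqF := IsPullback.of_hasPullback f ((AlgSp.yon S).map qA)
  have hF' : AlgSp.IsAlgSpace (pullback f ((AlgSp.yon S).map qA)) :=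
    Groth.AlgSpBasic.isAlgSpace_of_isPullback sqF (AlgSp.IsAlgSpace.yon_obj _).diag hF
      (AlgSp.IsAlgSpace.yon_obj _)
  obtain ⟨s, hs⟩ := exists_lift_of_field_point (iA ≫ t) πA' hπA hF' (pullback.snd _ _)
    (Groth.AlgSpBasic.locP_of_isPullback hF (AlgSp.IsAlgSpace.yon_obj _)
      (AlgSp.IsAlgSpace.yon_obj _) sqF hf)
    (pullback.lift ((AlgSp.yon S).map p₁ ≫ τK) ((AlgSp.yon S).map qK) (by
      rw [Category.assoc, hτK, ← Functor.map_comp, ← Functor.map_comp, hp₁]))
    (pullback.lift_snd _ _ _)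
  let y₁ : (AlgSp.yon S).obj TA ⟶ F := s ≫ pullback.fst _ _
  have hy₁ : y₁ ≫ f = (AlgSp.yon S).map qA := by
    rw [Category.assoc, pullback.condition, ← Category.assoc, hs, Category.id_comp]
  -- the section over `A'`
  obtain ⟨η, hq, hηt, hηx⟩ := exists_sec C b qA (fun γ => (AlgSp.yon S).map (eA γ) ≫ y₁) fun γ => by
    rw [Category.assoc, hy₁, ← Functor.map_comp, heA]
  haveI : Module.FinitePresentation A A' := Module.finitePresentation_of_projective A A'
  obtain ⟨g, hg⟩ := exists_desc_of_invariant hGA t qA rfl (resPt η) fun δ e he => by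
    have he' : e = eA δ := Over.OverMorphism.ext he
    subst he'
    apply resSec_injective
    rw [resSec_map, resSec_resPt]
    have hq' : (η.restrict (eA δ)).q = b ≫ C.e ≫ C.j := by
      show eA δ ≫ η.q = _
      rw [hq, reassoc_of% (hb δ), reassoc_of% (C.comp δ)]
    refine chart_ext C b hq' hq ?_ fun γ => ?_
    · show eA δ ≫ η.t = η.t
      rw [hηt, heA]
    · have h₁ : eA δ ≫ b ≫ C.a (δ⁻¹ * γ) ≫ C.k = b ≫ C.a γ ≫ C.k := by
        rw [reassoc_of% (hb δ), reassoc_of% (C.mul (δ⁻¹ * γ) δ), mul_inv_cancel_left]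
      have h₂ := congrArg ((AlgSp.yon S).map (eA δ) ≫ ·) (hηx (δ⁻¹ * γ))
      simp only [chartVal] at h₂
      rw [η.nat] at h₂
      have h₃ : (AlgSp.yon S).map (eA δ) ≫ (AlgSp.yon S).map (eA (δ⁻¹ * γ)) ≫ y₁ =
          (AlgSp.yon S).map (eA γ) ≫ y₁ := by
        rw [← Category.assoc, ← Functor.map_comp, heAm, mul_inv_cancel_left]
      rw [hηx γ, ← h₂.trans h₃]
      exact η.x_congr ((Category.id_comp _).trans (Category.comp_id _).symm) h₁.symm _ _
  refine ⟨g, ?_⟩
  haveI : Flat qA.left := Flat.SpecMap_iff.2 (RingHom.flat_algebraMap_iff.2 inferInstance)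
  haveI : Module.FaithfullyFlat A A' := inferInstance
  haveI : Surjective qA.left := ⟨PrimeSpectrum.comap_surjective_of_faithfullyFlat⟩
  haveI : LocallyOfFinitePresentation qA.left :=
    (HasRingHomProperty.Spec_iff (P := @LocallyOfFinitePresentation)).2
      (RingHom.finitePresentation_algebraMap.2 (inferInstance : Algebra.FinitePresentation A A'))
  refine eq_of_map_eq qA ?_
  rw [← Category.assoc, hg, comp_resT, resSec_resPt, hηt]
  exact (Category.comp_id _).symm

end Groth.HenselPoint
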