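import Groth.Agent.HenselPoint.StackTrip
import Groth.Agent.HenselPoint.ResAlg
import Groth.Agent.HenselPoint.JetStack
import Groth.Agent.AlgStBasic.Atlas
import Groth.Agent.AlgStBasic.Space

/-!
# Restriction of scalars of a chart of a stack along an étale base

The category of an object of `𝒵` with a map to `B.Q` and a lift to `U` over the pullback of `B.E`.
When `B` has Galois charts it is an algebraic space, smooth over `𝒵`.
-/

set_option autoImplicit false
set_option backward.isDefEq.respectTransparency false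
set_option backward.isDefEq.respectTransparency.types false

universe u

open CategoryTheory CategoryTheory.Limits AlgebraicGeometry Opposite

noncomputable section

namespace Groth.HenselPoint

open Groth.StkBase Groth.AlgStBasic Groth.AlgSpBasic

variable {S : Scheme.{u}} {𝒵 : AlgSt.Cat S} {U : Over S} (u' : FibCat.overCat U ⥤ᵇ 𝒵)
  (B : EtBase S)

/-- An object with a lift to `U` over the pullback of `B.E`. -/
structure QObj : Type (u + 1) where
  base : Over S
  pt : 𝒵.obj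
  hpt : 𝒵.p.obj pt = base
  q : base ⟶ B.Q
  v : ∀ ⦃V : Over S⦄ (i : V ⟶ base) (b : V ⟶ B.E), b ≫ B.e = i ≫ q → (V ⟶ U)
  φ : ∀ ⦃V : Over S⦄ (i : V ⟶ base) (b : V ⟶ B.E) (h : b ≫ B.e = i ≫ q),
    u'.obj (Over.mk (v i b h)) ⟶ pt
  φ_p : ∀ ⦃V : Over S⦄ (i : V ⟶ base) (b : V ⟶ B.E) (h : b ≫ B.e = i ≫ q),
    𝒵.p.map (φ i b h) = eqToHom (u'.w_obj (Over.mk (v i b h))) ≫ i ≫ eqToHom hpt.symm
  nat : ∀ ⦃V W : Over S⦄ (j : W ⟶ V) (i : V ⟶ base) (b : V ⟶ B.E) (h : b ≫ B.e = i ≫ q),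
    ∃ hv : j ≫ v i b h = v (j ≫ i) (j ≫ b) (by rw [Category.assoc, Category.assoc, h]),
      u'.map (ovHom j hv) ≫ φ i b h =
        φ (j ≫ i) (j ≫ b) (by rw [Category.assoc, Category.assoc, h])

/-- Two lifts agree. -/
def Agree {V : Over S} {v v' : V ⟶ U} {z : 𝒵.obj} (φ : u'.obj (Over.mk v) ⟶ z)
    (φ' : u'.obj (Over.mk v') ⟶ z) : Prop :=
  ∃ hv : 𝟙 V ≫ v' = v, u'.map (ovHom (𝟙 V) hv) ≫ φ' = φ

variable {u' B}

theorem map_ovHom_comp {V₁ V₂ V₃ : Over S} {v₁ : V₁ ⟶ U} {v₂ : V₂ ⟶ U} {v₃ : V₃ ⟶ U} {g : V₁ ⟶ V₂}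
    {g' : V₂ ⟶ V₃} {g'' : V₁ ⟶ V₃} {h₁ : g ≫ v₂ = v₁} {h₂ : g' ≫ v₃ = v₂} {z : 𝒵.obj}
    (h₃ : g'' ≫ v₃ = v₁) (x : u'.obj (Over.mk v₃) ⟶ z) (hg : g ≫ g' = g'') :
    u'.map (ovHom g h₁) ≫ u'.map (ovHom g' h₂) ≫ x = u'.map (ovHom g'' h₃) ≫ x := by
  rw [← Category.assoc, ← u'.toFunctor.map_comp]
  congr 2
  exact Over.OverMorphism.ext hg

theorem Agree.refl {V : Over S} {v : V ⟶ U} {z : 𝒵.obj} (φ : u'.obj (Over.mk v) ⟶ z) :
    Agree u' φ φ := by
  refine ⟨Category.id_comp _, ?_⟩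
  rw [show (ovHom (𝟙 V) (Category.id_comp v) : Over.mk v ⟶ Over.mk v) = 𝟙 _ from
    Over.OverMorphism.ext rfl, u'.toFunctor.map_id, Category.id_comp]

theorem Agree.trans {V : Over S} {v v' v'' : V ⟶ U} {z : 𝒵.obj} {φ : u'.obj (Over.mk v) ⟶ z}
    {φ' : u'.obj (Over.mk v') ⟶ z} {φ'' : u'.obj (Over.mk v'') ⟶ z} (h : Agree u' φ φ')
    (h' : Agree u' φ' φ'') : Agree u' φ φ'' := by
  obtain ⟨hv, e⟩ := h
  obtain ⟨hv', e'⟩ := h'
  refine ⟨by simp [← hv, ← hv'], ?_⟩
  rw [← e, ← e', ← Category.assoc, ← u'.toFunctor.map_comp]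
  congr 2

theorem Agree.of_eq {V : Over S} {v : V ⟶ U} {z : 𝒵.obj} {φ φ' : u'.obj (Over.mk v) ⟶ z}
    (h : φ = φ') : Agree u' φ φ' := h ▸ Agree.refl φ

theorem Agree.comp {V : Over S} {v v' : V ⟶ U} {z z' : 𝒵.obj} {φ : u'.obj (Over.mk v) ⟶ z}
    {φ' : u'.obj (Over.mk v') ⟶ z} (h : Agree u' φ φ') (f : z ⟶ z') :
    Agree u' (φ ≫ f) (φ' ≫ f) := by
  obtain ⟨hv, e⟩ := h
  exact ⟨hv, by rw [← Category.assoc, e]⟩

theorem QObj.congr (X : QObj u' B) {V : Over S} {i i' : V ⟶ X.base} {b b' : V ⟶ B.E}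
    (hi : i = i') (hb : b = b') (h : b ≫ B.e = i ≫ X.q) (h' : b' ≫ B.e = i' ≫ X.q) :
    Agree u' (X.φ i b h) (X.φ i' b' h') := by
  subst hi hb
  exact Agree.refl _

/-- A morphism of objects with lifts. -/
@[ext]
structure QHom (X Y : QObj u' B) where
  g : X.base ⟶ Y.base
  f : X.pt ⟶ Y.pt
  f_p : 𝒵.p.map f = eqToHom X.hpt ≫ g ≫ eqToHom Y.hpt.symm
  hq : g ≫ Y.q = X.q
  comm : ∀ ⦃V : Over S⦄ (i : V ⟶ X.base) (b : V ⟶ B.E) (h : b ≫ B.e = i ≫ X.q),
    Agree u' (X.φ i b h ≫ f) (Y.φ (i ≫ g) b (by rw [h, Category.assoc, hq]))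

instance : Category (QObj u' B) where
  Hom := QHom
  id X :=
    { g := 𝟙 _
      f := 𝟙 _
      f_p := by simp
      hq := Category.id_comp _
      comm := fun V i b h => (Agree.of_eq (Category.comp_id _)).trans
        (X.congr (Category.comp_id i).symm rfl _ _) }
  comp {X Y Z} m m' :=
    { g := m.g ≫ m'.g
      f := m.f ≫ m'.f
      f_p := by simp [m.f_p, m'.f_p]
      hq := by rw [Category.assoc, m'.hq, m.hq]
      comm := fun V i b h => (Agree.of_eq (Category.assoc _ _ _).symm).trans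
        ((((m.comm i b h).comp m'.f).trans (m'.comm _ _ _)).trans
          (Z.congr (Category.assoc _ _ _) rfl _ _)) }
  id_comp m := QHom.ext (Category.id_comp _) (Category.id_comp _)
  comp_id m := QHom.ext (Category.comp_id _) (Category.comp_id _)
  assoc m m' m'' := QHom.ext (Category.assoc _ _ _) (Category.assoc _ _ _)

variable (u' B)

/-- The structure functor. -/
def qForget : QObj u' B ⥤ Over S where
  obj X := X.base
  map m := m.g

/-- The category over `(Sch/S)` of objects with lifts. -/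
abbrev qCat : AlgSt.Cat S := BasedCategory.ofFunctor (qForget u' B)

/-- Forgetting the lift. -/
def qToStack : qCat u' B ⥤ᵇ 𝒵 where
  toFunctor :=
    { obj := fun X => X.pt
      map := fun m => m.f }
  w := CategoryTheory.Functor.ext (fun X => X.hpt) fun X Y m => m.f_p

variable {u' B}

theorem qHom_ext {X Y : (qCat u' B).obj} {m m' : X ⟶ Y} (hg : m.g = m'.g) (hf : m.f = m'.f) :
    m = m' := QHom.ext hg hf

theorem isFibGrpd_qCat (hZ : FibCat.IsFibGrpd 𝒵.p) : FibCat.IsFibGrpd (qCat u' B).p := by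
  refine isFibGrpd_mk (fun {X W} g => ?_) (fun {Z Y X} m m' g hg => ?_)
  · change QObj u' B at X
    change W ⟶ X.base at g
    let gz : W ⟶ 𝒵.p.obj X.pt := g ≫ eqToHom X.hpt.symm
    let pt := liftObj hZ gz
    let L : pt ⟶ X.pt := liftMap hZ gz
    have hL : 𝒵.p.map L = eqToHom (liftObj_p hZ gz) ≫ g ≫ eqToHom X.hpt.symm := liftMap_p hZ gz
    have hh : ∀ ⦃V : Over S⦄ (i : V ⟶ W) (b : V ⟶ B.E), b ≫ B.e = i ≫ g ≫ X.q →
        b ≫ B.e = (i ≫ g) ≫ X.q := fun V i b h => by rw [h, Category.assoc]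
    have hm : ∀ ⦃V : Over S⦄ (i : V ⟶ W) (b : V ⟶ B.E) (h : b ≫ B.e = i ≫ g ≫ X.q),
        (eqToHom (u'.w_obj (Over.mk (X.v (i ≫ g) b (hh i b h)))) ≫ i ≫
            eqToHom (liftObj_p hZ gz).symm) ≫ 𝒵.p.map L =
          𝒵.p.map (X.φ (i ≫ g) b (hh i b h)) := fun V i b h => by
      rw [X.φ_p, hL]
      simp
    let Y : QObj u' B :=
      { base := W
        pt := pt
        hpt := liftObj_p hZ gz
        q := g ≫ X.q
        v := fun V i b h => X.v (i ≫ g) b (hh i b h)
        φ := fun V i b h => factor hZ L _ _ (hm i b h)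
        φ_p := fun V i b h => factor_map hZ L _ _ (hm i b h)
        nat := fun V V' j i b h => by
          obtain ⟨hv, e⟩ := X.nat j (i ≫ g) b (hh i b h)
          obtain ⟨hv', e'⟩ := X.congr (Category.assoc j i g) (rfl : j ≫ b = j ≫ b)
            (by simp [h]) (by simp [h])
          rw [Category.id_comp] at hv'
          refine ⟨hv.trans hv', ?_⟩
          apply hom_eq_of_comp_eq hZ L
          · rw [Functor.map_comp, factor_map, factor_map, map_map]
            simp [overCat_map]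
          · refine (Category.assoc _ _ _).trans (Eq.trans ?_ (factor_comp _ _ _ _ _).symm)
            refine (congrArg (_ ≫ ·) (factor_comp _ _ _ _ _)).trans ?_
            refine Eq.trans ?_ e'
            refine Eq.trans ?_ (congrArg (_ ≫ ·) e)
            exact (map_ovHom_comp _ _ (Category.id_comp _)).symm }
    refine ⟨Y, { g := g, f := L, f_p := hL, hq := rfl, comm := fun V i b h => ?_ }, rfl,
      (Category.id_comp _).symm⟩
    show Agree u' (factor hZ L _ _ (hm i b h) ≫ L) _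
    rw [factor_comp]
    exact Agree.refl _
  · change QObj u' B at X Y Z
    change QHom Y X at m
    change QHom Z X at m'
    change Z.base ⟶ Y.base at g
    change g ≫ m.g = m'.g at hg
    have hf : (eqToHom Z.hpt ≫ g ≫ eqToHom Y.hpt.symm) ≫ 𝒵.p.map m.f = 𝒵.p.map m'.f := by
      rw [m.f_p, m'.f_p, ← hg]
      simp
    have hq : g ≫ Y.q = Z.q := by rw [← m.hq, ← m'.hq, ← Category.assoc, hg]
    refine ⟨⟨g, factor hZ m.f m'.f _ hf, factor_map hZ _ _ _ hf, hq, fun V i b h => ?_⟩,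
      ⟨rfl, qHom_ext hg (factor_comp hZ _ _ _ hf)⟩, ?_⟩
    · obtain ⟨h₁, e₁⟩ := m'.comm i b h
      obtain ⟨h₂, e₂⟩ := m.comm (i ≫ g) b (by rw [h, Category.assoc, hq])
      obtain ⟨h₃, e₃⟩ := X.congr (show (i ≫ g) ≫ m.g = i ≫ m'.g by rw [Category.assoc, hg])
        (rfl : b = b) (by rw [h, Category.assoc, Category.assoc, m.hq, hq])
        (by rw [h, Category.assoc, m'.hq])
      rw [Category.id_comp] at h₁ h₂ h₃
      refine ⟨by rw [Category.id_comp, ← h₁, h₃, h₂], ?_⟩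
      apply hom_eq_of_comp_eq hZ m.f
      · rw [Functor.map_comp, Functor.map_comp, factor_map, map_map, Y.φ_p, Z.φ_p]
        simp [overCat_map]
        exact congrArg (eqToHom _ ≫ ·) (Category.id_comp _)
      · refine Eq.trans ?_ ((Category.assoc _ _ _).trans
          (congrArg (Z.φ i b h ≫ ·) (factor_comp hZ _ _ _ hf))).symm
        refine Eq.trans ?_ e₁
        refine (Category.assoc _ _ _).trans ?_
        refine (congrArg (_ ≫ ·) (e₂.symm.trans (congrArg (_ ≫ ·) e₃.symm))).trans ?_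
        refine (congrArg (_ ≫ ·) (map_ovHom_comp (g'' := 𝟙 V) ?_ _ (Category.id_comp _))).trans
          (map_ovHom_comp _ _ (Category.id_comp _))
        rw [Category.id_comp]
        exact h₃.trans h₂
    · rintro ⟨g', f', f'_p, _, _⟩ ⟨rfl, he⟩
      refine qHom_ext rfl ?_
      apply hom_eq_of_comp_eq hZ m.f
      · show 𝒵.p.map f' = 𝒵.p.map (factor hZ m.f m'.f _ hf)
        rw [factor_map, f'_p]
        rfl
      · show f' ≫ m.f = factor hZ m.f m'.f _ hf ≫ m.f
        rw [factor_comp]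
        exact congrArg QHom.f he

theorem isFibSetoid_qCat (hst : Stk.IsStack (Groth.AlgSpBoot.Jet S) 𝒵) :
    FibCat.IsFibSetoid (qCat u' B).p := by
  refine ⟨isFibGrpd_qCat hst.1, fun W X Y' => ⟨fun m m' => Subtype.ext ?_⟩⟩
  obtain ⟨X, hX⟩ := X
  obtain ⟨Y', hY⟩ := Y'
  obtain ⟨m, hm⟩ := m
  obtain ⟨m', hm'⟩ := m'
  change QObj u' B at X Y'
  change QHom X Y' at m m'
  have e₁ := (isVert_of_isHomLift hm).map_eq
  have e₂ := (isVert_of_isHomLift hm').map_eq
  have hg : m.g = m'.g := e₁.trans e₂.symm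
  refine qHom_ext hg ?_
  have hv : ∀ (n : QHom X Y'), n.g = eqToHom (hX.trans hY.symm) → IsVert 𝒵.p n.f := fun n hn =>
    ⟨X.hpt.trans ((hX.trans hY.symm).trans Y'.hpt.symm), by
      rw [n.f_p, hn]
      simp⟩
  let P := pullback X.q B.e
  let pr : P ⟶ X.base := pullback.fst X.q B.e
  let pb : P ⟶ B.E := pullback.snd X.q B.e
  have hpr : pb ≫ B.e = pr ≫ X.q := pullback.condition.symm
  haveI := B.etale
  haveI := B.surjective
  haveI : Etale pr.left := MorphismProperty.of_isPullback (P := @Etale)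
    (isPullback_left (IsPullback.of_hasPullback X.q B.e)).flip inferInstance
  haveI : Surjective pr.left := MorphismProperty.of_isPullback (P := @Surjective)
    (isPullback_left (IsPullback.of_hasPullback X.q B.e)).flip inferInstance
  let R : Sieve (𝒵.p.obj X.pt) :=
    Sieve.generate (Presieve.singleton (pr ≫ eqToHom X.hpt.symm))
  have hR : R ∈ Groth.AlgSpBoot.Jet S (𝒵.p.obj X.pt) := by
    haveI : IsIso (eqToHom X.hpt.symm).left :=
      inferInstanceAs (IsIso ((Over.forget S).map (eqToHom X.hpt.symm)))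
    haveI : Etale (pr ≫ eqToHom X.hpt.symm).left :=
      inferInstanceAs (Etale (pr.left ≫ (eqToHom X.hpt.symm).left))
    haveI : Surjective (pr ≫ eqToHom X.hpt.symm).left :=
      inferInstanceAs (Surjective (pr.left ≫ (eqToHom X.hpt.symm).left))
    exact Groth.AlgSpBoot.mem_Jet_of_surjective (pr ≫ eqToHom X.hpt.symm)
      (Sieve.le_generate _ _ _ (Presieve.singleton.mk))
  refine vert_hom_ext_of_local hst.1 R ((IsStackFor.isPrestackFor (hst.2 R hR)).2) (hv m e₁)
    (hv m' e₂) fun a' l hl => ?_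
  obtain ⟨Z, j, _, ⟨⟩, hj⟩ := hl
  have hφ : (j ≫ eqToHom (u'.w_obj (Over.mk (X.v pr pb hpr))).symm) ≫
      𝒵.p.map (X.φ pr pb hpr) = 𝒵.p.map l := by
    rw [X.φ_p, ← hj]
    simp
  rw [← factor_comp hst.1 _ _ _ hφ, Category.assoc, Category.assoc]
  congr 1
  obtain ⟨h₁, e'⟩ := m.comm pr pb hpr
  obtain ⟨h₂, e''⟩ := m'.comm pr pb hpr
  obtain ⟨h₃, e₃⟩ := Y'.congr (show pr ≫ m.g = pr ≫ m'.g by rw [hg]) (rfl : pb = pb)
    (by rw [hpr, Category.assoc, m.hq]) (by rw [hpr, Category.assoc, m'.hq])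
  rw [← e', ← e'', ← e₃, ← Category.assoc, ← u'.toFunctor.map_comp]
  congr 2

/-! ### The base change -/

section BaseChange

variable {T : Over S} {y : FibCat.overCat T ⥤ᵇ 𝒵} (hZ : FibCat.IsFibGrpd 𝒵.p)
  (hsh : Presheaf.IsSheaf (AlgSp.J S) (tripPsh u' y hZ))

/-- The triple of a map to the sheaf of triples. -/
def tripOf {V : Over S} (g : (AlgSp.yon S).obj V ⟶ tripSp u' y hZ hsh) : Trip u' y V :=
  yEquiv (U := V) (F := tripSp u' y hZ hsh) g

/-- The map to the sheaf of triples of a triple. -/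
def tripPt {V : Over S} (τ : Trip u' y V) : (AlgSp.yon S).obj V ⟶ tripSp u' y hZ hsh :=
  (yEquiv (U := V) (F := tripSp u' y hZ hsh)).symm τ

theorem tripOf_tripPt {V : Over S} (τ : Trip u' y V) : tripOf hZ hsh (tripPt hZ hsh τ) = τ :=
  (yEquiv (U := V) (F := tripSp u' y hZ hsh)).apply_symm_apply τ

theorem tripOf_injective {V : Over S} {g g' : (AlgSp.yon S).obj V ⟶ tripSp u' y hZ hsh}
    (h : tripOf hZ hsh g = tripOf hZ hsh g') : g = g' :=
  (yEquiv (U := V) (F := tripSp u' y hZ hsh)).injective h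

theorem tripOf_map {V W : Over S} (j : W ⟶ V)
    (g : (AlgSp.yon S).obj V ⟶ tripSp u' y hZ hsh) :
    tripOf hZ hsh ((AlgSp.yon S).map j ≫ g) = (tripOf hZ hsh g).restrict hZ j := by
  have e := GrothendieckTopology.uliftYonedaEquiv_naturality (AlgSp.J S) g j
  show yEquiv (F := tripSp u' y hZ hsh) ((AlgSp.yon S).map j ≫ g) =
    (tripSp u' y hZ hsh).obj.map j.op (yEquiv (F := tripSp u' y hZ hsh) g)
  exact e.symm

theorem comp_tripT {V : Over S} (g : (AlgSp.yon S).obj V ⟶ tripSp u' y hZ hsh) :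
    g ≫ tripT u' y hZ hsh = (AlgSp.yon S).map (tripOf hZ hsh g).t := by
  apply yEquiv.injective
  rw [yEquiv, GrothendieckTopology.uliftYonedaEquiv_comp]
  refine Eq.trans ?_
    ((GrothendieckTopology.uliftYonedaEquiv_uliftYoneda_map (AlgSp.J S) _).symm)
  rfl

variable {hZ hsh}

theorem ResSec.tripOf_t {V W : Over S} (η : ResSec B (tripT u' y hZ hsh) W) (i : V ⟶ W)
    (b : V ⟶ B.E) (h : b ≫ B.e = i ≫ η.q) : i ≫ η.t = (tripOf hZ hsh (η.x i b h)).t := by
  apply (AlgSp.yon S).map_injective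
  rw [← comp_tripT, η.x_comp]

/-- The object of a section. -/
def qObjOf {W : Over S} (η : ResSec B (tripT u' y hZ hsh) W) : QObj u' B where
  base := W
  pt := y.obj (Over.mk η.t)
  hpt := y.w_obj (Over.mk η.t)
  q := η.q
  v _ i b h := (tripOf hZ hsh (η.x i b h)).v
  φ _ i b h := (tripOf hZ hsh (η.x i b h)).ι ≫ y.map (ovHom i (η.tripOf_t i b h))
  φ_p _ i b h := by
    rw [Functor.map_comp, (tripOf hZ hsh (η.x i b h)).vert.map_eq, map_map]
    simp [overCat_map]
  nat V V' j i b h := by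
    have e : tripOf hZ hsh (η.x (j ≫ i) (j ≫ b) (by rw [Category.assoc, Category.assoc, h])) =
        (tripOf hZ hsh (η.x i b h)).restrict hZ j := by
      rw [← tripOf_map, η.nat]
    have key : ∀ (τ : Trip u' y V') (_ : τ = (tripOf hZ hsh (η.x i b h)).restrict hZ j)
        (ht : (j ≫ i) ≫ η.t = τ.t),
        ∃ hv : j ≫ (tripOf hZ hsh (η.x i b h)).v = τ.v,
          u'.map (ovHom j hv) ≫ (tripOf hZ hsh (η.x i b h)).ι ≫
              y.map (ovHom i (η.tripOf_t i b h)) =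
            τ.ι ≫ y.map (ovHom (j ≫ i) ht) := by
      rintro _ rfl ht
      refine ⟨Trip.restrict_v hZ _ j, ?_⟩
      rw [← Category.assoc, ← Trip.restrict_ι hZ (tripOf hZ hsh (η.x i b h)) j, Category.assoc,
        ← y.toFunctor.map_comp]
      congr 2
    exact key _ e (η.tripOf_t (j ≫ i) (j ≫ b) (by rw [Category.assoc, Category.assoc, h]))

theorem qObjOf_hom {a b : (Stk.ofPsh (res B (tripT u' y hZ hsh)).obj).obj} (g : a ⟶ b) :
    ∃ (ht : g.hom ≫ (b.sec : ResSec B (tripT u' y hZ hsh) b.base).t =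
          (a.sec : ResSec B (tripT u' y hZ hsh) a.base).t)
      (m : qObjOf (a.sec : ResSec B (tripT u' y hZ hsh) a.base) ⟶
        qObjOf (b.sec : ResSec B (tripT u' y hZ hsh) b.base)),
      m.g = g.hom ∧ m.f = y.map (ovHom g.hom ht) := by
  have key : ∀ {A A' : Over S} (g : A ⟶ A') (η' : ResSec B (tripT u' y hZ hsh) A')
      (η : ResSec B (tripT u' y hZ hsh) A), η'.restrict g = η →
      ∃ (ht : g ≫ η'.t = η.t) (m : qObjOf η ⟶ qObjOf η'),
        m.g = g ∧ m.f = y.map (ovHom g ht) := by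
    rintro A A' g η' _ rfl
    refine ⟨rfl, ⟨g, y.map (ovHom g rfl), ?_, rfl, fun V i c h => ?_⟩, rfl, rfl⟩
    · rw [map_map, overCat_map]
      rfl
    · refine ⟨Category.id_comp _, ?_⟩
      rw [show (ovHom (𝟙 V) (Category.id_comp _) :
          Over.mk ((qObjOf (η'.restrict g)).v i c h) ⟶ _) = 𝟙 _ from Over.OverMorphism.ext rfl,
        u'.toFunctor.map_id, Category.id_comp]
      show (tripOf hZ hsh (η'.x (i ≫ g) c _)).ι ≫ y.map _ =
        ((tripOf hZ hsh (η'.x (i ≫ g) c _)).ι ≫ y.map _) ≫ y.map (ovHom g rfl)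
      refine Eq.trans ?_ (Category.assoc _ _ _).symm
      refine congrArg (_ ≫ ·) ?_
      refine Eq.trans ?_ (y.toFunctor.map_comp _ _)
      congr 1
  exact key g.hom b.sec a.sec g.map_sec

variable (u' B y hZ hsh)

/-- The functor from the restriction of scalars to the base change. -/
def resToFp : Stk.ofPsh (res B (tripT u' y hZ hsh)).obj ⥤ᵇ FibCat.fp y (qToStack u' B) where
  toFunctor :=
    { obj := fun a =>
        fpMk (G := qToStack u' B) (Over.mk (a.sec : ResSec B (tripT u' y hZ hsh) a.base).t)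
          (qObjOf (a.sec : ResSec B (tripT u' y hZ hsh) a.base)) (Iso.refl _) (isVert_id _)
      map := fun {a b} g =>
        fpHom (ovHom g.hom (qObjOf_hom g).choose) (qObjOf_hom g).choose_spec.choose (by
          show y.map _ ≫ 𝟙 _ = 𝟙 _ ≫ (qObjOf_hom g).choose_spec.choose.f
          rw [(qObjOf_hom g).choose_spec.choose_spec.2]
          exact (Category.comp_id _).trans (Category.id_comp _).symm)
      map_id := fun a => fp_hom_ext (Over.OverMorphism.ext rfl)
        (qHom_ext (qObjOf_hom (𝟙 a)).choose_spec.choose_spec.1 (by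
          refine (qObjOf_hom (𝟙 a)).choose_spec.choose_spec.2.trans ?_
          show y.map _ = 𝟙 _
          refine (congrArg y.map (?_ : _ = 𝟙 _)).trans (y.toFunctor.map_id _)
          exact Over.OverMorphism.ext rfl))
      map_comp := fun {a b c} g g' => fp_hom_ext (Over.OverMorphism.ext rfl) (qHom_ext
        ((qObjOf_hom (g ≫ g')).choose_spec.choose_spec.1.trans (by
          show g.hom ≫ g'.hom = (qObjOf_hom g).choose_spec.choose.g ≫ (qObjOf_hom g').choose_spec.choose.g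
          rw [(qObjOf_hom g).choose_spec.choose_spec.1, (qObjOf_hom g').choose_spec.choose_spec.1]))
        (by
          show (qObjOf_hom (g ≫ g')).choose_spec.choose.f =
            (qObjOf_hom g).choose_spec.choose.f ≫ (qObjOf_hom g').choose_spec.choose.f
          rw [(qObjOf_hom (g ≫ g')).choose_spec.choose_spec.2, (qObjOf_hom g).choose_spec.choose_spec.2,
            (qObjOf_hom g').choose_spec.choose_spec.2, ← y.toFunctor.map_comp]
          congr 1)) }
  w := rfl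

theorem isEquivOver_resToFp : FibCat.IsEquivOver (resToFp u' B y hZ hsh) := by
  refine isEquivOver_of_fullyFaithful _ ⟨fun {a b} m => ?_⟩
    ⟨fun {a b} g g' h => Stk.EltObj.hom_ext
      (congrArg CommaMorphism.left (congrArg (fun m => m.hom.fst) h))⟩ (fun x => ?_)
  · obtain ⟨A, η⟩ := a
    obtain ⟨A', η'⟩ := b
    change ResSec B (tripT u' y hZ hsh) A at η
    change ResSec B (tripT u' y hZ hsh) A' at η'
    let g₁ : (Over.mk η.t : Over T) ⟶ Over.mk η'.t := m.hom.fst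
    let n : qObjOf η ⟶ qObjOf η' := m.hom.snd
    let g : A ⟶ A' := g₁.left
    have hng : n.g = g := by
      have e := fp_map_snd m
      exact e.trans ((Category.id_comp _).trans (Category.comp_id _))
    have w : y.map g₁ ≫ 𝟙 _ = 𝟙 _ ≫ n.f := m.hom.w
    rw [Category.comp_id, Category.id_comp] at w
    have hq : g ≫ η'.q = η.q := by rw [← hng]; exact n.hq
    have ht : g ≫ η'.t = η.t := Over.w g₁
    have hg : η'.restrict g = η := by
      refine ResSec.ext hq ht fun V i b h h' => ?_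
      show η'.x (i ≫ g) b _ = η.x i b h'
      refine tripOf_injective hZ hsh ?_
      have hb : b ≫ B.e = (i ≫ g) ≫ η'.q := by rw [Category.assoc, hq]; exact h'
      obtain ⟨hv, e⟩ := (n.comm i b h').trans
        ((qObjOf η').congr (show i ≫ n.g = i ≫ g by rw [hng]) (rfl : b = b) _ hb)
      refine (Trip.ext ?_ ?_ ?_).symm
      · rw [← η.tripOf_t, ← η'.tripOf_t, Category.assoc, ht]
      · exact hv.symm.trans (Category.id_comp _)
      · change u'.map (ovHom (𝟙 V) hv) ≫ (tripOf hZ hsh (η'.x (i ≫ g) b hb)).ι ≫ y.map _ =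
          ((tripOf hZ hsh (η.x i b h')).ι ≫ y.map _) ≫ n.f at e
        rw [← w, Category.assoc, ← y.toFunctor.map_comp] at e
        apply hom_eq_of_comp_eq hZ (y.map (ovHom (i ≫ g) (η'.tripOf_t (i ≫ g) b hb)))
        · simp [map_map, overCat_map, (tripOf hZ hsh _).vert.map_eq]
        · rw [Category.assoc, e, Category.assoc, ← y.toFunctor.map_comp]
          congr 2
    refine ⟨eltHom g hg, ?_⟩
    refine fp_hom_ext (Over.OverMorphism.ext rfl) (qHom_ext ?_ ?_)
    · exact (qObjOf_hom _).choose_spec.choose_spec.1.trans hng.symm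
    · exact (qObjOf_hom _).choose_spec.choose_spec.2.trans
        ((congrArg y.map (Over.OverMorphism.ext rfl)).trans w)
  · have hs : x.obj.snd.base = x.obj.fst.left := fp_p_snd x
    obtain ⟨⟨w, Qo, ι₀⟩, hx⟩ := x
    have hι : IsVert 𝒵.p ι₀.hom := isVert_of_isHomLift hx
    obtain ⟨base, pt, hpt, q, v, φ, φ_p, nat⟩ := Qo
    dsimp at hs
    subst hs
    change y.obj w ≅ pt at ι₀
    let j : (Over.mk w.hom : Over T) ≅ w := Over.isoMk (Iso.refl _) (Category.id_comp _)
    let ι₁ : y.obj (Over.mk w.hom) ≅ pt := y.toFunctor.mapIso j ≪≫ ι₀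
    have hι₁ : IsVert 𝒵.p ι₁.hom := (isVert_map (F := y) (φ := j.hom) ⟨rfl, rfl⟩).comp hι
    have hm : ∀ ⦃V : Over S⦄ (i : V ⟶ w.left) (b : V ⟶ B.E) (h : b ≫ B.e = i ≫ q),
        eqToHom ((u'.w_obj (Over.mk (v i b h))).trans (y.w_obj (Over.mk (i ≫ w.hom))).symm) ≫
            𝒵.p.map (y.map (ovHom i rfl : Over.mk (i ≫ w.hom) ⟶ Over.mk w.hom)) =
          𝒵.p.map (φ i b h ≫ ι₁.inv) := fun V i b h => by
      rw [map_map, Functor.map_comp, φ_p, (IsVert.inv hι₁).map_eq]
      simp [overCat_map]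
    let τ : ∀ ⦃V : Over S⦄ (i : V ⟶ w.left) (b : V ⟶ B.E) (_ : b ≫ B.e = i ≫ q),
        Trip u' y V := fun V i b h =>
      ⟨i ≫ w.hom, v i b h, factor hZ _ _ _ (hm i b h), ⟨_, factor_map hZ _ _ _ (hm i b h)⟩⟩
    let η : ResSec B (tripT u' y hZ hsh) w.left :=
      { q := q
        t := w.hom
        x := fun V i b h => tripPt hZ hsh (τ i b h)
        x_comp := fun V i b h => by rw [comp_tripT, tripOf_tripPt]
        nat := fun V V' l i b h => by
          refine tripOf_injective hZ hsh ?_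
          rw [tripOf_map, tripOf_tripPt, tripOf_tripPt]
          obtain ⟨hv, e⟩ := nat l i b h
          have h' : (l ≫ b) ≫ B.e = (l ≫ i) ≫ q := by rw [Category.assoc, Category.assoc, h]
          refine Trip.restrict_eq hZ _ _ _ (Category.assoc _ _ _).symm hv ?_
          apply hom_eq_of_comp_eq hZ (y.map (ovHom i rfl : Over.mk (i ≫ w.hom) ⟶ Over.mk w.hom))
          · simp [map_map, overCat_map, (τ i b h).vert.map_eq, (τ (l ≫ i) (l ≫ b) h').vert.map_eq]
          · refine (Category.assoc _ _ _).trans (Eq.trans ?_ (Category.assoc _ _ _).symm)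
            refine (congrArg (_ ≫ ·) (y.toFunctor.map_comp _ _).symm).trans ?_
            refine Eq.trans ?_ (congrArg (u'.map (ovHom l hv) ≫ ·)
              (factor_comp hZ _ _ _ (hm i b h)).symm)
            refine Eq.trans ?_ ((congrArg (· ≫ ι₁.inv) e).symm.trans (Category.assoc _ _ _))
            refine Eq.trans ?_ (factor_comp hZ _ _ _ (hm (l ≫ i) (l ≫ b) h'))
            congr 2 }
    let m : qObjOf η ⟶ (⟨w.left, pt, hpt, q, v, φ, φ_p, nat⟩ : QObj u' B) :=
      { g := 𝟙 _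
        f := ι₁.hom
        f_p := by rw [hι₁.map_eq]; simp
        hq := Category.id_comp _
        comm := fun V i b h => by
          have key : ∀ (τ' : Trip u' y V) (_ : τ' = τ i b h) (ht : i ≫ w.hom = τ'.t),
              Agree u' ((τ'.ι ≫ y.map (ovHom i ht)) ≫ ι₁.hom) (φ i b h) := by
            rintro _ rfl ht
            show Agree u' ((factor hZ _ _ _ (hm i b h) ≫ y.map (ovHom i rfl)) ≫ ι₁.hom) _
            rw [factor_comp, Category.assoc, Iso.inv_hom_id, Category.comp_id]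
            exact Agree.refl _
          exact (key _ (tripOf_tripPt hZ hsh _) _).trans
            ((⟨w.left, pt, hpt, q, v, φ, φ_p, nat⟩ : QObj u' B).congr
              (Category.comp_id i).symm rfl _ _) }
    have hmv : IsVert (qCat u' B).p m := ⟨rfl, rfl⟩
    haveI := hmv.isIso (isFibGrpd_qCat hZ)
    refine ⟨⟨w.left, η⟩, fpObjIso j (asIso m) ?_, ⟨rfl, rfl⟩⟩
    show y.map j.hom ≫ ι₀.hom = 𝟙 _ ≫ ι₁.hom
    rw [Category.id_comp]
    rfl

end BaseChange

/-! ### The space -/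

theorem repWith_qToStack {ι : Type u} {Γi : ι → Type u} [∀ i, Group (Γi i)] [∀ i, Fintype (Γi i)]
    (Ch : ∀ i, GaloisChart B (Γi i))
    (hcov : ∀ x : B.Q.left, ∃ i, x ∈ Set.range (Ch i).j.left.base)
    (hZ : FibCat.IsFibGrpd 𝒵.p) (hu : AlgSt.RepByAlgSpWith (AlgSp.LocP @Smooth) u') :
    AlgSt.RepByAlgSpWith (AlgSp.LocP @Smooth) (qToStack u' B) := by
  intro T y
  obtain ⟨hsh, hA⟩ := exists_trip u' y hZ (repWith_repByAlgSp1 hu)
  have hsm := prop_tripT u' y hZ hu hsh
  obtain ⟨hR, hRt⟩ := isAlgSpace_res Ch hcov hA hsm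
  refine ⟨⟨res B (tripT u' y hZ hsh), hR⟩, resToFp u' B y hZ hsh,
    isEquivOver_resToFp u' B y hZ hsh, ?_⟩
  have e : AlgSt.spMapOfOver (BasedFunctor.comp (resToFp u' B y hZ hsh)
      (FibCat.fpFst y (qToStack u' B))) = resT B (tripT u' y hZ hsh) := by
    apply ObjectProperty.hom_ext
    ext V η
    apply ULift.ext
    exact Category.id_comp _
  rw [e]
  exact hRt

/-- The space of lifts, smooth over the stack, receiving every point with a lift. -/
theorem exists_resSpace {ι : Type u} {Γi : ι → Type u} [∀ i, Group (Γi i)] [∀ i, Fintype (Γi i)]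
    (Ch : ∀ i, GaloisChart B (Γi i))
    (hcov : ∀ x : B.Q.left, ∃ i, x ∈ Set.range (Ch i).j.left.base)
    (hst : Stk.IsStack (Groth.AlgSpBoot.Jet S) 𝒵)
    (hat : AlgSt.HasAtlas (AlgSp.LocP @Smooth) 𝒵)
    (hu : AlgSt.RepByAlgSpWith (AlgSp.LocP @Smooth) u') :
    ∃ (X : AlgSp.Space S) (p : AlgSt.ofSp X.obj ⥤ᵇ 𝒵),
      AlgSt.RepByAlgSpWith (AlgSp.LocP @Smooth) p ∧
      ∀ (T : Over S) (y : FibCat.overCat T ⥤ᵇ 𝒵)
        (hsh : Presheaf.IsSheaf (AlgSp.J S) (tripPsh u' y hst.1))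
        (g : (AlgSp.yon S).obj T ⟶ res B (tripT u' y hst.1 hsh)),
        g ≫ resT B (tripT u' y hst.1 hsh) = 𝟙 _ →
          ∃ s : (AlgSp.yon S).obj T ⟶ X.obj, Nonempty (BasedFunctor.comp (AlgSt.ofOverCat T)
            (BasedFunctor.comp (AlgSt.ofSpMap s) p) ≅ y) := by
  have hπ := repWith_qToStack (u' := u') Ch hcov hst.1 hu
  have hfg := isFibGrpd_qCat (u' := u') (B := B) hst.1
  obtain ⟨X, e, he⟩ := repByAlgSp_of_setoid_etale_atlas (isFibSetoid_qCat (u' := u') (B := B) hst)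
    (isStackJet_of_repByAlgSp1 hfg hst _ (repWith_repByAlgSp1 hπ))
    (hasAtlas_of_repByAlgSp1 hfg hst.1 _ (repWith_repByAlgSp1 hπ) hat)
  refine ⟨X, BasedFunctor.comp e (qToStack u' B), (repWith_precomp_equiv he _).2 hπ,
    fun T y hsh g hg => ?_⟩
  obtain ⟨e', he', -, ⟨β⟩⟩ := isEquivOver_symm he
  let A : AlgSt.ofSch T ⥤ᵇ FibCat.fp y (qToStack u' B) :=
    BasedFunctor.comp (AlgSt.ofSpMap g) (resToFp u' B y hst.1 hsh)
  let Φ : AlgSt.ofSch T ⥤ᵇ AlgSt.ofSp X.obj :=
    BasedFunctor.comp (BasedFunctor.comp A (FibCat.fpSnd y (qToStack u' B))) e'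
  obtain ⟨α⟩ := nonempty_iso_mapOf Φ
  refine ⟨mapOf Φ, ⟨?_⟩⟩
  have h₁ : BasedFunctor.comp A (FibCat.fpFst y (qToStack u' B)) =
      BasedFunctor.comp (AlgSt.ofSpMap (g ≫ resT B (tripT u' y hst.1 hsh))) (AlgSt.toOverCat T) :=
    rfl
  rw [hg] at h₁
  refine (whiskerLeftIso (AlgSt.ofOverCat T)
    (whiskerRightIso α.symm (BasedFunctor.comp e (qToStack u' B)))).trans ?_
  refine (whiskerLeftIso (AlgSt.ofOverCat T) (whiskerLeftIso
    (BasedFunctor.comp A (FibCat.fpSnd y (qToStack u' B)))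
    (whiskerRightIso β (qToStack u' B)))).trans ?_
  refine (whiskerLeftIso (AlgSt.ofOverCat T)
    (whiskerLeftIso A (FibCat.fpIso y (qToStack u' B)).symm)).trans ?_
  show BasedFunctor.comp (AlgSt.ofOverCat T)
    (BasedFunctor.comp (BasedFunctor.comp A (FibCat.fpFst y (qToStack u' B))) y) ≅ y
  rw [h₁]
  exact Iso.refl _

end Groth.HenselPoint
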