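import Groth.Agent.AlgStBasic.SrcLocal
import Groth.Agent.AlgStBasic.SetoidSpace

/-!
# The sheaf of a base change of a chart of a stack

For `u : (Sch/U) ⟶ 𝒵` and `y : (Sch/T) ⟶ 𝒵` the presheaf of triples `(t, v, u v ≅ y t)`, which
represents the fibre product.
-/

set_option autoImplicit false
set_option backward.isDefEq.respectTransparency false
set_option backward.isDefEq.respectTransparency.types false

universe u

open CategoryTheory CategoryTheory.Limits AlgebraicGeometry Opposite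

noncomputable section

namespace Groth.HenselPoint

open Groth.StkBase Groth.AlgStBasic

variable {S : Scheme.{u}} {𝒵 : AlgSt.Cat S} {U T : Over S}

/-- A morphism between objects of a slice given by their structure maps. -/
abbrev ovHom {X A B : Over S} {a : A ⟶ X} {b : B ⟶ X} (g : A ⟶ B) (h : g ≫ b = a) :
    (Over.mk a : Over X) ⟶ Over.mk b :=
  Over.homMk g h

/-- A point of the fibre product of `u` and `y`: maps `t`, `v` and `u v ≅ y t`. -/
structure Trip (u' : FibCat.overCat U ⥤ᵇ 𝒵) (y : FibCat.overCat T ⥤ᵇ 𝒵) (V : Over S) :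
    Type (u + 1) where
  t : V ⟶ T
  v : V ⟶ U
  ι : u'.obj (Over.mk v) ⟶ y.obj (Over.mk t)
  vert : IsVert 𝒵.p ι

variable {u' : FibCat.overCat U ⥤ᵇ 𝒵} {y : FibCat.overCat T ⥤ᵇ 𝒵}

theorem Trip.ext {V : Over S} {τ τ' : Trip u' y V} (ht : τ.t = τ'.t) (hv : τ.v = τ'.v)
    (hι : u'.map (ovHom (𝟙 V) (by simp [hv]) : Over.mk τ.v ⟶ Over.mk τ'.v) ≫ τ'.ι =
      τ.ι ≫ y.map (ovHom (𝟙 V) (by simp [ht]) : Over.mk τ.t ⟶ Over.mk τ'.t)) : τ = τ' := by
  obtain ⟨t, v, ι, hι₁⟩ := τ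
  obtain ⟨t', v', ι', hι₂⟩ := τ'
  dsimp at ht hv
  subst ht hv
  have h1 : (ovHom (𝟙 V) (by simp) : Over.mk v ⟶ Over.mk v) = 𝟙 _ :=
    Over.OverMorphism.ext rfl
  have h2 : (ovHom (𝟙 V) (by simp) : Over.mk t ⟶ Over.mk t) = 𝟙 _ :=
    Over.OverMorphism.ext rfl
  rw [h1, h2, u'.toFunctor.map_id, y.toFunctor.map_id, Category.id_comp, Category.comp_id] at hι
  subst hι
  rfl

theorem Trip.isIso (hZ : FibCat.IsFibGrpd 𝒵.p) {V : Over S} (τ : Trip u' y V) : IsIso τ.ι :=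
  τ.vert.isIso hZ

theorem Trip.exists_restrict (hZ : FibCat.IsFibGrpd 𝒵.p) {V W : Over S} (τ : Trip u' y V)
    (g : W ⟶ V) : ∃ τ' : Trip u' y W, ∃ (ht : g ≫ τ.t = τ'.t) (hv : g ≫ τ.v = τ'.v),
      τ'.ι ≫ y.map (ovHom g ht : Over.mk τ'.t ⟶ Over.mk τ.t) =
        u'.map (ovHom g hv : Over.mk τ'.v ⟶ Over.mk τ.v) ≫ τ.ι := by
  have h : eqToHom ((u'.w_obj (Over.mk (g ≫ τ.v))).trans (y.w_obj (Over.mk (g ≫ τ.t))).symm) ≫
      𝒵.p.map (y.map (Over.homMk g rfl : Over.mk (g ≫ τ.t) ⟶ Over.mk τ.t)) =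
      𝒵.p.map (u'.map (Over.homMk g rfl : Over.mk (g ≫ τ.v) ⟶ Over.mk τ.v) ≫ τ.ι) := by
    rw [map_map, Functor.map_comp, map_map, τ.vert.map_eq]
    simp [overCat_map]
  exact ⟨⟨g ≫ τ.t, g ≫ τ.v, factor hZ _ _ _ h, ⟨_, factor_map hZ _ _ _ h⟩⟩, rfl, rfl,
    factor_comp hZ _ _ _ h⟩

/-- Restriction of triples. -/
def Trip.restrict (hZ : FibCat.IsFibGrpd 𝒵.p) {V W : Over S} (τ : Trip u' y V) (g : W ⟶ V) :
    Trip u' y W :=
  (τ.exists_restrict hZ g).choose

theorem Trip.restrict_t (hZ : FibCat.IsFibGrpd 𝒵.p) {V W : Over S} (τ : Trip u' y V)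
    (g : W ⟶ V) : g ≫ τ.t = (τ.restrict hZ g).t :=
  (τ.exists_restrict hZ g).choose_spec.choose

theorem Trip.restrict_v (hZ : FibCat.IsFibGrpd 𝒵.p) {V W : Over S} (τ : Trip u' y V)
    (g : W ⟶ V) : g ≫ τ.v = (τ.restrict hZ g).v :=
  (τ.exists_restrict hZ g).choose_spec.choose_spec.choose

theorem Trip.restrict_ι (hZ : FibCat.IsFibGrpd 𝒵.p) {V W : Over S} (τ : Trip u' y V)
    (g : W ⟶ V) :
    (τ.restrict hZ g).ι ≫ y.map (ovHom g (τ.restrict_t hZ g) :
        Over.mk (τ.restrict hZ g).t ⟶ Over.mk τ.t) =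
      u'.map (ovHom g (τ.restrict_v hZ g) :
        Over.mk (τ.restrict hZ g).v ⟶ Over.mk τ.v) ≫ τ.ι :=
  (τ.exists_restrict hZ g).choose_spec.choose_spec.choose_spec

/-- Characterisation of restriction. -/
theorem Trip.restrict_eq (hZ : FibCat.IsFibGrpd 𝒵.p) {V W : Over S} (τ : Trip u' y V)
    (g : W ⟶ V) (τ' : Trip u' y W) (ht : g ≫ τ.t = τ'.t) (hv : g ≫ τ.v = τ'.v)
    (hι : τ'.ι ≫ y.map (ovHom g ht : Over.mk τ'.t ⟶ Over.mk τ.t) =
        u'.map (ovHom g hv : Over.mk τ'.v ⟶ Over.mk τ.v) ≫ τ.ι) :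
    τ.restrict hZ g = τ' := by
  refine Trip.ext ((τ.restrict_t hZ g).symm.trans ht) ((τ.restrict_v hZ g).symm.trans hv) ?_
  apply hom_eq_of_comp_eq hZ (y.map (ovHom g ht : Over.mk τ'.t ⟶ Over.mk τ.t))
  · simp [map_map, overCat_map, τ'.vert.map_eq, (τ.restrict hZ g).vert.map_eq]
  · rw [Category.assoc, hι, Category.assoc, ← y.toFunctor.map_comp, ← Category.assoc,
      ← u'.toFunctor.map_comp]
    have h1 : ∀ (a : Over.mk (τ.restrict hZ g).t ⟶ Over.mk τ.t) (_ : a.left = g),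
        (τ.restrict hZ g).ι ≫ y.map a = u'.map (ovHom g (τ.restrict_v hZ g) :
          Over.mk (τ.restrict hZ g).v ⟶ Over.mk τ.v) ≫ τ.ι := by
      intro a ha
      rw [show a = Over.homMk g (τ.restrict_t hZ g) from Over.OverMorphism.ext ha]
      exact τ.restrict_ι hZ g
    rw [h1 _ (Category.id_comp g)]
    congr 2

theorem Trip.restrict_id (hZ : FibCat.IsFibGrpd 𝒵.p) {V : Over S} (τ : Trip u' y V) :
    τ.restrict hZ (𝟙 V) = τ := by
  refine τ.restrict_eq hZ _ τ (Category.id_comp _) (Category.id_comp _) ?_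
  have h1 : (ovHom (𝟙 V) (Category.id_comp τ.t) : Over.mk τ.t ⟶ Over.mk τ.t) = 𝟙 _ :=
    Over.OverMorphism.ext rfl
  have h2 : (ovHom (𝟙 V) (Category.id_comp τ.v) : Over.mk τ.v ⟶ Over.mk τ.v) = 𝟙 _ :=
    Over.OverMorphism.ext rfl
  rw [h1, h2, y.toFunctor.map_id, u'.toFunctor.map_id, Category.comp_id, Category.id_comp]

theorem Trip.restrict_comp (hZ : FibCat.IsFibGrpd 𝒵.p) {V W W' : Over S} (τ : Trip u' y V)
    (g : W ⟶ V) (g' : W' ⟶ W) :
    τ.restrict hZ (g' ≫ g) = (τ.restrict hZ g).restrict hZ g' := by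
  have ht := ((τ.restrict hZ g).restrict_t hZ g')
  have hv := ((τ.restrict hZ g).restrict_v hZ g')
  refine τ.restrict_eq hZ _ _ ?_ ?_ ?_
  · rw [Category.assoc, τ.restrict_t hZ g, ht]
  · rw [Category.assoc, τ.restrict_v hZ g, hv]
  · have h1 : (ovHom (g' ≫ g) (by rw [Category.assoc, τ.restrict_t hZ g, ht]) :
        Over.mk ((τ.restrict hZ g).restrict hZ g').t ⟶ Over.mk τ.t) =
        (ovHom g' ht : Over.mk _ ⟶ Over.mk (τ.restrict hZ g).t) ≫
          ovHom g (τ.restrict_t hZ g) := Over.OverMorphism.ext rfl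
    have h2 : (ovHom (g' ≫ g) (by rw [Category.assoc, τ.restrict_v hZ g, hv]) :
        Over.mk ((τ.restrict hZ g).restrict hZ g').v ⟶ Over.mk τ.v) =
        (ovHom g' hv : Over.mk _ ⟶ Over.mk (τ.restrict hZ g).v) ≫
          ovHom g (τ.restrict_v hZ g) := Over.OverMorphism.ext rfl
    rw [h1, h2, y.toFunctor.map_comp, u'.toFunctor.map_comp, ← Category.assoc,
      (τ.restrict hZ g).restrict_ι hZ g', Category.assoc, τ.restrict_ι hZ g, Category.assoc]

variable (u' y)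

/-- The presheaf of triples. -/
def tripPsh (hZ : FibCat.IsFibGrpd 𝒵.p) : AlgSp.PSp S where
  obj V := Trip u' y V.unop
  map g := ↾fun τ => τ.restrict hZ g.unop
  map_id V := by ext τ; exact τ.restrict_id hZ
  map_comp g g' := by ext τ; exact τ.restrict_comp hZ g.unop g'.unop

/-- The map to `T`. -/
def tripPshT (hZ : FibCat.IsFibGrpd 𝒵.p) : tripPsh u' y hZ ⟶ (AlgSp.pyon S).obj T where
  app V := ↾fun τ => ⟨(τ : Trip u' y V.unop).t⟩
  naturality V W g := by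
    ext τ
    exact congrArg ULift.up (Trip.restrict_t hZ τ g.unop).symm

theorem trip_hom (hZ : FibCat.IsFibGrpd 𝒵.p) {a b : (Stk.ofPsh (tripPsh u' y hZ)).obj}
    (g : a ⟶ b) :
    ∃ (ht : g.hom ≫ (b.sec : Trip u' y b.base).t = (a.sec : Trip u' y a.base).t)
      (hv : g.hom ≫ (b.sec : Trip u' y b.base).v = (a.sec : Trip u' y a.base).v),
      (a.sec : Trip u' y a.base).ι ≫ y.map (ovHom g.hom ht) =
        u'.map (ovHom g.hom hv) ≫ (b.sec : Trip u' y b.base).ι := by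
  have key : ∀ {A B : Over S} (g : A ⟶ B) (τ : Trip u' y B) (σ : Trip u' y A),
      Trip.restrict hZ τ g = σ → ∃ (ht : g ≫ τ.t = σ.t) (hv : g ≫ τ.v = σ.v),
        σ.ι ≫ y.map (ovHom g ht) = u'.map (ovHom g hv) ≫ τ.ι := by
    rintro A B g τ _ rfl
    exact ⟨_, _, Trip.restrict_ι hZ τ g⟩
  exact key g.hom b.sec a.sec g.map_sec

/-- The functor to the fibre product. -/
def tripToFp (hZ : FibCat.IsFibGrpd 𝒵.p) :
    Stk.ofPsh (tripPsh u' y hZ) ⥤ᵇ FibCat.fp y u' where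
  toFunctor :=
    { obj := fun a =>
        haveI := Trip.isIso hZ (a.sec : Trip u' y a.base)
        fpMk (Over.mk (a.sec : Trip u' y a.base).t) (Over.mk (a.sec : Trip u' y a.base).v)
          (asIso (a.sec : Trip u' y a.base).ι).symm
          (IsVert.inv (φ := asIso (a.sec : Trip u' y a.base).ι) (a.sec : Trip u' y a.base).vert)
      map := fun {a b} g =>
        fpHom (ovHom g.hom (trip_hom u' y hZ g).choose)
          (ovHom g.hom (trip_hom u' y hZ g).choose_spec.choose)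
          (by
            haveI := Trip.isIso hZ (a.sec : Trip u' y a.base)
            haveI := Trip.isIso hZ (b.sec : Trip u' y b.base)
            show y.map _ ≫ inv (b.sec : Trip u' y b.base).ι =
              inv (a.sec : Trip u' y a.base).ι ≫ u'.map _
            rw [IsIso.eq_inv_comp, ← Category.assoc, IsIso.comp_inv_eq]
            exact (trip_hom u' y hZ g).choose_spec.choose_spec)
      map_id := fun a => fp_hom_ext (Over.OverMorphism.ext rfl) (Over.OverMorphism.ext rfl)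
      map_comp := fun g g' => fp_hom_ext (Over.OverMorphism.ext rfl) (Over.OverMorphism.ext rfl) }
  w := rfl

theorem isEquivOver_tripToFp (hZ : FibCat.IsFibGrpd 𝒵.p) :
    FibCat.IsEquivOver (tripToFp u' y hZ) := by
  refine isEquivOver_of_fullyFaithful _ ⟨fun {a b} m => ?_⟩
    ⟨fun {a b} g g' h => Stk.EltObj.hom_ext
      (congrArg CommaMorphism.left (congrArg (fun m => m.hom.fst) h))⟩ (fun x => ?_)
  · obtain ⟨A, σ⟩ := a
    obtain ⟨B, τ⟩ := b
    let τ' : Trip u' y B := τ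
    let σ' : Trip u' y A := σ
    haveI := Trip.isIso hZ σ'
    haveI := Trip.isIso hZ τ'
    let g₁ : (Over.mk σ'.t : Over T) ⟶ Over.mk τ'.t := m.hom.fst
    let g₂ : (Over.mk σ'.v : Over U) ⟶ Over.mk τ'.v := m.hom.snd
    have h₂ : g₂.left = g₁.left := by
      have e := fp_map_snd m
      simp only [overCat_map] at e
      refine e.trans ?_
      exact (Category.id_comp _).trans (Category.comp_id _)
    have w : y.map g₁ ≫ inv τ'.ι = inv σ'.ι ≫ u'.map g₂ := m.hom.w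
    have ht : g₁.left ≫ τ'.t = σ'.t := Over.w g₁
    have hv : g₁.left ≫ τ'.v = σ'.v := by rw [← h₂]; exact Over.w g₂
    have hg : Trip.restrict hZ τ' g₁.left = σ' := by
      refine Trip.restrict_eq hZ τ' _ σ' ht hv ?_
      rw [IsIso.comp_inv_eq, Category.assoc, IsIso.eq_inv_comp] at w
      rw [show (ovHom g₁.left ht : Over.mk σ'.t ⟶ Over.mk τ'.t) = g₁ from
        Over.OverMorphism.ext rfl, w]
      congr 2
      exact Over.OverMorphism.ext h₂
    refine ⟨(⟨g₁.left, hg⟩ : Stk.EltObj.Hom (⟨A, σ⟩ : Stk.EltObj _) ⟨B, τ⟩), ?_⟩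
    exact fp_hom_ext (Over.OverMorphism.ext rfl) (Over.OverMorphism.ext h₂.symm)
  · have hs : x.obj.snd.left = x.obj.fst.left := fp_p_snd x
    let v : x.obj.fst.left ⟶ U := eqToHom hs.symm ≫ x.obj.snd.hom
    let i : (Over.mk v : Over U) ≅ x.obj.snd := Over.isoMk (eqToIso hs.symm) rfl
    let j : (Over.mk x.obj.fst.hom : Over T) ≅ x.obj.fst := Over.isoMk (Iso.refl _) (Category.id_comp _)
    let τ : Trip u' y x.obj.fst.left :=
      { t := x.obj.fst.hom
        v := v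
        ι := u'.map i.hom ≫ x.obj.iso.inv ≫ y.map j.inv
        vert := (isVert_map (F := u') (φ := i.hom) ⟨hs.symm, rfl⟩).comp
          ((IsVert.inv (fp_isVert x)).comp
            (isVert_map (F := y) (φ := j.inv) ⟨rfl, rfl⟩)) }
    haveI := Trip.isIso hZ τ
    refine ⟨⟨x.obj.fst.left, τ⟩, fpObjIso j i ?_, ⟨rfl, rfl⟩⟩
    show y.map j.hom ≫ x.obj.iso.hom = inv τ.ι ≫ u'.map i.hom
    rw [IsIso.eq_inv_comp]
    show (u'.map i.hom ≫ x.obj.iso.inv ≫ y.map j.inv) ≫ y.map j.hom ≫ x.obj.iso.hom = u'.map i.hom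
    simp only [Category.assoc]
    rw [← y.toFunctor.map_comp_assoc, j.inv_hom_id, y.toFunctor.map_id, Category.id_comp,
      x.obj.iso.inv_hom_id, Category.comp_id]

/-- The sheaf of triples. -/
def tripSp (hZ : FibCat.IsFibGrpd 𝒵.p) (h : Presheaf.IsSheaf (AlgSp.J S) (tripPsh u' y hZ)) :
    AlgSp.Sp S := ⟨tripPsh u' y hZ, h⟩

/-- The map of the sheaf of triples to `T`. -/
def tripT (hZ : FibCat.IsFibGrpd 𝒵.p) (h : Presheaf.IsSheaf (AlgSp.J S) (tripPsh u' y hZ)) :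
    tripSp u' y hZ h ⟶ (AlgSp.yon S).obj T :=
  ObjectProperty.homMk (tripPshT u' y hZ)

theorem exists_trip (hZ : FibCat.IsFibGrpd 𝒵.p) (hu : AlgSt.RepByAlgSp1 u') :
    ∃ h : Presheaf.IsSheaf (AlgSp.J S) (tripPsh u' y hZ), AlgSp.IsAlgSpace (tripSp u' y hZ h) := by
  obtain ⟨F, e, he⟩ := hu T y
  obtain ⟨E', hE', -⟩ := isEquivOver_symm (isEquivOver_tripToFp u' y hZ)
  have := isIso_pshMapOf (isEquivOver_comp he hE')
  let φ := asIso (pshMapOf (BasedFunctor.comp e E'))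
  have hs : Presheaf.IsSheaf (AlgSp.J S) (tripPsh u' y hZ) :=
    (Presheaf.isSheaf_of_iso_iff φ).1 F.obj.property
  let φ' : F.obj ≅ tripSp u' y hZ hs :=
    { hom := ObjectProperty.homMk φ.hom
      inv := ObjectProperty.homMk φ.inv
      hom_inv_id := ObjectProperty.hom_ext _ φ.hom_inv_id
      inv_hom_id := ObjectProperty.hom_ext _ φ.inv_hom_id }
  exact ⟨hs, F.property.of_iso φ'⟩

theorem prop_tripT {Q : MorphismProperty (AlgSp.Sp S)} [Q.RespectsIso]
    (hZ : FibCat.IsFibGrpd 𝒵.p) (hu : AlgSt.RepByAlgSpWith Q u')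
    (h : Presheaf.IsSheaf (AlgSp.J S) (tripPsh u' y hZ)) : Q (tripT u' y hZ h) := by
  obtain ⟨F, e, he, hQ⟩ := hu T y
  obtain ⟨E', hE', -, ⟨β⟩⟩ := isEquivOver_symm (isEquivOver_tripToFp u' y hZ)
  let Φ : AlgSt.ofSp F.obj ⥤ᵇ AlgSt.ofSp (tripSp u' y hZ h) := BasedFunctor.comp e E'
  have := isIso_pshMapOf (P := F.obj.obj) (Q := tripPsh u' y hZ) (isEquivOver_comp he hE')
  have hiso : IsIso (mapOf Φ) := by
    refine ⟨ObjectProperty.homMk (inv (pshMapOf (BasedFunctor.comp e E'))), ?_, ?_⟩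
    · exact ObjectProperty.hom_ext _ (IsIso.hom_inv_id (pshMapOf (BasedFunctor.comp e E')))
    · exact ObjectProperty.hom_ext _ (IsIso.inv_hom_id (pshMapOf (BasedFunctor.comp e E')))
  let Ψ : AlgSt.ofSp (tripSp u' y hZ h) ⥤ᵇ FibCat.overCat T :=
    BasedFunctor.comp (tripToFp u' y hZ) (FibCat.fpFst y u')
  have hΨ : AlgSt.spMapOfOver Ψ = tripT u' y hZ h := by
    apply ObjectProperty.hom_ext
    ext V τ
    apply ULift.ext
    show eqToHom _ ≫ (Trip.t (τ : Trip u' y V.unop)) = Trip.t (τ : Trip u' y V.unop)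
    exact Category.id_comp _
  have key : AlgSt.spMapOfOver (BasedFunctor.comp e (FibCat.fpFst y u')) =
      mapOf Φ ≫ tripT u' y hZ h := by
    rw [← hΨ, ← spMapOfOver_comp]
    exact spMapOfOver_congr (whiskerLeftIso e
      (whiskerRightIso β.symm (FibCat.fpFst y u')))
  rw [key] at hQ
  exact (MorphismProperty.cancel_left_of_respectsIso Q _ _).1 hQ

end Groth.HenselPoint
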